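import Mathlib.Algebra.Azumaya.Defs
import Mathlib.LinearAlgebra.FreeModule.Basic
import Mathlib.LinearAlgebra.FreeModule.Finite.Basic
import Mathlib.LinearAlgebra.Matrix.ToLin
import Mathlib.RingTheory.LocalRing.MaximalIdeal.Basic
import Mathlib.Algebra.Algebra.Subalgebra.Basic
import Mathlib.Algebra.Algebra.Opposite
import Mathlib.RingTheory.TensorProduct.Maps

/-!
# Automorphisms of free Azumaya algebras over local rings are inner
-/

set_option autoImplicit false
noncomputable section

universe u v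

open scoped TensorProduct
open MulOpposite

namespace Groth.Agent.CliffSm

variable {R : Type u} [CommRing R] {C : Type v} [Ring C] [Algebra R C]

local notation "sand" => AlgHom.mulLeftRight R C

variable (hb : Function.Bijective (AlgHom.mulLeftRight R C)) (s : C →ₗ[R] R) (hs : s 1 = 1)

include hb in
theorem exists_rankOne (f : C →ₗ[R] R) : ∃ e : C ⊗[R] Cᵐᵒᵖ, ∀ x, sand e x = f x • (1 : C) := by
  obtain ⟨e, he⟩ := hb.2 (f.smulRight 1)
  exact ⟨e, fun x => by rw [he]; rfl⟩

include hb hs in
theorem center_eq_scalar {z : C} (hz : ∀ x, x * z = z * x) : ∃ r : R, z = algebraMap R C r := by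
  obtain ⟨e, he⟩ := exists_rankOne hb s
  have hcomm : ∀ (t : C ⊗[R] Cᵐᵒᵖ) x, sand t (z * x) = z * sand t x := fun t x => by
    induction t using TensorProduct.induction_on with
    | zero => simp
    | tmul a c => simp only [AlgHom.mulLeftRight_apply, ← mul_assoc, hz a]
    | add p q hp hq => simp only [map_add, LinearMap.add_apply, hp, hq, mul_add]
  refine ⟨s z, ?_⟩
  have h := hcomm e 1
  rw [mul_one, he, he, hs, one_smul, mul_one] at h
  rw [Algebra.algebraMap_eq_smul_one]
  exact h.symm

/-- The conjugation by an automorphism on the left factor. -/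
def twist (σ : C ≃ₐ[R] C) : C ⊗[R] Cᵐᵒᵖ →ₐ[R] C ⊗[R] Cᵐᵒᵖ :=
  Algebra.TensorProduct.map σ.toAlgHom (AlgHom.id R Cᵐᵒᵖ)

include hb in
/-- The twisted sandwich of a rank-one element lands in the intertwiners. -/
theorem twist_intertwines (σ : C ≃ₐ[R] C) (f : C →ₗ[R] R) {e : C ⊗[R] Cᵐᵒᵖ}
    (he : ∀ x, sand e x = f x • (1 : C)) (x c : C) :
    σ c * sand (twist σ e) x = sand (twist σ e) x * c := by
  have heq : ((c ⊗ₜ[R] (1 : Cᵐᵒᵖ)) * e) = (((1 : C) ⊗ₜ[R] op c) * e) := by
    refine hb.1 (LinearMap.ext fun y => ?_)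
    rw [map_mul, map_mul, Module.End.mul_apply, Module.End.mul_apply, he]
    simp
  have h := congrArg (fun t => sand (twist σ t) x) heq
  simp only [map_mul, Module.End.mul_apply, twist, Algebra.TensorProduct.map_tmul, AlgHom.id_apply,
    map_one, AlgHom.mulLeftRight_apply, unop_op, unop_one, one_mul, mul_one] at h
  exact h

include hb in
theorem isUnit_of_intertwines (σ : C ≃ₐ[R] C) {u : C} (hu : ∀ c, σ c * u = u * c) {f : C →ₗ[R] R}
    (hf : IsUnit (f u)) : IsUnit u := by
  obtain ⟨e, he⟩ := exists_rankOne hb f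
  have hsand : ∀ t : C ⊗[R] Cᵐᵒᵖ, (∃ c, sand t u = u * c) ∧ ∃ c, sand t u = c * u := fun t => by
    induction t using TensorProduct.induction_on with
    | zero => exact ⟨⟨0, by simp⟩, ⟨0, by simp⟩⟩
    | tmul a c =>
      constructor
      · refine ⟨σ.symm a * unop c, ?_⟩
        rw [AlgHom.mulLeftRight_apply, ← mul_assoc, ← hu, AlgEquiv.apply_symm_apply]
      · refine ⟨a * σ (unop c), ?_⟩
        rw [AlgHom.mulLeftRight_apply, mul_assoc, ← hu, mul_assoc]
    | add p q hp hq =>
      obtain ⟨⟨a, ha⟩, ⟨a', ha'⟩⟩ := hp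
      obtain ⟨⟨c, hc⟩, ⟨c', hc'⟩⟩ := hq
      exact ⟨⟨a + c, by rw [map_add, LinearMap.add_apply, ha, hc, mul_add]⟩,
        ⟨a' + c', by rw [map_add, LinearMap.add_apply, ha', hc', add_mul]⟩⟩
  obtain ⟨t, ht⟩ := hf
  obtain ⟨⟨a, ha⟩, ⟨a', ha'⟩⟩ := hsand e
  have h1 : u * ((↑t⁻¹ : R) • a) = 1 := by
    rw [mul_smul_comm, ← ha, he, ← ht, smul_smul, Units.inv_mul, one_smul]
  have h2 : ((↑t⁻¹ : R) • a') * u = 1 := by
    rw [smul_mul_assoc, ← ha', he, ← ht, smul_smul, Units.inv_mul, one_smul]
  exact isUnit_iff_exists_and_exists.2 ⟨⟨_, h1⟩, ⟨_, h2⟩⟩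

variable [Module.Free R C] [Module.Finite R C]

include hb hs in
/-- Skolem–Noether over a local ring. -/
theorem exists_skolemNoether [IsLocalRing R] (σ : C ≃ₐ[R] C) : ∃ u : Cˣ, ∀ c, σ c * u = u * c := by
  classical
  obtain ⟨e, he⟩ := exists_rankOne hb s
  let bC := Module.Free.chooseBasis R C
  by_cases hx : ∃ x i, IsUnit (bC.repr (sand (twist σ e) x) i)
  · obtain ⟨x, i, hi⟩ := hx
    have hu := fun c => twist_intertwines hb σ s he x c
    obtain ⟨u, hu'⟩ := isUnit_of_intertwines hb σ hu (f := bC.coord i) (by simpa using hi)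
    exact ⟨u, fun c => by rw [hu']; exact hu c⟩
  · exfalso
    simp only [not_exists] at hx
    set 𝔪 := IsLocalRing.maximalIdeal R
    have hin : sand (twist σ e) ∈ 𝔪 • (⊤ : Submodule R (Module.End R C)) := by
      rw [← (LinearMap.toMatrix bC bC).symm_apply_apply (sand (twist σ e)),
        Matrix.matrix_eq_sum_single (LinearMap.toMatrix bC bC (sand (twist σ e))), map_sum]
      refine Submodule.sum_mem _ fun i _ => ?_
      rw [map_sum]
      refine Submodule.sum_mem _ fun j _ => ?_
      rw [← mul_one (LinearMap.toMatrix bC bC (sand (twist σ e)) i j), ← smul_eq_mul, ← Matrix.smul_single,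
        map_smul]
      refine Submodule.smul_mem_smul ?_ trivial
      rw [LinearMap.toMatrix_apply]
      exact (IsLocalRing.mem_maximalIdeal _).2 (hx _ i)
    let Φ := LinearEquiv.ofBijective (sand).toLinearMap hb
    have h1 : twist σ e ∈ 𝔪 • (⊤ : Submodule R (C ⊗[R] Cᵐᵒᵖ)) := by
      have := Submodule.mem_map_of_mem (f := Φ.symm.toLinearMap) hin
      rw [Submodule.map_smul''] at this
      have h := Submodule.smul_mono le_rfl le_top this
      rwa [LinearEquiv.coe_coe, show Φ.symm (sand (twist σ e)) = twist σ e from Φ.symm_apply_apply _] at h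
    have h2 : e ∈ 𝔪 • (⊤ : Submodule R (C ⊗[R] Cᵐᵒᵖ)) := by
      have := Submodule.mem_map_of_mem (f := (twist σ.symm).toLinearMap) h1
      rw [Submodule.map_smul''] at this
      have h := Submodule.smul_mono le_rfl le_top this
      have hid : twist σ.symm (twist σ e) = e := by
        have hc : (twist σ.symm).comp (twist σ) = AlgHom.id R _ :=
          Algebra.TensorProduct.ext (AlgHom.ext fun a => by simp [twist]) (AlgHom.ext fun a => by simp [twist])
        exact congr($hc e)
      rwa [AlgHom.toLinearMap_apply, hid] at h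
    have h3 := Submodule.mem_map_of_mem
      (f := s ∘ₗ (LinearMap.applyₗ (1 : C)) ∘ₗ (sand).toLinearMap) h2
    rw [Submodule.map_smul''] at h3
    have h4 := Submodule.smul_mono le_rfl le_top h3
    rw [LinearMap.comp_apply, LinearMap.comp_apply, LinearMap.applyₗ_apply_apply, AlgHom.toLinearMap_apply, he,
      hs, one_smul, hs, smul_eq_mul, Ideal.mul_top] at h4
    exact (IsLocalRing.maximalIdeal.isMaximal R).ne_top ((Ideal.eq_top_iff_one _).2 h4)

end Groth.Agent.CliffSm
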