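import Groth.Agent.CliffSm.Basic
import Mathlib.RingTheory.TensorProduct.Free
import Mathlib.LinearAlgebra.TensorProduct.Tower

/-!
# Base change of Clifford algebras, without inverting two
-/

set_option autoImplicit false
noncomputable section

universe u

open CliffordAlgebra TensorProduct
open QuadGrp (baseChangeForm)

namespace Groth.Agent.CliffSm

variable {R : Type u} [CommRing R] {M : Type u} [AddCommGroup M] [Module R M] [Module.Free R M]
  (Q : QuadraticForm R M) (A : Type u) [CommRing A] [Algebra R A]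

theorem baseChangeForm_tmul (m : M) :
    baseChangeForm A Q ((1 : A) ⊗ₜ[R] m) = algebraMap R A (Q m) := by
  simp [baseChangeForm, QuadGrp.baseChange_tmul, Algebra.algebraMap_eq_smul_one]

/-- The vectors inside the base change of the Clifford algebra. -/
abbrev incl : A ⊗[R] M →ₗ[A] A ⊗[R] CliffordAlgebra Q := (ι Q).baseChange A

theorem incl_sq (v : A ⊗[R] M) :
    incl Q A v * incl Q A v = algebraMap A (A ⊗[R] CliffordAlgebra Q) (baseChangeForm A Q v) := by
  have key : LinearMap.BilinMap.toQuadraticMap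
      ((LinearMap.mul A (A ⊗[R] CliffordAlgebra Q)).compl₁₂ (incl Q A) (incl Q A)) =
      (Algebra.linearMap A (A ⊗[R] CliffordAlgebra Q)).compQuadraticMap (baseChangeForm A Q) := by
    refine baseChange_ext fun m => ?_
    rw [LinearMap.BilinMap.toQuadraticMap_apply, LinearMap.compl₁₂_apply, LinearMap.mul_apply',
      LinearMap.compQuadraticMap_apply, Algebra.linearMap_apply, baseChangeForm_tmul,
      LinearMap.baseChange_tmul, Algebra.TensorProduct.tmul_mul_tmul, one_mul, ι_sq_scalar,
      Algebra.TensorProduct.algebraMap_apply, Algebra.algebraMap_self, RingHom.id_apply]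
    rw [Algebra.algebraMap_eq_smul_one, Algebra.algebraMap_eq_smul_one, TensorProduct.tmul_smul,
      ← TensorProduct.smul_tmul']
  exact congrArg (fun p : QuadraticMap A (A ⊗[R] M) (A ⊗[R] CliffordAlgebra Q) => p v) key

/-- From the Clifford algebra of the base change. -/
def toT : CliffordAlgebra (baseChangeForm A Q) →ₐ[A] A ⊗[R] CliffordAlgebra Q :=
  CliffordAlgebra.lift _ ⟨incl Q A, incl_sq Q A⟩

theorem toT_ι (v : A ⊗[R] M) : toT Q A (ι _ v) = incl Q A v := lift_ι_apply _ _ v

/-- The map on Clifford algebras of the unit. -/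
def fromC : CliffordAlgebra Q →ₐ[R] CliffordAlgebra (baseChangeForm A Q) :=
  CliffordAlgebra.lift _
    ⟨(ι (baseChangeForm A Q)).restrictScalars R ∘ₗ (TensorProduct.mk R A M 1), fun m => by
      show ι (baseChangeForm A Q) ((1 : A) ⊗ₜ[R] m) * ι (baseChangeForm A Q) ((1 : A) ⊗ₜ[R] m) = _
      rw [ι_sq_scalar, baseChangeForm_tmul, ← IsScalarTower.algebraMap_apply]⟩

theorem fromC_ι (m : M) : fromC Q A (ι Q m) = ι _ ((1 : A) ⊗ₜ[R] m) := lift_ι_apply _ _ m

/-- To the Clifford algebra of the base change. -/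
def ofT : A ⊗[R] CliffordAlgebra Q →ₐ[A] CliffordAlgebra (baseChangeForm A Q) :=
  Algebra.TensorProduct.lift (Algebra.ofId A _) (fromC Q A) fun a x => Algebra.commutes a _

theorem ofT_tmul (a : A) (x : CliffordAlgebra Q) : ofT Q A (a ⊗ₜ[R] x) = a • fromC Q A x := by
  show algebraMap A _ a * fromC Q A x = _
  rw [← Algebra.smul_def]

theorem ofT_incl (v : A ⊗[R] M) : ofT Q A (incl Q A v) = ι _ v := by
  induction v using TensorProduct.induction_on with
  | zero => simp
  | tmul a m =>
    rw [LinearMap.baseChange_tmul, ofT_tmul, fromC_ι, ← map_smul, TensorProduct.smul_tmul',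
      smul_eq_mul, mul_one]
  | add x y hx hy => rw [map_add, map_add, hx, hy, map_add]

theorem toT_fromC (x : CliffordAlgebra Q) : toT Q A (fromC Q A x) = 1 ⊗ₜ[R] x := by
  have : ((toT Q A).restrictScalars R).comp (fromC Q A) = Algebra.TensorProduct.includeRight := by
    refine CliffordAlgebra.hom_ext (LinearMap.ext fun m => ?_)
    show toT Q A (fromC Q A (ι Q m)) = 1 ⊗ₜ[R] ι Q m
    rw [fromC_ι, toT_ι, LinearMap.baseChange_tmul]
  exact congr($this x)

/-- The base change isomorphism. -/
def equivT : CliffordAlgebra (baseChangeForm A Q) ≃ₐ[A] A ⊗[R] CliffordAlgebra Q :=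
  AlgEquiv.ofAlgHom (toT Q A) (ofT Q A)
    (Algebra.TensorProduct.ext (AlgHom.ext fun a => by
      show toT Q A (ofT Q A (a ⊗ₜ[R] 1)) = a ⊗ₜ[R] 1
      rw [ofT_tmul, map_one, map_smul, map_one, Algebra.TensorProduct.one_def,
        TensorProduct.smul_tmul', smul_eq_mul, mul_one]) (AlgHom.ext fun x => by
      show toT Q A (ofT Q A (1 ⊗ₜ[R] x)) = 1 ⊗ₜ[R] x
      rw [ofT_tmul, one_smul, toT_fromC]))
    (CliffordAlgebra.hom_ext (LinearMap.ext fun v => by
      show ofT Q A (toT Q A (ι _ v)) = ι _ v
      rw [toT_ι, ofT_incl]))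

theorem equivT_ι (v : A ⊗[R] M) : equivT Q A (ι _ v) = incl Q A v := toT_ι Q A v

variable [Module.Finite R M]

/-- The index of the basis. -/
abbrev CIdx : Type u := Module.Free.ChooseBasisIndex R (CliffordAlgebra Q)

/-- The natural basis. -/
def cBasis : Module.Basis (CIdx Q) A (CliffordAlgebra (baseChangeForm A Q)) :=
  ((Module.Free.chooseBasis R (CliffordAlgebra Q)).baseChange A).map (equivT Q A).symm.toLinearEquiv

section Map

variable {A} {B : Type u} [CommRing B] [Algebra R B] (φ : A →ₐ[R] B)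

/-- Functoriality. -/
def cMap : CliffordAlgebra (baseChangeForm A Q) →+* CliffordAlgebra (baseChangeForm B Q) :=
  (equivT Q B).symm.toAlgHom.toRingHom.comp
    ((Algebra.TensorProduct.map φ (AlgHom.id R (CliffordAlgebra Q))).toRingHom.comp
      (equivT Q A).toAlgHom.toRingHom)

omit [Module.Finite R M] in
theorem cMap_apply (x : CliffordAlgebra (baseChangeForm A Q)) :
    cMap Q φ x = (equivT Q B).symm
      (Algebra.TensorProduct.map φ (AlgHom.id R (CliffordAlgebra Q)) (equivT Q A x)) := rfl

omit [Module.Finite R M] in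
theorem cMap_ι (v : A ⊗[R] M) :
    cMap Q φ (ι _ v) = ι _ (LinearMap.rTensor M φ.toLinearMap v) := by
  rw [cMap_apply, AlgEquiv.symm_apply_eq, equivT_ι, equivT_ι]
  induction v using TensorProduct.induction_on with
  | zero => simp
  | tmul a m => simp
  | add x y hx hy => simp only [map_add, hx, hy]

omit [Module.Finite R M] in
theorem cMap_algebraMap (a : A) :
    cMap Q φ (algebraMap A _ a) = algebraMap B _ (φ a) := by
  rw [cMap_apply, AlgEquiv.commutes, AlgEquiv.symm_apply_eq, AlgEquiv.commutes]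
  simp [Algebra.TensorProduct.algebraMap_apply]

omit [Module.Finite R M] in
theorem cMap_smul (a : A) (x : CliffordAlgebra (baseChangeForm A Q)) :
    cMap Q φ (a • x) = φ a • cMap Q φ x := by
  rw [Algebra.smul_def, map_mul, cMap_algebraMap, ← Algebra.smul_def]

theorem repr_cMap (x : CliffordAlgebra (baseChangeForm A Q)) (k : CIdx Q) :
    (cBasis Q B).repr (cMap Q φ x) k = φ ((cBasis Q A).repr x k) := by
  simp only [cBasis, cMap_apply, Module.Basis.map_repr, LinearEquiv.trans_apply]
  show ((Module.Free.chooseBasis R (CliffordAlgebra Q)).baseChange B).repr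
      (equivT Q B ((equivT Q B).symm _)) k =
    φ (((Module.Free.chooseBasis R (CliffordAlgebra Q)).baseChange A).repr (equivT Q A x) k)
  rw [AlgEquiv.apply_symm_apply]
  generalize equivT Q A x = t
  induction t using TensorProduct.induction_on with
  | zero => simp
  | tmul a c => simp [map_smul]
  | add x y hx hy => simp only [map_add, Finsupp.coe_add, Pi.add_apply, hx, hy]

theorem cMap_basis (k : CIdx Q) : cMap Q φ (cBasis Q A k) = cBasis Q B k := by
  refine (cBasis Q B).ext_elem fun l => ?_
  rw [repr_cMap, Module.Basis.repr_self, Module.Basis.repr_self, Finsupp.single_apply,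
    Finsupp.single_apply]
  split_ifs <;> simp

theorem cMap_surjective (hφ : Function.Surjective φ) : Function.Surjective (cMap Q φ) := by
  intro y
  choose a ha using fun k => hφ ((cBasis Q B).repr y k)
  refine ⟨∑ k, a k • cBasis Q A k, ?_⟩
  simp only [map_sum, cMap_smul, cMap_basis, ha]
  exact (cBasis Q B).sum_repr y

omit [Module.Finite R M] in
theorem cMap_mem_evenOdd {i : ZMod 2} {x : CliffordAlgebra (baseChangeForm A Q)}
    (hx : x ∈ evenOdd _ i) : cMap Q φ x ∈ evenOdd _ i := by
  refine CliffordAlgebra.evenOdd_induction (baseChangeForm A Q) i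
    (motive := fun x _ => cMap Q φ x ∈ evenOdd (baseChangeForm B Q) i) (fun v hv => ?_)
    (fun x y _ _ hx hy => by rw [map_add]; exact add_mem hx hy) (fun m₁ m₂ x _ hx => ?_) x hx
  · obtain rfl | rfl : i = 0 ∨ i = 1 := (show ∀ j : ZMod 2, j = 0 ∨ j = 1 by decide) i
    · rw [ZMod.val_zero, pow_zero] at hv
      obtain ⟨r, rfl⟩ := Submodule.mem_one.1 hv
      rw [cMap_algebraMap]
      exact SetLike.algebraMap_mem_graded (evenOdd (baseChangeForm B Q)) _
    · rw [ZMod.val_one, pow_one] at hv
      obtain ⟨w, rfl⟩ := hv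
      rw [cMap_ι]
      exact ι_mem_evenOdd_one _ _
  · rw [map_mul, map_mul, cMap_ι, cMap_ι]
    exact zero_add i ▸ SetLike.mul_mem_graded (ι_mul_ι_mem_evenOdd_zero _ _ _) hx

omit [Module.Finite R M] in
theorem cMap_part (i : ZMod 2) (x : CliffordAlgebra (baseChangeForm A Q)) :
    cMap Q φ (part _ i x) = part _ i (cMap Q φ x) := by
  conv_rhs => rw [← part_add _ x, map_add, map_add]
  have hm := fun j => cMap_mem_evenOdd Q φ (part_mem (baseChangeForm A Q) j x)
  obtain rfl | rfl : i = 0 ∨ i = 1 := (show ∀ j : ZMod 2, j = 0 ∨ j = 1 by decide) i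
  · rw [part_of_mem _ (hm 0), part_of_mem_ne _ (hm 1) one_ne_zero, add_zero]
  · rw [part_of_mem_ne _ (hm 0) zero_ne_one, part_of_mem _ (hm 1), zero_add]

theorem mem_smul_top_of_cMap_eq_zero {I : Ideal A} (hI : ∀ a, φ a = 0 → a ∈ I)
    {x : CliffordAlgebra (baseChangeForm A Q)} (hx : cMap Q φ x = 0) :
    x ∈ I • (⊤ : Submodule A (CliffordAlgebra (baseChangeForm A Q))) := by
  rw [← (cBasis Q A).sum_repr x]
  refine Submodule.sum_mem _ fun k _ => Submodule.smul_mem_smul (hI _ ?_) trivial
  rw [← repr_cMap, hx, map_zero, Finsupp.zero_apply]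

theorem cMap_eq_zero {I : Ideal A} (hI : ∀ a ∈ I, φ a = 0)
    {x : CliffordAlgebra (baseChangeForm A Q)}
    (hx : x ∈ I • (⊤ : Submodule A (CliffordAlgebra (baseChangeForm A Q)))) : cMap Q φ x = 0 :=
  Submodule.smul_induction_on hx (fun a ha y _ => by rw [cMap_smul, hI a ha, zero_smul])
    fun a b ha hb => by rw [map_add, ha, hb, add_zero]

end Map

end Groth.Agent.CliffSm
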