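import Groth.Prelude.Def_QuadGrp
import Mathlib.LinearAlgebra.CliffordAlgebra.Contraction
import Mathlib.LinearAlgebra.ExteriorAlgebra.Basis
import Mathlib.RingTheory.Ideal.Basic

/-!
# Clifford algebras of free modules without inverting two
-/

set_option autoImplicit false
noncomputable section

universe u v

open CliffordAlgebra

namespace Groth.Agent.CliffSm

variable {S : Type u} [CommRing S] {M : Type v} [AddCommGroup M] [Module S M]

section Free

variable [Module.Free S M] (Q : QuadraticForm S M)

/-- A bilinear form with quadratic form `-Q`. -/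
def negLift : LinearMap.BilinForm S M :=
  (LinearMap.BilinMap.toQuadraticMap_surjective (-Q)).choose

theorem negLift_spec : (negLift Q).toQuadraticMap = 0 - Q := by
  rw [zero_sub]; exact (LinearMap.BilinMap.toQuadraticMap_surjective (-Q)).choose_spec

/-- The Clifford algebra as a module is the exterior algebra. -/
def toExt : CliffordAlgebra Q ≃ₗ[S] ExteriorAlgebra S M := changeFormEquiv (negLift_spec Q)

theorem toExt_ι (m : M) : toExt Q (ι Q m) = ExteriorAlgebra.ι S m :=
  changeForm_ι (negLift_spec Q) m

theorem toExt_algebraMap (r : S) : toExt Q (algebraMap S _ r) = algebraMap S _ r :=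
  changeForm_algebraMap (negLift_spec Q) r

theorem ι_injective : Function.Injective (ι Q : M → CliffordAlgebra Q) := by
  intro x y h
  have := congrArg (toExt Q) h
  rw [toExt_ι, toExt_ι] at this
  exact (ExteriorAlgebra.ι_leftInverse (R := S)).injective this

/-- The scalar part. -/
def scalarPart : CliffordAlgebra Q →ₗ[S] S :=
  ExteriorAlgebra.algebraMapInv.toLinearMap ∘ₗ (toExt Q).toLinearMap

theorem scalarPart_algebraMap (r : S) : scalarPart Q (algebraMap S _ r) = r := by
  show ExteriorAlgebra.algebraMapInv (toExt Q (algebraMap S _ r)) = r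
  rw [toExt_algebraMap, AlgHom.commutes]; rfl

theorem algebraMap_injective : Function.Injective (algebraMap S (CliffordAlgebra Q)) :=
  Function.LeftInverse.injective (scalarPart_algebraMap Q)

variable [Module.Finite S M]

instance : Module.Free S (CliffordAlgebra Q) := by
  classical
  let b := Module.Free.chooseBasis S M
  exact Module.Free.of_basis
    (((b.reindex (Fintype.equivFin _)).ExteriorAlgebra).map (toExt Q).symm)

instance : Module.Finite S (CliffordAlgebra Q) := by
  classical
  let b := Module.Free.chooseBasis S M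
  exact Module.Finite.of_basis
    (((b.reindex (Fintype.equivFin _)).ExteriorAlgebra).map (toExt Q).symm)

end Free

section Grading

variable (Q : QuadraticForm S M)

/-- The homogeneous parts. -/
def part (i : ZMod 2) : CliffordAlgebra Q →ₗ[S] CliffordAlgebra Q := GradedAlgebra.proj (evenOdd Q) i

theorem part_mem (i : ZMod 2) (x : CliffordAlgebra Q) : part Q i x ∈ evenOdd Q i := by
  rw [part, GradedAlgebra.proj_apply]; exact SetLike.coe_mem _

theorem part_of_mem {i : ZMod 2} {x : CliffordAlgebra Q} (h : x ∈ evenOdd Q i) : part Q i x = x := by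
  rw [part, GradedAlgebra.proj_apply, DirectSum.decompose_of_mem_same _ h]

theorem part_of_mem_ne {i j : ZMod 2} {x : CliffordAlgebra Q} (h : x ∈ evenOdd Q j) (hij : j ≠ i) :
    part Q i x = 0 := by
  rw [part, GradedAlgebra.proj_apply, DirectSum.decompose_of_mem_ne _ h hij]

theorem part_add (x : CliffordAlgebra Q) : part Q 0 x + part Q 1 x = x := by
  obtain ⟨a, ha, b, hb, rfl⟩ :=
    Submodule.mem_sup.1 (show x ∈ evenOdd Q 0 ⊔ evenOdd Q 1 by
      rw [(evenOdd_isCompl Q).sup_eq_top]; trivial)
  simp only [map_add, part_of_mem Q ha, part_of_mem Q hb, part_of_mem_ne Q ha zero_ne_one,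
    part_of_mem_ne Q hb one_ne_zero, add_zero, zero_add]

theorem mem_even_iff (x : CliffordAlgebra Q) : x ∈ evenOdd Q 0 ↔ part Q 1 x = 0 :=
  ⟨fun h => part_of_mem_ne Q h zero_ne_one, fun h => by
    rw [← part_add Q x, h, add_zero]; exact part_mem Q 0 x⟩

theorem mem_odd_iff (x : CliffordAlgebra Q) : x ∈ evenOdd Q 1 ↔ part Q 0 x = 0 :=
  ⟨fun h => part_of_mem_ne Q h one_ne_zero, fun h => by
    rw [← part_add Q x, h, zero_add]; exact part_mem Q 1 x⟩

/-- Supercommutation with a vector. -/
theorem contractLeft_polar (x : M) (z : CliffordAlgebra Q) :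
    contractLeft (QuadraticMap.polarBilin Q x) z = ι Q x * z - involute z * ι Q x := by
  induction z using CliffordAlgebra.left_induction with
  | algebraMap r =>
    rw [contractLeft_algebraMap, AlgHom.commutes, Algebra.commutes r (ι Q x), sub_self]
  | add a b ha hb => rw [map_add, map_add, ha, hb, mul_add, add_mul]; abel
  | ι_mul a m ha =>
    rw [contractLeft_ι_mul, ha, map_mul, involute_ι, mul_sub, QuadraticMap.polarBilin_apply_apply,
      Algebra.smul_def, ← ι_mul_ι_add_swap]
    simp only [add_mul, mul_sub, mul_assoc, neg_mul, sub_neg_eq_add]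
    abel

theorem contractLeft_polar_even {z : CliffordAlgebra Q} (hz : z ∈ evenOdd Q 0) (x : M) :
    contractLeft (QuadraticMap.polarBilin Q x) z = ι Q x * z - z * ι Q x := by
  rw [contractLeft_polar, involute_eq_of_mem_even hz]

theorem contractLeft_polar_odd {z : CliffordAlgebra Q} (hz : z ∈ evenOdd Q 1) (x : M) :
    contractLeft (QuadraticMap.polarBilin Q x) z = ι Q x * z + z * ι Q x := by
  rw [contractLeft_polar, involute_eq_of_mem_odd hz, neg_mul, sub_neg_eq_add]

theorem contractLeft_polar_mem {z : CliffordAlgebra Q} {i : ZMod 2} (hz : z ∈ evenOdd Q i) (x : M) :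
    contractLeft (QuadraticMap.polarBilin Q x) z ∈ evenOdd Q (i + 1) := by
  have h1 : ι Q x * z ∈ evenOdd Q (i + 1) := by
    rw [add_comm]; exact SetLike.mul_mem_graded (ι_mem_evenOdd_one Q x) hz
  have h2 : z * ι Q x ∈ evenOdd Q (i + 1) := SetLike.mul_mem_graded hz (ι_mem_evenOdd_one Q x)
  fin_cases i
  · rw [contractLeft_polar_even Q hz]; exact sub_mem h1 h2
  · rw [contractLeft_polar_odd Q hz]; exact add_mem h1 h2

end Grading

section IdealSmul

variable {I : Ideal S} {P P' : Type*} [AddCommGroup P] [Module S P] [AddCommGroup P'] [Module S P']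

theorem map_mem_smul_top (f : P →ₗ[S] P') {x : P} (h : x ∈ I • (⊤ : Submodule S P)) :
    f x ∈ I • (⊤ : Submodule S P') :=
  Submodule.smul_induction_on h
    (fun a ha y _ => by rw [map_smul]; exact Submodule.smul_mem_smul ha trivial)
    (fun a b ha hb => by rw [map_add]; exact add_mem ha hb)

theorem eq_zero_of_sq (hI : I ^ 2 = ⊥) (f : P →ₗ[S] P') {x : P}
    (hf : ∀ y, f y ∈ I • (⊤ : Submodule S P')) (h : x ∈ I • (⊤ : Submodule S P)) : f x = 0 :=
  Submodule.smul_induction_on h
    (fun a ha y _ => by
      rw [map_smul]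
      refine Submodule.smul_induction_on (hf y) (fun b hb z _ => ?_)
        (fun z w hz hw => by rw [smul_add, hz, hw, add_zero])
      rw [smul_smul, show a * b = 0 by
        have := Ideal.mul_mem_mul ha hb
        rwa [← pow_two, hI, Ideal.mem_bot] at this, zero_smul])
    (fun a b ha hb => by rw [map_add, ha, hb, add_zero])

theorem mul_eq_zero_of_sq {C : Type*} [Ring C] [Algebra S C] (hI : I ^ 2 = ⊥) {x y : C}
    (hx : x ∈ I • (⊤ : Submodule S C)) (hy : y ∈ I • (⊤ : Submodule S C)) : x * y = 0 :=
  eq_zero_of_sq (f := LinearMap.mulLeft S x) hI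
    (fun z => map_mem_smul_top (LinearMap.mulRight S z) hx) hy

end IdealSmul

end Groth.Agent.CliffSm
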