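import Groth.Agent.Azumaya.Fibre
import Mathlib.RingTheory.Etale.Descent
import Mathlib.RingTheory.Etale.Pi
import Mathlib.RingTheory.Finiteness.ModuleFinitePresentation
import Mathlib.RingTheory.Spectrum.Prime.FreeLocus

/-!
# Algebras which are locally a product of two matrix algebras
-/

set_option autoImplicit false
noncomputable section

universe u v

open TensorProduct

namespace Groth.Agent.CliffSm

variable {R : Type u} [CommRing R] {C : Type v} [Ring C] [Algebra R C]
  (A' : Type u) [CommRing A'] [Algebra R A']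

/-- The base change of the centre. -/
def centerT : A' ⊗[R] ↥(Subalgebra.center R C) →ₐ[A'] A' ⊗[R] C :=
  Algebra.TensorProduct.map (AlgHom.id A' A') (Subalgebra.center R C).val

theorem centerT_injective [Module.Flat R A'] : Function.Injective (centerT (R := R) (C := C) A') := by
  have : (centerT (R := R) (C := C) A' : A' ⊗[R] ↥(Subalgebra.center R C) → A' ⊗[R] C) =
      ((Subalgebra.center R C).val.toLinearMap.lTensor A') := by
    funext t
    induction t using TensorProduct.induction_on with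
    | zero => simp
    | tmul a z => simp [centerT]
    | add x y hx hy => simp only [map_add, hx, hy]
  rw [this]
  exact Module.Flat.lTensor_preserves_injective_linearMap _ Subtype.val_injective

theorem centerT_comm (z : A' ⊗[R] ↥(Subalgebra.center R C)) (x : A' ⊗[R] C) :
    centerT (R := R) (C := C) A' z * x = x * centerT (R := R) (C := C) A' z := by
  induction z using TensorProduct.induction_on with
  | zero => simp
  | add y z hy hz => rw [map_add, add_mul, mul_add, hy, hz]
  | tmul a z =>
    induction x using TensorProduct.induction_on with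
    | zero => simp
    | add y x hy hx => rw [mul_add, add_mul, hy, hx]
    | tmul b c =>
      simp only [centerT, Algebra.TensorProduct.map_tmul, AlgHom.id_apply, Algebra.TensorProduct.tmul_mul_tmul,
        mul_comm a b, Subalgebra.coe_val]
      rw [Subalgebra.mem_center_iff.1 z.2 c]

theorem mem_centerT_range [Module.Flat R A'] [Module.Finite R C] {x : A' ⊗[R] C}
    (hx : ∀ c : C, ((1 : A') ⊗ₜ[R] c) * x = x * ((1 : A') ⊗ₜ[R] c)) :
    ∃ z, centerT (R := R) (C := C) A' z = x := by
  obtain ⟨n, g, hg⟩ := Module.Finite.exists_fin (R := R) (M := C)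
  let D : C →ₗ[R] (Fin n → C) := LinearMap.pi fun i => LinearMap.mulLeft R (g i) - LinearMap.mulRight R (g i)
  have hex : Function.Exact (Subalgebra.center R C).val.toLinearMap D := fun c => by
    refine ⟨fun h => ?_, ?_⟩
    · refine ⟨⟨c, Subalgebra.mem_center_iff.2 fun b => ?_⟩, rfl⟩
      have hb : b ∈ Submodule.span R (Set.range g) := hg ▸ Submodule.mem_top
      have : b ∈ LinearMap.ker (LinearMap.mulRight R c - LinearMap.mulLeft R c) := by
        refine (Submodule.span_le.2 ?_) hb
        rintro _ ⟨i, rfl⟩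
        exact congrFun h i
      simpa [sub_eq_zero] using this
    · rintro ⟨z, rfl⟩
      funext i
      simp [D, sub_eq_zero, Subalgebra.mem_center_iff.1 z.2 (g i)]
  have key : ∀ (y : A' ⊗[R] C) (i : Fin n),
      TensorProduct.piRight R R A' (fun _ : Fin n => C) (D.lTensor A' y) i =
        ((1 : A') ⊗ₜ[R] g i) * y - y * ((1 : A') ⊗ₜ[R] g i) := by
    intro y i
    induction y using TensorProduct.induction_on with
    | zero => simp
    | tmul a c => simp [D, tmul_sub]
    | add s t hs ht => simp only [map_add, Pi.add_apply, hs, ht, mul_add, add_mul]; abel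
  have h0 : D.lTensor A' x = 0 :=
    (TensorProduct.piRight R R A' (fun _ : Fin n => C)).injective (funext fun i => by simp [key, hx])
  obtain ⟨z, hz⟩ := (Module.Flat.lTensor_exact A' hex x).1 h0
  refine ⟨z, ?_⟩
  rw [← hz]
  clear hz h0 hx
  induction z using TensorProduct.induction_on with
  | zero => simp
  | tmul a z => simp [centerT]
  | add s t hs ht => simp only [map_add, hs, ht]

variable {r : ℕ}

local notation "M2" => Matrix (Fin r) (Fin r) A'

/-- Scalars of a product of two matrix algebras. -/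
def scal : A' × A' →ₐ[A'] M2 × M2 :=
  ((Algebra.ofId A' M2).comp (AlgHom.fst A' A' A')).prod ((Algebra.ofId A' M2).comp (AlgHom.snd A' A' A'))

theorem scal_injective (hr : 1 ≤ r) : Function.Injective (scal (A' := A') (r := r)) := fun a b h => by
  haveI : Nonempty (Fin r) := ⟨⟨0, hr⟩⟩
  exact Prod.ext (Matrix.scalar_inj.1 (congrArg Prod.fst h)) (Matrix.scalar_inj.1 (congrArg Prod.snd h))

theorem exists_centerEquiv [Module.Flat R A'] [Module.Finite R C] (hr : 1 ≤ r)
    (Θ : (A' ⊗[R] C) ≃ₐ[A'] M2 × M2) :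
    ∃ σ : (A' ⊗[R] ↥(Subalgebra.center R C)) ≃ₐ[A'] A' × A', ∀ s, Θ (centerT (R := R) (C := C) A' s) = scal A' (σ s) := by
  let φ := Θ.toAlgHom.comp (centerT (R := R) (C := C) A')
  have hφ : Function.Injective φ := Θ.injective.comp (centerT_injective A')
  have heq : φ.range = (scal (A' := A') (r := r)).range := by
    refine le_antisymm ?_ ?_
    · rintro _ ⟨s, rfl⟩
      have hc : ∀ X : M2 × M2, φ s * X = X * φ s := fun X => by
        obtain ⟨x, rfl⟩ := Θ.surjective X
        show Θ _ * Θ x = Θ x * Θ _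
        exact (map_mul Θ _ _).symm.trans ((congrArg Θ (centerT_comm A' s x)).trans (map_mul Θ _ _))
      obtain ⟨a, ha⟩ := Matrix.mem_range_scalar_of_commute_single (M := (φ s).1)
        fun i j _ => (congrArg Prod.fst (hc (Matrix.single i j 1, 0))).symm
      obtain ⟨b, hb⟩ := Matrix.mem_range_scalar_of_commute_single (M := (φ s).2)
        fun i j _ => (congrArg Prod.snd (hc (0, Matrix.single i j 1))).symm
      exact ⟨(a, b), Prod.ext ha hb⟩
    · rintro _ ⟨q, rfl⟩
      obtain ⟨z, hz⟩ := mem_centerT_range A' (x := Θ.symm (scal A' q)) fun c => Θ.injective (by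
        rw [map_mul, map_mul, AlgEquiv.apply_symm_apply]
        exact Prod.ext (Matrix.scalar_commute q.1 (fun _ => Commute.all _ _) _).symm
          (Matrix.scalar_commute q.2 (fun _ => Commute.all _ _) _).symm)
      exact ⟨z, by show Θ (centerT (R := R) (C := C) A' z) = _; rw [hz, AlgEquiv.apply_symm_apply]; rfl⟩
  let e₂ := AlgEquiv.ofInjective (scal (A' := A') (r := r)) (scal_injective A' hr)
  refine ⟨((AlgEquiv.ofInjective φ hφ).trans (Subalgebra.equivOfEq _ _ heq)).trans e₂.symm, fun s => ?_⟩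
  have h := congrArg Subtype.val (e₂.apply_symm_apply (Subalgebra.equivOfEq _ _ heq (AlgEquiv.ofInjective φ hφ s)))
  exact h.symm

/-- A pair of matrices as a matrix of pairs. -/
def pairMatrix : (M2 × M2) ≃+* Matrix (Fin r) (Fin r) (A' × A') where
  toFun X := Matrix.of fun i j => (X.1 i j, X.2 i j)
  invFun Y := (Y.map Prod.fst, Y.map Prod.snd)
  left_inv X := rfl
  right_inv Y := rfl
  map_mul' X Y := by
    ext i j <;> simp [Matrix.mul_apply, Prod.fst_sum, Prod.snd_sum]
  map_add' X Y := rfl

theorem pairMatrix_scal (q : A' × A') : pairMatrix A' (scal A' q) = Matrix.scalar (Fin r) q := by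
  ext i j <;> by_cases h : i = j <;> simp [pairMatrix, scal, h, Algebra.ofId_apply, Matrix.algebraMap_matrix_apply]

theorem center_properties [Module.FaithfullyFlat R A'] [Module.Finite R C] (hr : 1 ≤ r)
    (Θ : (A' ⊗[R] C) ≃ₐ[A'] M2 × M2) :
    Algebra.Etale R ↥(Subalgebra.center R C) ∧ Module.Finite R ↥(Subalgebra.center R C) ∧
      Module.Projective R ↥(Subalgebra.center R C) ∧
      ∀ p : PrimeSpectrum R, Module.rankAtStalk ↥(Subalgebra.center R C) p = 2 := by
  obtain ⟨σ, -⟩ := exists_centerEquiv A' hr Θ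
  let e2 : (Fin 2 → A') ≃ₐ[A'] A' × A' :=
    AlgEquiv.ofBijective ((Pi.evalAlgHom A' (fun _ : Fin 2 => A') 0).prod (Pi.evalAlgHom A' (fun _ : Fin 2 => A') 1))
      ⟨fun f g h => funext fun i => by fin_cases i; exacts [congrArg Prod.fst h, congrArg Prod.snd h],
        fun q => ⟨![q.1, q.2], rfl⟩⟩
  haveI : Algebra.Etale A' (A' ⊗[R] ↥(Subalgebra.center R C)) := Algebra.Etale.of_equiv (e2.trans σ.symm)
  haveI : Module.Finite A' (A' ⊗[R] ↥(Subalgebra.center R C)) := Module.Finite.equiv σ.symm.toLinearEquiv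
  haveI het : Algebra.Etale R ↥(Subalgebra.center R C) := Algebra.Etale.of_etale_tensorProduct_of_faithfullyFlat A'
  haveI hfin : Module.Finite R ↥(Subalgebra.center R C) := Module.Finite.of_finite_tensorProduct_of_faithfullyFlat A'
  haveI : Module.FinitePresentation R ↥(Subalgebra.center R C) :=
    Module.FinitePresentation.of_finite_of_finitePresentation R ↥(Subalgebra.center R C)
  haveI : Module.Flat R ↥(Subalgebra.center R C) := inferInstance
  haveI hproj : Module.Projective R ↥(Subalgebra.center R C) := Module.Flat.projective_of_finitePresentation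
  refine ⟨het, hfin, hproj, fun p => ?_⟩
  obtain ⟨q, rfl⟩ := PrimeSpectrum.comap_surjective_of_faithfullyFlat (B := A') p
  haveI : Nontrivial A' := q.nontrivial
  rw [← Module.rankAtStalk_baseChange, Module.rankAtStalk_eq_of_equiv σ.toLinearEquiv, Module.rankAtStalk_prod]
  simp

section Split

variable {Z : Type v} [CommRing Z] [Algebra R Z] [Algebra Z C] [IsScalarTower R Z C]

theorem isAzumaya_of_centerEquiv [Module.FaithfullyFlat R A'] (hr : 1 ≤ r)
    (Θ : (A' ⊗[R] C) ≃ₐ[A'] M2 × M2) (σ : (A' ⊗[R] Z) ≃ₐ[A'] A' × A')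
    (hσ : ∀ s : A' ⊗[R] Z,
      Θ (Algebra.TensorProduct.map (AlgHom.id A' A') (IsScalarTower.toAlgHom R Z C) s) = scal A' (σ s)) :
    IsAzumaya Z C := by
  let S := A' ⊗[R] Z
  let j : S →ₐ[A'] A' ⊗[R] C := Algebra.TensorProduct.map (AlgHom.id A' A') (IsScalarTower.toAlgHom R Z C)
  letI : Algebra Z S := Algebra.TensorProduct.rightAlgebra
  have hsmul : ∀ (z : Z) (a : A') (w : Z), z • (a ⊗ₜ[R] w : S) = a ⊗ₜ[R] (z * w) := fun z a w => by
    rw [Algebra.smul_def]
    show ((1 : A') ⊗ₜ[R] z) * (a ⊗ₜ[R] w) = _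
    rw [Algebra.TensorProduct.tmul_mul_tmul, one_mul]
  haveI : Module.FaithfullyFlat Z S := by
    haveI : Module.FaithfullyFlat Z (Z ⊗[R] A') := Module.FaithfullyFlat.instTensorProduct ..
    refine Module.FaithfullyFlat.of_linearEquiv Z (Z ⊗[R] A')
      ({ (TensorProduct.comm R A' Z).toAddEquiv with
        map_smul' := fun z t => ?_ } : S ≃ₗ[Z] Z ⊗[R] A')
    simp only [AddHom.toFun_eq_coe, RingHom.id_apply]
    show TensorProduct.comm R A' Z (z • t) = z • TensorProduct.comm R A' Z t
    induction t using TensorProduct.induction_on with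
    | zero => simp
    | tmul a w => rw [hsmul]; simp [TensorProduct.smul_tmul']
    | add s t hs ht => simp only [smul_add, map_add, hs, ht]
  let ρ : (A' ⊗[R] C) ≃+* Matrix (Fin r) (Fin r) S :=
    (Θ.toRingEquiv.trans (pairMatrix A')).trans σ.symm.toRingEquiv.mapMatrix
  have hρ : ∀ s : S, ρ (j s) = Matrix.scalar (Fin r) s := fun s => by
    show σ.symm.toRingEquiv.mapMatrix (pairMatrix A' (Θ (j s))) = _
    rw [show Θ (j s) = scal A' (σ s) from hσ s, pairMatrix_scal]
    ext i k
    by_cases h : i = k <;> simp [h]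
  let h : C →ₐ[Z] Matrix (Fin r) (Fin r) S :=
    { ρ.toRingHom.comp (Algebra.TensorProduct.includeRight (R := R) (A := A') (B := C)).toRingHom with
      commutes' := fun z => by
        show ρ ((1 : A') ⊗ₜ[R] algebraMap Z C z) = _
        rw [show ((1 : A') ⊗ₜ[R] algebraMap Z C z) = j ((1 : A') ⊗ₜ[R] z) from rfl, hρ]
        rfl }
  let e : S ⊗[Z] C →ₐ[S] Matrix (Fin r) (Fin r) S :=
    Algebra.TensorProduct.lift (Algebra.ofId S _) h fun s c => Algebra.commutes s _
  let G : A' ⊗[R] C →+ S ⊗[Z] C := TensorProduct.liftAddHom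
    ({ toFun := fun a => AddMonoidHom.mk' (fun c : C => ((a ⊗ₜ[R] (1 : Z) : S) ⊗ₜ[Z] c))
          fun c c' => TensorProduct.tmul_add _ c c'
       map_zero' := by refine AddMonoidHom.ext fun c => ?_; simp
       map_add' := fun a a' => by refine AddMonoidHom.ext fun c => ?_; simp [TensorProduct.add_tmul] } :
      A' →+ C →+ S ⊗[Z] C)
    fun t a c => by
      show ((t • a) ⊗ₜ[R] (1 : Z) : S) ⊗ₜ[Z] c = ((a ⊗ₜ[R] (1 : Z) : S) ⊗ₜ[Z] (t • c))
      rw [← IsScalarTower.algebraMap_smul Z t c, TensorProduct.tmul_smul,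
        TensorProduct.smul_tmul' (algebraMap R Z t), hsmul, ← Algebra.smul_def, TensorProduct.smul_tmul]
  have heG : ∀ x, e (G x) = ρ x := fun x => by
    induction x using TensorProduct.induction_on with
    | zero => simp
    | add s t hs ht => simp only [map_add, hs, ht]
    | tmul a c =>
      show algebraMap S (Matrix (Fin r) (Fin r) S) (a ⊗ₜ[R] 1) * ρ ((1 : A') ⊗ₜ[R] c) = ρ (a ⊗ₜ[R] c)
      rw [show algebraMap S (Matrix (Fin r) (Fin r) S) (a ⊗ₜ[R] 1) = Matrix.scalar (Fin r) (a ⊗ₜ[R] (1 : Z) : S) from rfl,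
        ← hρ, show j (a ⊗ₜ[R] (1 : Z)) = a ⊗ₜ[R] (algebraMap Z C 1) from rfl, ← map_mul,
        Algebra.TensorProduct.tmul_mul_tmul, mul_one, map_one, one_mul]
  have hG : Function.Surjective G := by
    intro y
    induction y using TensorProduct.induction_on with
    | zero => exact ⟨0, map_zero _⟩
    | add s t hs ht =>
      obtain ⟨⟨a, rfl⟩, b, rfl⟩ := hs, ht
      exact ⟨a + b, map_add _ _ _⟩
    | tmul s c =>
      induction s using TensorProduct.induction_on with
      | zero => exact ⟨0, by rw [map_zero, TensorProduct.zero_tmul]⟩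
      | add s t hs ht =>
        obtain ⟨⟨a, ha⟩, b, hb⟩ := hs, ht
        exact ⟨a + b, by rw [map_add, ha, hb, TensorProduct.add_tmul]⟩
      | tmul a z =>
        refine ⟨a ⊗ₜ[R] (z • c), ?_⟩
        show ((a ⊗ₜ[R] (1 : Z) : S) ⊗ₜ[Z] (z • c)) = _
        rw [TensorProduct.tmul_smul, TensorProduct.smul_tmul', hsmul, mul_one]
  have hbij : Function.Bijective e := by
    refine ⟨fun x y hxy => ?_, fun M => ⟨G (ρ.symm M), by rw [heG, RingEquiv.apply_symm_apply]⟩⟩
    obtain ⟨a, rfl⟩ := hG x
    obtain ⟨b, rfl⟩ := hG y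
    rw [heG, heG] at hxy
    rw [ρ.injective hxy]
  exact Groth.Agent.Azumaya.isAzumaya_of_split S r hr (AlgEquiv.ofBijective e hbij)

end Split

theorem isAzumaya_center [Module.FaithfullyFlat R A'] [Module.Finite R C] (hr : 1 ≤ r)
    (Θ : (A' ⊗[R] C) ≃ₐ[A'] M2 × M2) :
    letI : Algebra ↥(Subalgebra.center R C) C :=
      (Subalgebra.center R C).val.toRingHom.toAlgebra' (fun c x => (Subalgebra.mem_center_iff.mp c.2 x).symm)
    IsAzumaya ↥(Subalgebra.center R C) C := by
  letI : Algebra ↥(Subalgebra.center R C) C :=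
    (Subalgebra.center R C).val.toRingHom.toAlgebra' (fun c x => (Subalgebra.mem_center_iff.mp c.2 x).symm)
  have htower : @IsScalarTower R ↥(Subalgebra.center R C) C Algebra.toSMul Algebra.toSMul Algebra.toSMul :=
    IsScalarTower.of_algebraMap_eq' rfl
  obtain ⟨σ, hσ⟩ := exists_centerEquiv A' hr Θ
  exact @isAzumaya_of_centerEquiv R _ C _ _ A' _ _ r ↥(Subalgebra.center R C) _ _ _ htower _ hr Θ σ hσ

end Groth.Agent.CliffSm
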