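import Mathlib.Algebra.Module.Submodule.LinearMap
import Mathlib.Data.Finset.Insert
import Mathlib.Data.Fintype.Basic
import Mathlib.Tactic.Abel

/-!
# Exactness for anticommuting derivations with a dual system of multiplications
-/

set_option autoImplicit false

namespace Groth.Agent.CliffSm

variable {S C κ : Type*} [CommRing S] [AddCommGroup C] [Module S C] [DecidableEq κ]

/-- A compatible family is in the image of the derivations. -/
theorem exists_primitive_aux (dd L : κ → C →ₗ[S] C) (W₀ W₁ : Submodule S C)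
    (hself : ∀ a x, dd a (dd a x) = 0) (hanti : ∀ a b x, dd a (dd b x) = -dd b (dd a x))
    (hL : ∀ a b x, dd a (L b x) = (if a = b then x else 0) - L b (dd a x))
    (hd' : ∀ a x, x ∈ W₀ → dd a x ∈ W₁)
    (hL₁ : ∀ a x, x ∈ W₁ → L a x ∈ W₀) (s : Finset κ) :
    ∀ G : κ → C, (∀ a, a ∉ s → G a = 0) → (∀ a, dd a (G a) = 0) →
      (∀ a b, dd a (G b) + dd b (G a) = 0) → (∀ a, G a ∈ W₁) →
      ∃ X ∈ W₀, ∀ a, dd a X = G a := by
  induction s using Finset.induction_on with
  | empty =>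
    intro G h _ _ _
    exact ⟨0, zero_mem _, fun a => by rw [map_zero, h a (Finset.notMem_empty a)]⟩
  | insert i s his ih =>
    intro G hsupp hs hsym hG
    let Y := L i (G i)
    have hYi : dd i Y = G i := by
      simp only [Y]; rw [hL, if_pos rfl, hs, map_zero, sub_zero]
    have h1 : ∀ a, a ∉ s → G a - dd a Y = 0 := by
      intro a ha
      by_cases hai : a = i
      · rw [hai, hYi, sub_self]
      · have h0 : G a = 0 := hsupp a (by simp [hai, ha])
        have h1 : dd a (G i) = 0 := by simpa [h0] using hsym a i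
        simp only [Y]
        rw [hL, if_neg hai, h1, map_zero, sub_zero, h0, sub_zero]
    have h2 : ∀ a, dd a (G a - dd a Y) = 0 := fun a => by rw [map_sub, hs, hself, sub_zero]
    have h3 : ∀ a b, dd a (G b - dd b Y) + dd b (G a - dd a Y) = 0 := fun a b => by
      rw [map_sub, map_sub, hanti a b, sub_neg_eq_add, add_add_sub_cancel, hsym]
    have h4 : ∀ a, G a - dd a Y ∈ W₁ := fun a => sub_mem (hG a) (hd' _ _ (hL₁ _ _ (hG i)))
    obtain ⟨X, hX, hXG⟩ := ih _ h1 h2 h3 h4
    refine ⟨Y + X, add_mem (hL₁ _ _ (hG i)) hX, fun a => ?_⟩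
    rw [map_add, hXG]; abel

theorem exists_primitive [Fintype κ] (dd L : κ → C →ₗ[S] C) (W₀ W₁ : Submodule S C)
    (hself : ∀ a x, dd a (dd a x) = 0) (hanti : ∀ a b x, dd a (dd b x) = -dd b (dd a x))
    (hL : ∀ a b x, dd a (L b x) = (if a = b then x else 0) - L b (dd a x))
    (hd' : ∀ a x, x ∈ W₀ → dd a x ∈ W₁)
    (hL₁ : ∀ a x, x ∈ W₁ → L a x ∈ W₀)
    (G : κ → C) (hs : ∀ a, dd a (G a) = 0) (hsym : ∀ a b, dd a (G b) + dd b (G a) = 0)
    (hG : ∀ a, G a ∈ W₁) : ∃ X ∈ W₀, ∀ a, dd a X = G a :=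
  exists_primitive_aux dd L W₀ W₁ hself hanti hL hd' hL₁ Finset.univ G
    (fun a h => absurd (Finset.mem_univ a) h) hs hsym hG

end Groth.Agent.CliffSm
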