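import Groth.Agent.CliffSm.Basic
import Groth.Agent.CliffSm.Koszul
import Mathlib.LinearAlgebra.Dual.Basis
import Mathlib.LinearAlgebra.QuadraticForm.Basic

/-!
# Correcting an approximate element of the Clifford group
-/

set_option autoImplicit false
noncomputable section

universe u v

open CliffordAlgebra

namespace Groth.Agent.CliffSm

variable {S : Type u} [CommRing S] {M : Type v} [AddCommGroup M] [Module S M] {Q : QuadraticForm S M}

theorem conj_mem_odd (u : (CliffordAlgebra Q)ˣ) {e : S} (he : IsIdempotentElem e)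
    (h0 : e • (u : CliffordAlgebra Q) ∈ evenOdd Q 0)
    (h1 : (1 - e) • (u : CliffordAlgebra Q) ∈ evenOdd Q 1) (y : M) :
    (u : CliffordAlgebra Q) * ι Q y * ↑u⁻¹ ∈ evenOdd Q 1 := by
  obtain ⟨k0, k1⟩ := QuadGrp.isLocHomog_inv_aux Q u e h0 h1
  have hy := ι_mem_evenOdd_one Q y
  have a0 := SetLike.mul_mem_graded (SetLike.mul_mem_graded h0 hy) k0
  have a1 := SetLike.mul_mem_graded (SetLike.mul_mem_graded h1 hy) k1
  rw [show (0 + 1 + 0 : ZMod 2) = 1 from rfl] at a0
  rw [show (1 + 1 + 1 : ZMod 2) = 1 from rfl] at a1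
  simp only [smul_mul_assoc, mul_smul_comm, smul_smul, he.eq, he.one_sub.eq] at a0 a1
  have := add_mem a0 a1
  rwa [← add_smul, add_sub_cancel, one_smul] at this

theorem mem_GPin' (u : (CliffordAlgebra Q)ˣ)
    (hfwd : ∀ x, ∃ y, (u : CliffordAlgebra Q) * ι Q x * ↑u⁻¹ = ι Q y)
    (hbwd : ∀ x, ∃ y, (u : CliffordAlgebra Q) * ι Q y * ↑u⁻¹ = ι Q x) : u ∈ QuadGrp.GPin' Q := by
  rw [QuadGrp.mem_GPin']
  ext z
  constructor
  · intro hz
    obtain ⟨w, ⟨x, rfl⟩, rfl⟩ := (Submodule.mem_map).1 hz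
    obtain ⟨y, hy⟩ := hfwd x
    exact ⟨y, (ConjAct.units_smul_def (ConjAct.toConjAct u) (ι Q x)).trans hy |>.symm⟩
  · rintro ⟨x, rfl⟩
    obtain ⟨y, hy⟩ := hbwd x
    exact Submodule.mem_map.2 ⟨ι Q y, ⟨y, rfl⟩,
      (ConjAct.units_smul_def (ConjAct.toConjAct u) (ι Q y)).trans hy⟩

/-- An endomorphism preserving a regular form is surjective. -/
theorem surjective_of_isometry [Module.Free S M] [Module.Finite S M] (hQ : QuadGrp.IsRegular Q)
    (w : M →ₗ[S] M) (h : ∀ x, Q (w x) = Q x) : Function.Surjective w := by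
  let Φ := LinearEquiv.ofBijective (QuadraticMap.polarBilin Q) hQ
  let g : M →ₗ[S] M := Φ.symm.toLinearMap ∘ₗ w.dualMap ∘ₗ QuadraticMap.polarBilin Q
  have hpol : ∀ x y, QuadraticMap.polar Q (w x) (w y) = QuadraticMap.polar Q x y := fun x y => by
    simp only [QuadraticMap.polar, ← map_add, h]
  have hg : g ∘ₗ w = LinearMap.id := LinearMap.ext fun x => by
    show Φ.symm (w.dualMap (QuadraticMap.polarBilin Q (w x))) = x
    rw [LinearEquiv.symm_apply_eq]
    exact LinearMap.ext fun y => hpol x y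
  exact fun x => ⟨g x, LinearMap.congr_fun ((LinearMap.comp_eq_id_comm S M).1 hg) x⟩

variable [Module.Free S M] [Module.Finite S M]

theorem scalarPart_mem {I : Ideal S} {r : S}
    (h : algebraMap S (CliffordAlgebra Q) r ∈ I • (⊤ : Submodule S (CliffordAlgebra Q))) : r ∈ I := by
  have := map_mem_smul_top (scalarPart Q) h
  rwa [scalarPart_algebraMap, smul_eq_mul, Ideal.mul_top] at this

theorem mem_of_basis {P : Type*} [AddCommGroup P] [Module S P] {κ : Type*}
    (b : Module.Basis κ S M) (f : M →ₗ[S] P) (N : Submodule S P) (h : ∀ k, f (b k) ∈ N) (x : M) :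
    f x ∈ N := by
  suffices htop : Submodule.span S (Set.range b) ≤ N.comap f from
    htop (b.span_eq ▸ Submodule.mem_top (x := x))
  rw [Submodule.span_le]
  rintro _ ⟨k, rfl⟩
  exact h k

/-- A linear choice of approximate preimages under conjugation. -/
theorem exists_linear_lift {I : Ideal S} (u0 : (CliffordAlgebra Q)ˣ) {e : S} (he : IsIdempotentElem e)
    (h0 : e • (u0 : CliffordAlgebra Q) ∈ evenOdd Q 0)
    (h1 : (1 - e) • (u0 : CliffordAlgebra Q) ∈ evenOdd Q 1)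
    (h : ∀ x, ∃ y, (u0 : CliffordAlgebra Q) * ι Q y * ↑u0⁻¹ - ι Q x ∈
      I • (⊤ : Submodule S (CliffordAlgebra Q))) :
    ∃ (w0 : M →ₗ[S] M) (D : M →ₗ[S] CliffordAlgebra Q),
      (∀ x, (u0 : CliffordAlgebra Q) * ι Q (w0 x) * ↑u0⁻¹ = ι Q x + D x) ∧
      (∀ x, D x ∈ I • (⊤ : Submodule S (CliffordAlgebra Q))) ∧ ∀ x, D x ∈ evenOdd Q 1 := by
  let bM := Module.Free.chooseBasis S M
  choose w₁ hw₁ using fun k => h (bM k)
  let w0 : M →ₗ[S] M := bM.constr S w₁
  let conj : M →ₗ[S] CliffordAlgebra Q :=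
    LinearMap.mulRight S (↑u0⁻¹ : CliffordAlgebra Q) ∘ₗ LinearMap.mulLeft S (u0 : CliffordAlgebra Q) ∘ₗ ι Q
  refine ⟨w0, conj ∘ₗ w0 - ι Q, fun x => ?_, fun x => ?_, fun x => ?_⟩
  · exact (add_sub_cancel _ _).symm
  · refine mem_of_basis bM _ _ (fun k => ?_) x
    show (u0 : CliffordAlgebra Q) * ι Q (w0 (bM k)) * ↑u0⁻¹ - ι Q (bM k) ∈ _
    rw [show w0 (bM k) = w₁ k from bM.constr_basis S _ k]
    exact hw₁ k
  · exact sub_mem (conj_mem_odd u0 he h0 h1 (w0 x)) (ι_mem_evenOdd_one Q x)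

theorem sq_conj (u : (CliffordAlgebra Q)ˣ) (y : M) :
    (u : CliffordAlgebra Q) * ι Q y * ↑u⁻¹ * ((u : CliffordAlgebra Q) * ι Q y * ↑u⁻¹) =
      algebraMap S _ (Q y) := by
  simp only [mul_assoc, Units.inv_mul_cancel_left]
  rw [← mul_assoc (ι Q y), ι_sq_scalar, Algebra.commutes, ← mul_assoc, Units.mul_inv, one_mul]

/-- A form with values in an ideal is given by an endomorphism with values in the ideal. -/
theorem exists_eta (hQ : QuadGrp.IsRegular Q) {I : Ideal S} (q : QuadraticForm S M)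
    (hqI : ∀ x, q x ∈ I) : ∃ η : M →ₗ[S] M, (∀ x, η x ∈ I • (⊤ : Submodule S M)) ∧
      ∀ x, q x = QuadraticMap.polarBilin Q x (η x) := by
  classical
  let bM := Module.Free.chooseBasis S M
  let : LinearOrder (Module.Free.ChooseBasisIndex S M) := linearOrderOfSTO WellOrderingRel
  let b := q.toBilin bM
  let Φ := LinearEquiv.ofBijective (QuadraticMap.polarBilin Q) hQ
  have hbI : ∀ x, b x ∈ I • (⊤ : Submodule S (Module.Dual S M)) := by
    intro x
    rw [← bM.sum_dual_apply_smul_coord (b x)]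
    refine Submodule.sum_mem _ fun j _ => Submodule.smul_mem_smul ?_ trivial
    refine mem_of_basis bM (b.flip (bM j)) I (fun k => ?_) x
    show b (bM k) (bM j) ∈ I
    simp only [b, QuadraticMap.toBilin_apply]
    split_ifs
    · exact hqI _
    · exact sub_mem (sub_mem (hqI _) (hqI _)) (hqI _)
    · exact zero_mem _
  refine ⟨Φ.symm.toLinearMap ∘ₗ b, fun x => map_mem_smul_top Φ.symm.toLinearMap (hbI x), fun x => ?_⟩
  have h1 : QuadraticMap.polarBilin Q (Φ.symm (b x)) x = b x x :=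
    congrArg (fun f : Module.Dual S M => f x) (Φ.apply_symm_apply (b x))
  rw [QuadraticMap.polarBilin_apply_apply, QuadraticMap.polar_comm,
    ← QuadraticMap.polarBilin_apply_apply]
  exact (congrArg (fun p : QuadraticMap S M S => p x)
    (QuadraticMap.toQuadraticMap_toBilin q bM).symm).trans h1.symm

/-- A compatible odd family is an inner derivation by an even element. -/
theorem exists_inner (hQ : QuadGrp.IsRegular Q) {I : Ideal S} (D : M →ₗ[S] CliffordAlgebra Q)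
    (hJ : ∀ x, D x ∈ I • (⊤ : Submodule S (CliffordAlgebra Q))) (hodd : ∀ x, D x ∈ evenOdd Q 1)
    (h0 : ∀ x, contractLeft (QuadraticMap.polarBilin Q x) (D x) = 0) :
    ∃ X ∈ I • (⊤ : Submodule S (CliffordAlgebra Q)), X ∈ evenOdd Q 0 ∧
      ∀ x, ι Q x * X - X * ι Q x = D x := by
  classical
  let bM := Module.Free.chooseBasis S M
  let Φ := LinearEquiv.ofBijective (QuadraticMap.polarBilin Q) hQ
  let f : Module.Basis (Module.Free.ChooseBasisIndex S M) S M := bM.dualBasis.map Φ.symm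
  have hf : ∀ a, QuadraticMap.polarBilin Q (f a) = bM.coord a := by
    intro a
    show Φ (f a) = _
    rw [Module.Basis.map_apply, LinearEquiv.apply_symm_apply, Module.Basis.coe_dualBasis]
  have hsym : ∀ x y, contractLeft (QuadraticMap.polarBilin Q x) (D y) +
      contractLeft (QuadraticMap.polarBilin Q y) (D x) = 0 := by
    intro x y
    have := h0 (x + y)
    simp only [map_add, LinearMap.add_apply, h0, zero_add, add_zero] at this
    rwa [add_comm] at this
  let dd : Module.Free.ChooseBasisIndex S M → CliffordAlgebra Q →ₗ[S] CliffordAlgebra Q :=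
    fun a => contractLeft (bM.coord a)
  let L : Module.Free.ChooseBasisIndex S M → CliffordAlgebra Q →ₗ[S] CliffordAlgebra Q :=
    fun a => LinearMap.mulLeft S (ι Q (bM a))
  have hdd : ∀ a, dd a = contractLeft (QuadraticMap.polarBilin Q (f a)) := fun a => by
    show contractLeft (bM.coord a) = _
    rw [hf]
  have hL : ∀ a b x, dd a (L b x) = (if a = b then x else 0) - L b (dd a x) := by
    intro a b x
    show contractLeft (bM.coord a) (ι Q (bM b) * x) = _ - ι Q (bM b) * contractLeft (bM.coord a) x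
    rw [contractLeft_ι_mul, Module.Basis.coord_apply, Module.Basis.repr_self, Finsupp.single_apply]
    by_cases hab : a = b
    · rw [if_pos hab.symm, if_pos hab, one_smul]
    · rw [if_neg (Ne.symm hab), if_neg hab, zero_smul]
  have hd' : ∀ a x, x ∈ I • (⊤ : Submodule S (CliffordAlgebra Q)) ⊓ evenOdd Q 0 →
      dd a x ∈ I • (⊤ : Submodule S (CliffordAlgebra Q)) ⊓ evenOdd Q 1 := by
    intro a x hx
    rw [hdd]
    exact ⟨map_mem_smul_top _ hx.1, zero_add (1 : ZMod 2) ▸ contractLeft_polar_mem Q hx.2 (f a)⟩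
  have hL₁ : ∀ a x, x ∈ I • (⊤ : Submodule S (CliffordAlgebra Q)) ⊓ evenOdd Q 1 →
      L a x ∈ I • (⊤ : Submodule S (CliffordAlgebra Q)) ⊓ evenOdd Q 0 := by
    intro a x hx
    exact ⟨map_mem_smul_top (L a) hx.1,
      (show (1 + 1 : ZMod 2) = 0 from rfl) ▸ SetLike.mul_mem_graded (ι_mem_evenOdd_one Q (bM a)) hx.2⟩
  obtain ⟨X, hX0, hX⟩ := exists_primitive dd L _ _
    (fun a x => contractLeft_contractLeft (bM.coord a) x)
    (fun a b x => contractLeft_comm (bM.coord a) (bM.coord b) x) hL hd' hL₁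
    (fun a => D (f a)) (fun a => by rw [hdd]; exact h0 _)
    (fun a c => by rw [hdd, hdd]; exact hsym _ _) (fun a => ⟨hJ _, hodd _⟩)
  refine ⟨X, hX0.1, hX0.2, fun x => ?_⟩
  rw [← contractLeft_polar_even Q hX0.2]
  refine LinearMap.congr_fun (f := (contractLeft (Q := Q)).flip X ∘ₗ QuadraticMap.polarBilin Q)
    (g := D) (f.ext fun a => ?_) x
  rw [LinearMap.comp_apply, LinearMap.flip_apply, ← hdd]
  exact hX a

theorem conj_one_add {I : Ideal S} (hI : I ^ 2 = ⊥) {X A E : CliffordAlgebra Q}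
    (hX : X ∈ I • (⊤ : Submodule S (CliffordAlgebra Q)))
    (hE : E ∈ I • (⊤ : Submodule S (CliffordAlgebra Q))) :
    (1 + X) * (A + E) * (1 - X) = A + E - (A * X - X * A) := by
  have h1 : X * E = 0 := mul_eq_zero_of_sq hI hX hE
  have h2 : E * X = 0 := mul_eq_zero_of_sq hI hE hX
  have h3 : X * A * X = 0 :=
    mul_eq_zero_of_sq hI (map_mem_smul_top (LinearMap.mulRight S A) hX) hX
  rw [add_mul, one_mul, mul_add X, h1, add_zero, mul_sub, mul_one, add_mul, add_mul, h2, h3]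
  abel

theorem exists_gpin_correction_of
    (hsurj : ∀ w : M →ₗ[S] M, (∀ x, Q (w x) = Q x) → Function.Surjective w) {I : Ideal S}
    (hsolve : ∀ (D : M →ₗ[S] CliffordAlgebra Q) (q : QuadraticForm S M),
      (∀ x, D x ∈ I • (⊤ : Submodule S (CliffordAlgebra Q))) → (∀ x, D x ∈ evenOdd Q 1) →
      (∀ x, q x ∈ I) →
      (∀ x, contractLeft (QuadraticMap.polarBilin Q x) (D x) = algebraMap S _ (q x)) →
      ∃ η : M →ₗ[S] M, (∀ x, η x ∈ I • (⊤ : Submodule S M)) ∧
        ∃ X ∈ I • (⊤ : Submodule S (CliffordAlgebra Q)), X ∈ evenOdd Q 0 ∧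
          ∀ x, ι Q x * X - X * ι Q x = D x - ι Q (η x))
    (hI : I ^ 2 = ⊥)
    (u0 : (CliffordAlgebra Q)ˣ) {e : S} (he : IsIdempotentElem e)
    (h0 : e • (u0 : CliffordAlgebra Q) ∈ evenOdd Q 0)
    (h1 : (1 - e) • (u0 : CliffordAlgebra Q) ∈ evenOdd Q 1)
    (h : ∀ x, ∃ y, (u0 : CliffordAlgebra Q) * ι Q y * ↑u0⁻¹ - ι Q x ∈
      I • (⊤ : Submodule S (CliffordAlgebra Q))) :
    ∃ u ∈ QuadGrp.GPin Q, (u : CliffordAlgebra Q) - (u0 : CliffordAlgebra Q) ∈
      I • (⊤ : Submodule S (CliffordAlgebra Q)) := by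
  obtain ⟨w0, D, hD, hDJ, hDodd⟩ := exists_linear_lift u0 he h0 h1 h
  let q : QuadraticForm S M := Q.comp w0 - Q
  have hq : ∀ x, contractLeft (QuadraticMap.polarBilin Q x) (D x) = algebraMap S _ (q x) := by
    intro x
    rw [contractLeft_polar_odd Q (hDodd x)]
    have hsq := sq_conj u0 (w0 x)
    rw [hD, add_mul, mul_add, mul_add, ι_sq_scalar, mul_eq_zero_of_sq hI (hDJ x) (hDJ x),
      add_zero] at hsq
    rw [show q x = Q (w0 x) - Q x from rfl, map_sub, ← hsq]
    abel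
  have hqI : ∀ x, q x ∈ I := fun x => scalarPart_mem (hq x ▸ map_mem_smul_top _ (hDJ x))
  obtain ⟨η, hηI, X, hXJ, hXev, hX⟩ := hsolve D q hDJ hDodd hqI hq
  have hXX : X * X = 0 := mul_eq_zero_of_sq hI hXJ hXJ
  let v : (CliffordAlgebra Q)ˣ := ⟨1 + X, 1 - X,
    by rw [add_mul, mul_sub, mul_sub, hXX, one_mul, one_mul, mul_one, sub_zero, sub_add_cancel],
    by rw [sub_mul, mul_add, mul_add, hXX, one_mul, one_mul, mul_one, add_zero, add_sub_cancel_right]⟩
  let u := v * u0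
  have hu : (u : CliffordAlgebra Q) = (1 + X) * u0 := rfl
  have hv : ∀ x, (u : CliffordAlgebra Q) * ι Q (w0 x) * ↑u⁻¹ = ι Q (x + η x) := by
    intro x
    have e1 : (u : CliffordAlgebra Q) * ι Q (w0 x) * ↑u⁻¹ =
        (1 + X) * ((u0 : CliffordAlgebra Q) * ι Q (w0 x) * ↑u0⁻¹) * (1 - X) := by
      simp only [u, mul_inv_rev, Units.val_mul, mul_assoc]
      rfl
    rw [e1, hD, conj_one_add hI hXJ (hDJ x), hX, map_add]
    show ι Q x + D x - (D x - ι Q (η x)) = _
    abel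
  let w : M →ₗ[S] M := w0 ∘ₗ (LinearMap.id - η)
  have hw : ∀ x, (u : CliffordAlgebra Q) * ι Q (w x) * ↑u⁻¹ = ι Q x := by
    intro x
    show (u : CliffordAlgebra Q) * ι Q (w0 (x - η x)) * ↑u⁻¹ = _
    rw [hv, map_sub η, eq_zero_of_sq hI η hηI (hηI x), sub_zero, sub_add_cancel]
  have hiso : ∀ x, Q (w x) = Q x := fun x => algebraMap_injective Q <| by
    rw [← sq_conj u (w x), hw, ι_sq_scalar]
  refine ⟨u, ⟨mem_GPin' u (fun y => ?_) (fun x => ⟨w x, hw x⟩), ⟨e, he, ?_, ?_⟩⟩, ?_⟩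
  · obtain ⟨x, rfl⟩ := hsurj w hiso y
    exact ⟨x, hw x⟩
  · rw [hu, ← mul_smul_comm]
    exact zero_add (0 : ZMod 2) ▸ SetLike.mul_mem_graded (add_mem (SetLike.one_mem_graded _) hXev) h0
  · rw [hu, ← mul_smul_comm]
    exact zero_add (1 : ZMod 2) ▸ SetLike.mul_mem_graded (add_mem (SetLike.one_mem_graded _) hXev) h1
  · rw [hu, add_mul, one_mul, add_sub_cancel_left]
    exact map_mem_smul_top (LinearMap.mulRight S (u0 : CliffordAlgebra Q)) hXJ

/-- The case of a perfect polar form. -/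
theorem exists_gpin_correction (hQ : QuadGrp.IsRegular Q) {I : Ideal S} (hI : I ^ 2 = ⊥)
    (u0 : (CliffordAlgebra Q)ˣ) {e : S} (he : IsIdempotentElem e)
    (h0 : e • (u0 : CliffordAlgebra Q) ∈ evenOdd Q 0)
    (h1 : (1 - e) • (u0 : CliffordAlgebra Q) ∈ evenOdd Q 1)
    (h : ∀ x, ∃ y, (u0 : CliffordAlgebra Q) * ι Q y * ↑u0⁻¹ - ι Q x ∈
      I • (⊤ : Submodule S (CliffordAlgebra Q))) :
    ∃ u ∈ QuadGrp.GPin Q, (u : CliffordAlgebra Q) - (u0 : CliffordAlgebra Q) ∈
      I • (⊤ : Submodule S (CliffordAlgebra Q)) := by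
  refine exists_gpin_correction_of (fun w hw => surjective_of_isometry hQ w hw)
    (fun D q hDJ hDodd hqI hq => ?_) hI u0 he h0 h1 h
  obtain ⟨η, hηI, hη⟩ := exists_eta hQ q hqI
  obtain ⟨X, hXJ, hXev, hX⟩ := exists_inner hQ (D - ι Q ∘ₗ η)
    (fun x => sub_mem (hDJ x) (map_mem_smul_top (ι Q) (hηI x)))
    (fun x => sub_mem (hDodd x) (ι_mem_evenOdd_one Q _))
    (fun x => by
      show contractLeft (QuadraticMap.polarBilin Q x) (D x - ι Q (η x)) = 0
      rw [map_sub, hq, contractLeft_ι, ← map_sub, hη, sub_self, map_zero])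
  exact ⟨η, hηI, X, hXJ, hXev, hX⟩

end Groth.Agent.CliffSm
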