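import Groth.Agent.CliffSm.BaseChange
import Groth.Agent.CliffSm.Lift
import Groth.Agent.QuadSm.Affine
import Mathlib.RingTheory.FinitePresentation

/-!
# The coordinate ring of the Clifford group
-/

set_option autoImplicit false
noncomputable section

universe u

open CliffordAlgebra TensorProduct CategoryTheory AlgebraicGeometry
open QuadGrp (baseChangeForm)
open scoped Pointwise
attribute [local instance] CategoryTheory.Hom.group

namespace Groth.Agent.CliffSm

variable {R : Type u} [CommRing R] {n : ℕ} (Q : QuadraticForm R (Fin n → R))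

/-- The coordinates of a point. -/
abbrev Var : Type u := (CIdx Q ⊕ CIdx Q) ⊕ PUnit.{u + 1} ⊕ ((Fin n × Fin n) ⊕ (Fin n × Fin n))

section Pt

variable {A : Type u} [CommRing A] [Algebra R A] (x : Var Q → A)

/-- The element. -/
def ptU : CliffordAlgebra (baseChangeForm A Q) := ∑ k, x (.inl (.inl k)) • cBasis Q A k
/-- The inverse. -/
def ptV : CliffordAlgebra (baseChangeForm A Q) := ∑ k, x (.inl (.inr k)) • cBasis Q A k
/-- The idempotent. -/
def ptE : A := x (.inr (.inl ⟨⟩))
/-- The basis vector. -/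
def vec (A : Type u) [CommRing A] [Algebra R A] (j : Fin n) : A ⊗[R] (Fin n → R) :=
  (Pi.basisFun R (Fin n)).baseChange A j
/-- The image of a basis vector. -/
def ptF (j : Fin n) : A ⊗[R] (Fin n → R) := ∑ i, x (.inr (.inr (.inl (i, j)))) • vec A i
/-- The preimage of a basis vector. -/
def ptB (j : Fin n) : A ⊗[R] (Fin n → R) := ∑ i, x (.inr (.inr (.inr (i, j)))) • vec A i

/-- The index of equations. -/
inductive EqIdx (n : ℕ) : Type
  | left | right | idem | even | odd
  | fwd (j : Fin n)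
  | bwd (j : Fin n)

instance (m : ℕ) : Finite (EqIdx m) :=
  Finite.of_equiv (Fin 5 ⊕ (Fin m ⊕ Fin m))
    { toFun := fun s => match s with
        | .inl 0 => .left | .inl 1 => .right | .inl 2 => .idem | .inl 3 => .even | .inl 4 => .odd
        | .inr (.inl j) => .fwd j | .inr (.inr j) => .bwd j
      invFun := fun e => match e with
        | .left => .inl 0 | .right => .inl 1 | .idem => .inl 2 | .even => .inl 3 | .odd => .inl 4
        | .fwd j => .inr (.inl j) | .bwd j => .inr (.inr j)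
      left_inv := by rintro (s | j | j) <;> [fin_cases s <;> rfl; rfl; rfl]
      right_inv := by rintro (_ | _ | _ | _ | _ | j | j) <;> rfl }

/-- The equations. -/
def eqs : EqIdx n → CliffordAlgebra (baseChangeForm A Q)
  | .left => ptU Q x * ptV Q x - 1
  | .right => ptV Q x * ptU Q x - 1
  | .idem => algebraMap A _ (ptE Q x * ptE Q x - ptE Q x)
  | .even => part _ 1 (ptE Q x • ptU Q x)
  | .odd => part _ 0 ((1 - ptE Q x) • ptU Q x)
  | .fwd j => ptU Q x * ι _ (vec A j) * ptV Q x - ι _ (ptF Q x j)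
  | .bwd j => ptV Q x * ι _ (vec A j) * ptU Q x - ι _ (ptB Q x j)

/-- A solution. -/
def Sol : Prop := ∀ l, eqs Q x l = 0

variable {B : Type u} [CommRing B] [Algebra R B] (φ : A →ₐ[R] B)

theorem cMap_vec (j : Fin n) :
    LinearMap.rTensor (Fin n → R) φ.toLinearMap (vec A j) = vec B j := by
  simp [vec]

theorem cMap_ptU : cMap Q φ (ptU Q x) = ptU Q (φ ∘ x) := by
  simp [ptU, map_sum, cMap_smul, cMap_basis]

theorem cMap_ptV : cMap Q φ (ptV Q x) = ptV Q (φ ∘ x) := by
  simp [ptV, map_sum, cMap_smul, cMap_basis]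

theorem rTensor_smul_vec (a : A) (i : Fin n) :
    LinearMap.rTensor (Fin n → R) φ.toLinearMap (a • vec A i) = φ a • vec B i := by
  simp [vec, TensorProduct.smul_tmul']

theorem cMap_eqs (l : EqIdx n) : cMap Q φ (eqs Q x l) = eqs Q (φ ∘ x) l := by
  have hE : φ (ptE Q x) = ptE Q (φ ∘ x) := rfl
  cases l with
  | left => simp [eqs, cMap_ptU, cMap_ptV]
  | right => simp [eqs, cMap_ptU, cMap_ptV]
  | idem => simp [eqs, cMap_algebraMap, hE]
  | even => simp only [eqs, cMap_part, cMap_smul, cMap_ptU, hE]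
  | odd => simp only [eqs, cMap_part, cMap_smul, cMap_ptU, map_sub, map_one, hE]
  | fwd j =>
    simp only [eqs, map_sub, map_mul, cMap_ι, cMap_vec, cMap_ptU, cMap_ptV, ptF, map_sum,
      rTensor_smul_vec, Function.comp_apply]
  | bwd j =>
    simp only [eqs, map_sub, map_mul, cMap_ι, cMap_vec, cMap_ptU, cMap_ptV, ptB, map_sum,
      rTensor_smul_vec, Function.comp_apply]

theorem Sol.map {x : Var Q → A} (h : Sol Q x) : Sol Q (φ ∘ x) := fun l => by
  rw [← cMap_eqs, h l, map_zero]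

variable {x}

/-- The unit of a solution. -/
def Sol.unit (h : Sol Q x) : (CliffordAlgebra (baseChangeForm A Q))ˣ :=
  ⟨ptU Q x, ptV Q x, sub_eq_zero.1 (h .left), sub_eq_zero.1 (h .right)⟩

theorem Sol.idem (h : Sol Q x) : IsIdempotentElem (ptE Q x) :=
  sub_eq_zero.1 (algebraMap_injective _ ((h .idem).trans (map_zero _).symm))

theorem Sol.even (h : Sol Q x) : ptE Q x • ptU Q x ∈ evenOdd _ 0 := (mem_even_iff _ _).2 (h .even)

theorem Sol.odd (h : Sol Q x) : (1 - ptE Q x) • ptU Q x ∈ evenOdd _ 1 := (mem_odd_iff _ _).2 (h .odd)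

theorem exists_conj (u v : CliffordAlgebra (baseChangeForm A Q)) (f : Fin n → A ⊗[R] (Fin n → R))
    (hf : ∀ j, u * ι _ (vec A j) * v = ι _ (f j)) (z : A ⊗[R] (Fin n → R)) :
    ∃ y, u * ι _ z * v = ι _ y := by
  refine ⟨((Pi.basisFun R (Fin n)).baseChange A).constr A f z, ?_⟩
  refine LinearMap.congr_fun (f := LinearMap.mulRight A v ∘ₗ LinearMap.mulLeft A u ∘ₗ ι _)
    (g := ι (baseChangeForm A Q) ∘ₗ ((Pi.basisFun R (Fin n)).baseChange A).constr A f)
    (((Pi.basisFun R (Fin n)).baseChange A).ext fun j => ?_) z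
  rw [LinearMap.comp_apply, LinearMap.comp_apply, LinearMap.comp_apply, Module.Basis.constr_basis]
  exact hf j

theorem Sol.mem (h : Sol Q x) : h.unit ∈ QuadGrp.gpin Q A := by
  refine ⟨mem_GPin' _ (exists_conj Q _ _ _ fun j => sub_eq_zero.1 (h (.fwd j))) (fun z => ?_),
    ⟨_, h.idem, h.even, h.odd⟩⟩
  obtain ⟨y, hy⟩ := exists_conj Q (ptV Q x) (ptU Q x) _ (fun j => sub_eq_zero.1 (h (.bwd j))) z
  refine ⟨y, ?_⟩
  show ptU Q x * ι _ y * ptV Q x = _
  rw [← hy, ← mul_assoc, ← mul_assoc, sub_eq_zero.1 (h .left), one_mul, mul_assoc,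
    sub_eq_zero.1 (h .left), mul_one]

theorem sum_smul_inj {κ : Type*} [Fintype κ] {P : Type*} [AddCommGroup P] [Module A P]
    (b : Module.Basis κ A P) {f g : κ → A} (h : ∑ k, f k • b k = ∑ k, g k • b k) : f = g := by
  funext k
  have h' := congrArg (fun p => (⇑(b.repr p) : κ → A)) h
  simp only [Module.Basis.repr_sum_self] at h'
  exact congrFun h' k

theorem Sol.ext {y : Var Q → A} (hx : Sol Q x) (hy : Sol Q y) (h : ptU Q x = ptU Q y) : x = y := by
  have hu : hx.unit = hy.unit := Units.ext h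
  have hv : ptV Q x = ptV Q y :=
    congrArg (fun u : (CliffordAlgebra (baseChangeForm A Q))ˣ =>
      (↑u⁻¹ : CliffordAlgebra (baseChangeForm A Q))) hu
  have hkill : ∀ {a : A}, a • ptU Q x = 0 → a = 0 := fun {a} ha => algebraMap_injective (baseChangeForm A Q) <| by
    rw [map_zero, Algebra.algebraMap_eq_smul_one, ← sub_eq_zero.1 (hx .left), ← smul_mul_assoc, ha,
      zero_mul]
  have hzero : ∀ a b : A, a • ptU Q x ∈ evenOdd (baseChangeForm A Q) 0 →
      b • ptU Q x ∈ evenOdd (baseChangeForm A Q) 1 → a * b = 0 := fun a b ha hb => hkill <|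
    Submodule.disjoint_def.1 (evenOdd_isCompl _).disjoint _
      (by rw [mul_comm, mul_smul]; exact Submodule.smul_mem _ _ ha)
      (by rw [mul_smul]; exact Submodule.smul_mem _ _ hb)
  have hE : ptE Q x = ptE Q y := by
    have h1 := hzero _ _ hx.even (h ▸ hy.odd)
    have h2 := hzero _ _ (h ▸ hy.even) hx.odd
    linear_combination h1 - h2
  have hF : ∀ j, ptF Q x j = ptF Q y j := fun j => ι_injective _ <| by
    rw [← sub_eq_zero.1 (hx (.fwd j)), ← sub_eq_zero.1 (hy (.fwd j)), h, hv]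
  have hB : ∀ j, ptB Q x j = ptB Q y j := fun j => ι_injective _ <| by
    rw [← sub_eq_zero.1 (hx (.bwd j)), ← sub_eq_zero.1 (hy (.bwd j)), h, hv]
  funext v
  rcases v with (k | k) | ⟨⟩ | ⟨i, j⟩ | ⟨i, j⟩
  · exact congrFun (sum_smul_inj (cBasis Q A) h) k
  · exact congrFun (sum_smul_inj (cBasis Q A) hv) k
  · exact hE
  · exact congrFun (sum_smul_inj ((Pi.basisFun R (Fin n)).baseChange A) (hF j)) i
  · exact congrFun (sum_smul_inj ((Pi.basisFun R (Fin n)).baseChange A) (hB j)) i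

theorem exists_fwd_bwd (u : (CliffordAlgebra (baseChangeForm A Q))ˣ) (hu : u ∈ QuadGrp.GPin' (baseChangeForm A Q))
    (z : A ⊗[R] (Fin n → R)) :
    (∃ y, (u : CliffordAlgebra (baseChangeForm A Q)) * ι (baseChangeForm A Q) z * (↑u⁻¹ : CliffordAlgebra (baseChangeForm A Q)) = ι (baseChangeForm A Q) y) ∧
      ∃ y, (↑u⁻¹ : CliffordAlgebra (baseChangeForm A Q)) * ι (baseChangeForm A Q) z * (u : CliffordAlgebra (baseChangeForm A Q)) = ι (baseChangeForm A Q) y := by
  have hu'' := (QuadGrp.mem_GPin' _ u).1 hu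
  constructor
  · have h1 : ConjAct.toConjAct u • ι (baseChangeForm A Q) z ∈
        ConjAct.toConjAct u • LinearMap.range (ι (baseChangeForm A Q)) :=
      Submodule.smul_mem_pointwise_smul _ _ _ ⟨z, rfl⟩
    rw [hu''] at h1
    obtain ⟨y, hy⟩ := h1
    rw [ConjAct.units_smul_def, ConjAct.ofConjAct_toConjAct] at hy
    exact ⟨y, hy.symm⟩
  · have h1 : ι (baseChangeForm A Q) z ∈
        ConjAct.toConjAct u • LinearMap.range (ι (baseChangeForm A Q)) := by
      rw [hu'']; exact ⟨z, rfl⟩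
    obtain ⟨w, ⟨y, rfl⟩, hy⟩ := Submodule.mem_map.1 h1
    refine ⟨y, ?_⟩
    have hy' : (u : CliffordAlgebra (baseChangeForm A Q)) * ι (baseChangeForm A Q) y * (↑u⁻¹ : CliffordAlgebra (baseChangeForm A Q)) = ι (baseChangeForm A Q) z :=
      (ConjAct.units_smul_def (ConjAct.toConjAct u) _).symm.trans hy
    rw [← hy']
    simp only [mul_assoc, Units.inv_mul, mul_one, Units.inv_mul_cancel_left]

theorem exists_sol (u : (CliffordAlgebra (baseChangeForm A Q))ˣ) (hu : u ∈ QuadGrp.gpin Q A) :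
    ∃ x : Var Q → A, Sol Q x ∧ ptU Q x = u := by
  obtain ⟨hu', e, he, h0, h1⟩ := hu
  have hf := fun z => (exists_fwd_bwd Q u hu' z).1
  have hb := fun z => (exists_fwd_bwd Q u hu' z).2
  choose fv hfv using fun j => hf (vec A j)
  choose bv hbv using fun j => hb (vec A j)
  let bA := (Pi.basisFun R (Fin n)).baseChange A
  let x : Var Q → A := Sum.elim
    (Sum.elim (fun k => (cBasis Q A).repr u k) (fun k => (cBasis Q A).repr (↑u⁻¹ : CliffordAlgebra (baseChangeForm A Q)) k))
    (Sum.elim (fun _ => e) (Sum.elim (fun p => bA.repr (fv p.2) p.1) (fun p => bA.repr (bv p.2) p.1)))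
  have hU : ptU Q x = u := by
    unfold ptU
    simp only [x, Sum.elim_inl]
    exact (cBasis Q A).sum_repr (u : CliffordAlgebra (baseChangeForm A Q))
  have hV : ptV Q x = (↑u⁻¹ : CliffordAlgebra (baseChangeForm A Q)) := by
    unfold ptV
    simp only [x, Sum.elim_inl, Sum.elim_inr]
    exact (cBasis Q A).sum_repr (↑u⁻¹ : CliffordAlgebra (baseChangeForm A Q))
  have hF : ∀ j, ptF Q x j = fv j := fun j => by
    unfold ptF vec
    simp only [x, Sum.elim_inl, Sum.elim_inr]
    exact bA.sum_repr (fv j)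
  have hB : ∀ j, ptB Q x j = bv j := fun j => by
    unfold ptB vec
    simp only [x, Sum.elim_inr]
    exact bA.sum_repr (bv j)
  have hE : ptE Q x = e := rfl
  refine ⟨x, fun l => ?_, hU⟩
  cases l with
  | left => simp only [eqs, hU, hV, Units.mul_inv, sub_self]
  | right => simp only [eqs, hU, hV, Units.inv_mul, sub_self]
  | idem => simp only [eqs, hE, he.eq, sub_self, map_zero]
  | even => simp only [eqs, hE, hU]; exact (mem_even_iff _ _).1 h0
  | odd => simp only [eqs, hE, hU]; exact (mem_odd_iff _ _).1 h1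
  | fwd j => simp only [eqs, hU, hV, hF, hfv, sub_self]
  | bwd j => simp only [eqs, hU, hV, hB, hbv, sub_self]

end Pt

/-- The polynomial ring. -/
abbrev PolyC : Type u := MvPolynomial (Var Q) R

/-- The ideal of the group. -/
def coordIdeal : Ideal (PolyC Q) := Ideal.span (Set.range fun p : EqIdx n × CIdx Q =>
  (cBasis Q (PolyC Q)).repr (eqs Q (MvPolynomial.X (R := R)) p.1) p.2)

/-- The coordinate ring. -/
abbrev Coord : Type u := PolyC Q ⧸ coordIdeal Q

instance : Algebra.FinitePresentation R (Coord Q) :=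
  Algebra.FinitePresentation.quotient (Submodule.fg_span (Set.finite_range _))

/-- The universal point. -/
def genX : Var Q → Coord Q := Ideal.Quotient.mkₐ R (coordIdeal Q) ∘ MvPolynomial.X

theorem sol_genX : Sol Q (genX Q) := fun l => by
  rw [genX, ← cMap_eqs]
  refine (cBasis Q (Coord Q)).ext_elem fun k => ?_
  rw [repr_cMap, map_zero, Finsupp.zero_apply]
  exact Ideal.Quotient.eq_zero_iff_mem.2 (Ideal.subset_span ⟨(l, k), rfl⟩)

variable {A : Type u} [CommRing A] [Algebra R A]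

theorem exists_hom {x : Var Q → A} (h : Sol Q x) : ∃ φ : Coord Q →ₐ[R] A, φ ∘ genX Q = x := by
  let φ₀ : PolyC Q →ₐ[R] A := MvPolynomial.aeval x
  have hx : φ₀ ∘ (MvPolynomial.X (R := R)) = x := funext fun v => MvPolynomial.aeval_X _ v
  have hker : ∀ p ∈ coordIdeal Q, φ₀ p = 0 := fun p hp => by
    induction hp using Submodule.span_induction with
    | mem y hy =>
      obtain ⟨⟨l, k⟩, rfl⟩ := hy
      rw [← repr_cMap, cMap_eqs, hx, h l, map_zero, Finsupp.zero_apply]
    | zero => exact map_zero _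
    | add y z _ _ hy hz => rw [map_add, hy, hz, add_zero]
    | smul c y _ hy => rw [smul_eq_mul, map_mul, hy, mul_zero]
  exact ⟨Ideal.Quotient.liftₐ _ φ₀ hker, hx⟩

theorem hom_ext {φ ψ : Coord Q →ₐ[R] A} (h : φ ∘ genX Q = ψ ∘ genX Q) : φ = ψ :=
  Ideal.Quotient.algHom_ext _ (MvPolynomial.algHom_ext fun v => congrFun h v)

theorem exists_iso (G : Over (Spec (CommRingCat.of R))) [GrpObj G] (D : QuadGrp.GPinRep Q G) :
    ∃ u : QuadGrp.specOver R (Coord Q) ⟶ G, IsIso u := by
  let g : QuadGrp.specOver R (Coord Q) ⟶ G :=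
    (D.pts (Coord Q)).symm ⟨(sol_genX Q).unit, (sol_genX Q).mem⟩
  have hval : ∀ (A : Type u) [CommRing A] [Algebra R A] (φ : Coord Q →ₐ[R] A),
      ((D.pts A (QuadGrp.specOverMap R φ ≫ g)).1 : CliffordAlgebra (baseChangeForm A Q)) =
        ptU Q (φ ∘ genX Q) := by
    intro A _ _ φ
    rw [D.natural _ _ φ (cMap Q φ) (cMap_ι Q φ) (cMap_algebraMap Q φ) g]
    simp only [g, MulEquiv.apply_symm_apply]
    exact cMap_ptU Q _ φ
  refine ⟨g, QuadSm.isIso_of_points g fun A _ _ => ⟨fun f₁ f₂ hf => ?_, fun y => ?_⟩⟩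
  · obtain ⟨φ, rfl⟩ := QuadSm.specOverMap_surjective f₁
    obtain ⟨ψ, rfl⟩ := QuadSm.specOverMap_surjective f₂
    dsimp only at hf
    rw [hom_ext Q (Sol.ext Q ((sol_genX Q).map Q φ) ((sol_genX Q).map Q ψ)
      (by rw [← hval, ← hval, hf]))]
  · obtain ⟨x, hx, hxu⟩ := exists_sol Q _ (D.pts A y).2
    obtain ⟨φ, hφ⟩ := exists_hom Q hx
    refine ⟨QuadGrp.specOverMap R φ, (D.pts A).injective (Subtype.ext (Units.ext ?_))⟩
    show (((D.pts A (QuadGrp.specOverMap R φ ≫ g)).1 : (CliffordAlgebra (baseChangeForm A Q))ˣ) : CliffordAlgebra (baseChangeForm A Q)) = _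
    rw [hval, hφ, hxu]

theorem isRegular_baseChange (hQ : QuadGrp.IsRegular Q) :
    QuadGrp.IsRegular (baseChangeForm A Q) := by
  let Φ := LinearEquiv.ofBijective (QuadraticMap.polarBilin Q) hQ
  let b := Pi.basisFun R (Fin n)
  let d := b.dualBasis.map Φ.symm
  have hd : ∀ i j, QuadraticMap.polar (baseChangeForm A Q) ((1 : A) ⊗ₜ[R] d i) ((1 : A) ⊗ₜ[R] b j) =
      if j = i then 1 else 0 := by
    intro i j
    simp only [QuadraticMap.polar, ← TensorProduct.tmul_add, baseChangeForm_tmul, ← map_sub]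
    have h := congrArg (fun f : Module.Dual R (Fin n → R) => f (b j)) (Φ.apply_symm_apply (b.dualBasis i))
    change QuadraticMap.polarBilin Q (d i) (b j) = _ at h
    rw [QuadraticMap.polarBilin_apply_apply, QuadraticMap.polar, Module.Basis.dualBasis_apply_self] at h
    rw [h]
    split_ifs <;> simp
  let B := QuadraticMap.polarBilin (baseChangeForm A Q)
  have key : ∀ i, B (d.baseChange A i) = (b.baseChange A).dualBasis i := by
    intro i
    refine (b.baseChange A).ext fun j => ?_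
    rw [Module.Basis.dualBasis_apply_self, Module.Basis.baseChange_apply,
      Module.Basis.baseChange_apply]
    exact hd i j
  have : B = ((d.baseChange A).equiv (b.baseChange A).dualBasis (Equiv.refl _)).toLinearMap :=
    (d.baseChange A).ext fun i => by
      rw [key, LinearEquiv.coe_coe, Module.Basis.equiv_apply]; rfl
  show Function.Bijective B
  rw [this]
  exact LinearEquiv.bijective _

set_option maxHeartbeats 800000 in
theorem formallySmooth_of
    (hcorr : ∀ (B : Type u) [CommRing B] [Algebra R B] (I : Ideal B), I ^ 2 = ⊥ →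
      ∀ (u0 : (CliffordAlgebra (baseChangeForm B Q))ˣ) (e : B), IsIdempotentElem e →
        e • (u0 : CliffordAlgebra (baseChangeForm B Q)) ∈ evenOdd (baseChangeForm B Q) 0 →
        (1 - e) • (u0 : CliffordAlgebra (baseChangeForm B Q)) ∈ evenOdd (baseChangeForm B Q) 1 →
        (∀ z, ∃ y, (u0 : CliffordAlgebra (baseChangeForm B Q)) * ι (baseChangeForm B Q) y *
            (↑u0⁻¹ : CliffordAlgebra (baseChangeForm B Q)) - ι (baseChangeForm B Q) z ∈
          I • (⊤ : Submodule B (CliffordAlgebra (baseChangeForm B Q)))) →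
        ∃ u ∈ QuadGrp.GPin (baseChangeForm B Q),
          (u : CliffordAlgebra (baseChangeForm B Q)) - (u0 : CliffordAlgebra (baseChangeForm B Q)) ∈
            I • (⊤ : Submodule B (CliffordAlgebra (baseChangeForm B Q)))) :
    Algebra.FormallySmooth R (Coord Q) := by
  rw [Algebra.FormallySmooth.iff_comp_surjective]
  intro B _ _ I hI f
  let π := Ideal.Quotient.mkₐ R I
  have hker : ∀ a, π a = 0 ↔ a ∈ I := fun a => Ideal.Quotient.eq_zero_iff_mem
  let x := f ∘ genX Q
  have hx : Sol Q x := (sol_genX Q).map Q f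
  have hsurj := cMap_surjective Q π (Ideal.Quotient.mkₐ_surjective R I)
  obtain ⟨w, hw⟩ := hsurj (ptU Q x)
  obtain ⟨w', hw'⟩ := hsurj (ptV Q x)
  obtain ⟨e₀, he₀⟩ := Ideal.Quotient.mkₐ_surjective R I (ptE Q x)
  change π e₀ = ptE Q x at he₀
  have hm : e₀ * e₀ - e₀ ∈ I := by
    rw [← hker, map_sub, map_mul, he₀, hx.idem.eq, sub_self]
  have hI0 : (e₀ * e₀ - e₀) * (e₀ * e₀ - e₀) = 0 := by
    have := Ideal.mul_mem_mul hm hm
    rwa [← pow_two I, hI, Ideal.mem_bot] at this
  let e := 3 * (e₀ * e₀) - 2 * (e₀ * e₀ * e₀)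
  have he : IsIdempotentElem e := by
    show e * e = e
    simp only [e]
    linear_combination (4 * (e₀ * e₀ - e₀) - 3) * hI0
  have hee : π e = ptE Q x := by
    simp only [e, map_sub, map_mul, map_ofNat, he₀, hx.idem.eq]
    ring
  let u₁ := e • part _ 0 w + (1 - e) • part _ 1 w
  have hu₁ : cMap Q π u₁ = ptU Q x := by
    simp only [u₁, map_add, cMap_smul, cMap_part, map_sub, map_one, hee, hw]
    rw [← map_smul, ← map_smul, part_of_mem _ hx.even, part_of_mem _ hx.odd, ← add_smul,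
      add_sub_cancel, one_smul]
  have hunit : ∀ a b : CliffordAlgebra (baseChangeForm B Q), cMap Q π (a * b) = 1 →
      IsUnit (a * b) := by
    intro a b hab
    have hJ : a * b - 1 ∈ I • (⊤ : Submodule B (CliffordAlgebra (baseChangeForm B Q))) :=
      mem_smul_top_of_cMap_eq_zero Q π (fun c hc => (hker c).1 hc) (by rw [map_sub, hab, map_one, sub_self])
    have h2 := mul_eq_zero_of_sq hI hJ hJ
    refine ⟨⟨a * b, 1 - (a * b - 1), ?_, ?_⟩, rfl⟩
    · calc a * b * (1 - (a * b - 1)) = 1 - (a * b - 1) * (a * b - 1) := by noncomm_ring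
        _ = 1 := by rw [h2, sub_zero]
    · calc (1 - (a * b - 1)) * (a * b) = 1 - (a * b - 1) * (a * b - 1) := by noncomm_ring
        _ = 1 := by rw [h2, sub_zero]
  have hu : IsUnit u₁ := by
    obtain ⟨p, hp⟩ := hunit u₁ w' (by rw [map_mul, hu₁, hw']; exact sub_eq_zero.1 (hx .left))
    obtain ⟨q, hq⟩ := hunit w' u₁ (by rw [map_mul, hu₁, hw']; exact sub_eq_zero.1 (hx .right))
    refine isUnit_iff_exists_and_exists.2 ⟨⟨w' * ↑p⁻¹, ?_⟩, ⟨↑q⁻¹ * w', ?_⟩⟩
    · rw [← mul_assoc, ← hp, Units.mul_inv]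
    · rw [mul_assoc, ← hq, Units.inv_mul]
  obtain ⟨u₀, hu₀⟩ := hu
  have hu₀m : cMap Q π ↑u₀ = ptU Q x := hu₀ ▸ hu₁
  have hu₀i : cMap Q π ↑u₀⁻¹ = ptV Q x :=
    congrArg (fun u : (CliffordAlgebra (baseChangeForm (B ⧸ I) Q))ˣ =>
        (↑u⁻¹ : CliffordAlgebra (baseChangeForm (B ⧸ I) Q)))
      (Units.ext hu₀m : Units.map (cMap Q π).toMonoidHom u₀ = hx.unit)
  have h0 : e • (u₀ : CliffordAlgebra (baseChangeForm B Q)) ∈ evenOdd _ 0 := by
    rw [hu₀]
    simp only [u₁, smul_add, smul_smul, he.eq, mul_sub, mul_one, sub_self, zero_smul, add_zero]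
    exact Submodule.smul_mem _ _ (part_mem _ 0 w)
  have h1 : (1 - e) • (u₀ : CliffordAlgebra (baseChangeForm B Q)) ∈ evenOdd _ 1 := by
    rw [hu₀]
    simp only [u₁, smul_add, smul_smul, he.one_sub.eq, sub_mul, one_mul, he.eq, sub_self,
      zero_smul, zero_add]
    exact Submodule.smul_mem _ _ (part_mem _ 1 w)
  have happrox : ∀ z, ∃ y, (u₀ : CliffordAlgebra (baseChangeForm B Q)) * ι (baseChangeForm B Q) y * (↑u₀⁻¹ : CliffordAlgebra (baseChangeForm B Q)) - ι (baseChangeForm B Q) z ∈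
      I • (⊤ : Submodule B (CliffordAlgebra (baseChangeForm B Q))) := by
    let bB := (Pi.basisFun R (Fin n)).baseChange B
    have hj : ∀ j, ∃ y, (u₀ : CliffordAlgebra (baseChangeForm B Q)) * ι (baseChangeForm B Q) y * (↑u₀⁻¹ : CliffordAlgebra (baseChangeForm B Q)) - ι (baseChangeForm B Q) (bB j) ∈
        I • (⊤ : Submodule B (CliffordAlgebra (baseChangeForm B Q))) := by
      intro j
      choose c hc using fun i => Ideal.Quotient.mkₐ_surjective R I (x (.inr (.inr (.inr (i, j)))))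
      change ∀ i, π (c i) = _ at hc
      refine ⟨∑ i, c i • vec B i, mem_smul_top_of_cMap_eq_zero Q π (fun c hc => (hker c).1 hc) ?_⟩
      rw [map_sub, map_mul, map_mul, cMap_ι, cMap_ι, hu₀m, hu₀i, map_sum]
      simp only [rTensor_smul_vec, hc, show bB j = vec B j from rfl, cMap_vec]
      have hb := sub_eq_zero.1 (hx (.bwd j))
      have hl := sub_eq_zero.1 (hx .left)
      rw [show (∑ i, x (.inr (.inr (.inr (i, j)))) • vec (B ⧸ I) i) = ptB Q x j from rfl, ← hb,
        ← mul_assoc, ← mul_assoc, hl, one_mul, mul_assoc, hl, mul_one, sub_self]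
    intro z
    choose y hy using hj
    refine ⟨bB.constr B y z, ?_⟩
    refine mem_of_basis bB
      (LinearMap.mulRight B (↑u₀⁻¹ : CliffordAlgebra (baseChangeForm B Q)) ∘ₗ
        LinearMap.mulLeft B (u₀ : CliffordAlgebra (baseChangeForm B Q)) ∘ₗ ι _ ∘ₗ bB.constr B y - ι _)
      _ (fun j => ?_) z
    simp only [LinearMap.sub_apply, LinearMap.comp_apply, Module.Basis.constr_basis]
    exact hy j
  obtain ⟨u, hu, hdiff⟩ := hcorr B I hI u₀ e he h0 h1 happrox
  obtain ⟨y, hy, hyu⟩ := exists_sol Q u hu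
  obtain ⟨φ, hφ⟩ := exists_hom Q hy
  refine ⟨φ, hom_ext Q ?_⟩
  show π ∘ (φ ∘ genX Q) = x
  rw [hφ]
  refine Sol.ext Q (hy.map Q π) hx ?_
  rw [← cMap_ptU, hyu, ← sub_add_cancel (u : CliffordAlgebra (baseChangeForm B Q)) u₀, map_add,
    cMap_eq_zero Q π (fun a ha => (hker a).2 ha) hdiff, zero_add, hu₀m]

theorem formallySmooth (hQ : QuadGrp.IsRegular Q) : Algebra.FormallySmooth R (Coord Q) :=
  formallySmooth_of Q fun _ _ _ _ hI u0 _ he h0 h1 h =>
    exists_gpin_correction (isRegular_baseChange Q hQ) hI u0 he h0 h1 h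

theorem smooth_and_affine (hQ : QuadGrp.IsRegular Q) (G : Over (Spec (CommRingCat.of R))) [GrpObj G]
    (D : QuadGrp.GPinRep Q G) : Smooth G.hom ∧ IsAffineHom G.hom := by
  obtain ⟨u, hu⟩ := exists_iso Q G D
  refine ⟨(QuadSm.smooth_iff_of_isIso u).2 (formallySmooth Q hQ), ?_⟩
  have : IsIso u.left := inferInstanceAs (IsIso ((Over.forget _).map u))
  rw [show G.hom = inv u.left ≫ (QuadGrp.specOver R (Coord Q)).hom by
    rw [IsIso.eq_inv_comp]; exact Over.w u]
  have : IsAffineHom (QuadGrp.specOver R (Coord Q)).hom :=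
    inferInstanceAs (IsAffineHom (Spec.map (CommRingCat.ofHom (algebraMap R (Coord Q)))))
  infer_instance

end Groth.Agent.CliffSm
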