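import Groth.Agent.CliffSm.OddMain

/-!
# The Pin group of a semiregular form of rank at least three is smooth
-/

set_option autoImplicit false
noncomputable section

universe u v

open CliffordAlgebra TensorProduct CategoryTheory AlgebraicGeometry
open QuadGrp (baseChangeForm)
open Groth.Agent.QuadCentre (hdA)
open scoped Pointwise

attribute [local instance] CategoryTheory.Hom.group

namespace Groth.Agent.CliffSm

section General

variable {S : Type u} [CommRing S] {M : Type v} [AddCommGroup M] [Module S M] {Q : QuadraticForm S M}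

theorem star_mem_evenOdd {i : ZMod 2} {x : CliffordAlgebra Q} (h : x ∈ evenOdd Q i) :
    star x ∈ evenOdd Q i := by
  rw [star_def, reverse_mem_evenOdd_iff, involute_mem_evenOdd_iff]
  exact h

theorem norm_mem_even (u : (CliffordAlgebra Q)ˣ) (hu : u ∈ QuadGrp.LH Q) :
    star (u : CliffordAlgebra Q) * u ∈ evenOdd Q 0 := by
  obtain ⟨e, he, h0, h1⟩ := hu
  have a0 := SetLike.mul_mem_graded (star_mem_evenOdd h0) h0
  have a1 := SetLike.mul_mem_graded (star_mem_evenOdd h1) h1
  rw [show (0 + 0 : ZMod 2) = 0 from rfl] at a0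
  rw [show (1 + 1 : ZMod 2) = 0 from rfl] at a1
  simp only [CliffordAlgebra.star_smul, smul_mul_assoc, mul_smul_comm, smul_smul, he.eq, he.one_sub.eq] at a0 a1
  have := add_mem a0 a1
  rwa [← add_smul, add_sub_cancel, one_smul] at this

theorem norm_commute (u : (CliffordAlgebra Q)ˣ) (hu : u ∈ QuadGrp.GPin' Q) (x : M) :
    ι Q x * (star (u : CliffordAlgebra Q) * u) = star (u : CliffordAlgebra Q) * u * ι Q x := by
  have h1 : ConjAct.toConjAct u • ι Q x ∈ ConjAct.toConjAct u • LinearMap.range (ι Q) :=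
    Submodule.smul_mem_pointwise_smul _ _ _ ⟨x, rfl⟩
  rw [(QuadGrp.mem_GPin' Q u).1 hu] at h1
  obtain ⟨y, hy⟩ := h1
  rw [ConjAct.units_smul_def, ConjAct.ofConjAct_toConjAct] at hy
  have hs := congrArg star hy
  rw [star_mul, star_mul, star_ι, star_ι, neg_mul, mul_neg, neg_inj, hy] at hs
  have hinv : star (u : CliffordAlgebra Q) * star (↑u⁻¹ : CliffordAlgebra Q) = 1 := by
    rw [← star_mul, Units.inv_mul, star_one]
  calc ι Q x * (star (u : CliffordAlgebra Q) * u)
      = star (u : CliffordAlgebra Q) * (star (↑u⁻¹ : CliffordAlgebra Q) * (ι Q x * star (u : CliffordAlgebra Q))) * u := by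
        rw [← mul_assoc, ← mul_assoc, hinv, one_mul, mul_assoc]
    _ = star (u : CliffordAlgebra Q) * ((u : CliffordAlgebra Q) * ι Q x * ↑u⁻¹) * u := by rw [← hs]
    _ = _ := by simp only [mul_assoc, Units.inv_mul, mul_one]

variable {n : ℕ} (b : Module.Basis (Fin n) S M)

theorem polarIdeal_eq_top (hn : 2 ≤ n) (hadj : adjIdeal (Q := Q) b = ⊤) :
    Ideal.span (Set.range fun p : Fin n × Fin n => QuadraticMap.polar Q (b p.1) (b p.2)) = ⊤ := by
  classical
  set 𝔞 := Ideal.span (Set.range fun p : Fin n × Fin n => QuadraticMap.polar Q (b p.1) (b p.2))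
  rw [eq_top_iff, ← hadj, adjIdeal, Ideal.span_le]
  rintro _ ⟨⟨i, j⟩, rfl⟩
  show (Groth.Agent.QuadCentre.polA (tableOf (Q := Q) b)).adjugate i j ∈ 𝔞
  rw [Matrix.adjugate_apply]
  obtain ⟨r, hr⟩ : ∃ r : Fin n, r ≠ j := Fintype.exists_ne_of_one_lt_card (by simpa using (show 1 < n by omega)) j
  rw [← Ideal.Quotient.eq_zero_iff_mem, RingHom.map_det]
  refine Matrix.det_eq_zero_of_row_eq_zero r fun c => ?_
  rw [RingHom.mapMatrix_apply, Matrix.map_apply, Matrix.updateRow_ne hr,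
    Ideal.Quotient.eq_zero_iff_mem, polA_tableOf]
  exact Ideal.subset_span ⟨(r, c), rfl⟩

variable [Module.Free S M] [Module.Finite S M]

/-- Inside an infinitesimal ideal, twice a contraction realises every norm. -/
theorem exists_norm_adjust (hn : 2 ≤ n) (hadj : adjIdeal (Q := Q) b = ⊤) {I : Ideal S} {r : S}
    (hr : r ∈ I) :
    ∃ X ∈ I • (⊤ : Submodule S (CliffordAlgebra Q)), X ∈ evenOdd Q 0 ∧
      X + star X = algebraMap S _ r ∧
      ∃ ζ : M →ₗ[S] M, (∀ x, ζ x ∈ I • (⊤ : Submodule S M)) ∧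
        ∀ x, ι Q x * X - X * ι Q x = ι Q (ζ x) := by
  have h1 : (1 : S) ∈ Ideal.span
      (Set.range fun p : Fin n × Fin n => QuadraticMap.polar Q (b p.1) (b p.2)) := by
    rw [polarIdeal_eq_top b hn hadj]; trivial
  obtain ⟨c, hc⟩ := Ideal.mem_span_range_iff_exists_fun.1 h1
  have hev : ∀ p : Fin n × Fin n, ι Q (b p.1) * ι Q (b p.2) ∈ evenOdd Q 0 := fun p =>
    ι_mul_ι_mem_evenOdd_zero Q _ _
  refine ⟨∑ p, (r * c p) • (ι Q (b p.1) * ι Q (b p.2)),
    Submodule.sum_mem _ fun p _ => Submodule.smul_mem_smul (I.mul_mem_right _ hr) trivial,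
    Submodule.sum_mem _ fun p _ => Submodule.smul_mem _ _ (hev p), ?_,
    ∑ p, (r * c p) • ((QuadraticMap.polarBilin Q).flip (b p.1) |>.smulRight (b p.2)) -
      ∑ p, (r * c p) • ((QuadraticMap.polarBilin Q).flip (b p.2) |>.smulRight (b p.1)),
    fun x => ?_, fun x => ?_⟩
  · rw [star_sum, ← Finset.sum_add_distrib]
    simp only [CliffordAlgebra.star_smul, star_mul, star_ι, neg_mul_neg, ← smul_add, ι_mul_ι_add_swap]
    simp only [Algebra.smul_def, ← map_mul, ← map_sum]
    congr 1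
    calc _ = r * ∑ p, c p * QuadraticMap.polar Q (b p.1) (b p.2) := by
          rw [Finset.mul_sum]; exact Finset.sum_congr rfl fun p _ => by ring
      _ = r := by rw [hc, mul_one]
  · simp only [LinearMap.sub_apply, LinearMap.sum_apply, LinearMap.smul_apply]
    exact sub_mem (Submodule.sum_mem _ fun p _ => Submodule.smul_mem_smul (I.mul_mem_right _ hr) trivial)
      (Submodule.sum_mem _ fun p _ => Submodule.smul_mem_smul (I.mul_mem_right _ hr) trivial)
  · simp only [Finset.mul_sum, Finset.sum_mul, ← Finset.sum_sub_distrib, LinearMap.sub_apply,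
      LinearMap.sum_apply, LinearMap.smul_apply, map_sum, map_sub, map_smul, LinearMap.smulRight_apply,
      LinearMap.flip_apply, mul_smul_comm, smul_mul_assoc, ← smul_sub]
    refine Finset.sum_congr rfl fun p _ => congrArg _ ?_
    rw [← contractLeft_polar_even Q (hev p), contractLeft_ι_mul, contractLeft_ι, ← Algebra.commutes,
      ← Algebra.smul_def]

/-- Correction to norm one. -/
theorem exists_norm_correction (hn : 2 ≤ n) (hadj : adjIdeal (Q := Q) b = ⊤) {I : Ideal S}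
    (hI : I ^ 2 = ⊥) (u : (CliffordAlgebra Q)ˣ) (hu : u ∈ QuadGrp.GPin Q)
    (h : star (u : CliffordAlgebra Q) * u - 1 ∈ I • (⊤ : Submodule S (CliffordAlgebra Q))) :
    ∃ v ∈ QuadGrp.Pin Q, (v : CliffordAlgebra Q) - (u : CliffordAlgebra Q) ∈
      I • (⊤ : Submodule S (CliffordAlgebra Q)) := by
  have hev : star (u : CliffordAlgebra Q) * u - 1 ∈ evenOdd Q 0 :=
    sub_mem (norm_mem_even u hu.2) (SetLike.one_mem_graded _)
  obtain ⟨r, hr⟩ := exists_scalar_of_killed b hadj hev fun x => by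
    rw [contractLeft_polar_even Q hev, mul_sub, sub_mul, mul_one, one_mul, norm_commute u hu.1,
      sub_self]
  have hrI : r ∈ I := scalarPart_mem (hr ▸ h)
  obtain ⟨X, hXJ, hX0, hXs, ζ, hζI, hζ⟩ := exists_norm_adjust b hn hadj (I.neg_mem hrI)
  have hXX : X * X = 0 := mul_eq_zero_of_sq hI hXJ hXJ
  let v : (CliffordAlgebra Q)ˣ := ⟨1 + X, 1 - X,
    by rw [add_mul, mul_sub, mul_sub, hXX, one_mul, one_mul, mul_one, sub_zero, sub_add_cancel],
    by rw [sub_mul, mul_add, mul_add, hXX, one_mul, one_mul, mul_one, add_zero, add_sub_cancel_right]⟩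
  have hconj : ∀ x, (v : CliffordAlgebra Q) * ι Q x * (↑v⁻¹ : CliffordAlgebra Q) = ι Q (x - ζ x) := by
    intro x
    show (1 + X) * ι Q x * (1 - X) = _
    have h2 := conj_one_add hI (A := ι Q x) (E := 0) hXJ (zero_mem _)
    rw [add_zero] at h2
    rw [h2, hζ, map_sub]
  have hv : v ∈ QuadGrp.GPin Q := by
    refine ⟨mem_GPin' v (fun x => ⟨_, hconj x⟩) (fun x => ⟨x + ζ x, ?_⟩),
      ⟨1, IsIdempotentElem.one, ?_, ?_⟩⟩
    · rw [hconj, map_add, eq_zero_of_sq hI ζ hζI (hζI x), add_zero, add_sub_cancel_right]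
    · rw [one_smul]; exact add_mem (SetLike.one_mem_graded _) hX0
    · rw [sub_self, zero_smul]; exact zero_mem _
  have hnorm : star ((v * u : (CliffordAlgebra Q)ˣ) : CliffordAlgebra Q) *
      ((v * u : (CliffordAlgebra Q)ˣ) : CliffordAlgebra Q) = 1 := by
    rw [Units.val_mul, star_mul]
    show star (u : CliffordAlgebra Q) * star (1 + X) * ((1 + X) * (u : CliffordAlgebra Q)) = 1
    have hstarX : star X ∈ I • (⊤ : Submodule S (CliffordAlgebra Q)) := by
      have : star X = algebraMap S _ (-r) - X := eq_sub_of_add_eq' hXs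
      rw [this]
      exact sub_mem (algebraMap_mem_smul_top (I.neg_mem hrI)) hXJ
    have h2 : star (1 + X) * (1 + X) = algebraMap S _ (1 - r) := by
      rw [star_add, star_one, add_mul, one_mul, mul_add, mul_one, mul_eq_zero_of_sq hI hstarX hXJ,
        add_zero, add_assoc, hXs, sub_eq_add_neg, map_add, map_one]
    rw [mul_assoc, ← mul_assoc (star (1 + X)), h2, Algebra.commutes, ← mul_assoc,
      show star (u : CliffordAlgebra Q) * u = algebraMap S _ (1 + r) by
        rw [map_add, map_one, ← hr, add_sub_cancel],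
      ← map_mul]
    have hr2 : r * r = 0 := by
      have := Ideal.mul_mem_mul hrI hrI
      rwa [← pow_two, hI, Ideal.mem_bot] at this
    rw [show (1 + r) * (1 - r) = 1 by linear_combination -hr2, map_one]
  refine ⟨v * u, ⟨mul_mem hv hu, hnorm⟩, ?_⟩
  show (1 + X) * (u : CliffordAlgebra Q) - u ∈ _
  rw [add_mul, one_mul, add_sub_cancel_left]
  exact map_mem_smul_top (LinearMap.mulRight S (u : CliffordAlgebra Q)) hXJ

end General

variable {R : Type u} [CommRing R] {n : ℕ} (Q : QuadraticForm R (Fin n → R))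

theorem cMap_star {A B : Type u} [CommRing A] [Algebra R A] [CommRing B] [Algebra R B]
    (φ : A →ₐ[R] B) (x : CliffordAlgebra (baseChangeForm A Q)) :
    cMap Q φ (star x) = star (cMap Q φ x) := by
  induction x using CliffordAlgebra.induction with
  | algebraMap r => rw [CliffordAlgebra.star_algebraMap, cMap_algebraMap, CliffordAlgebra.star_algebraMap]
  | ι v => rw [star_ι, map_neg, cMap_ι, star_ι]
  | mul a b ha hb => rw [star_mul, map_mul, map_mul, star_mul, ha, hb]
  | add a b ha hb => rw [star_add, map_add, map_add, star_add, ha, hb]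

/-- The ideal of norm one. -/
def normIdeal : Ideal (Coord Q) := Ideal.span (Set.range fun k : CIdx Q =>
  (cBasis Q (Coord Q)).repr (star (ptU Q (genX Q)) * ptU Q (genX Q) - 1) k)

/-- The coordinate ring of Pin. -/
abbrev CoordPin : Type u := Coord Q ⧸ normIdeal Q

instance : Algebra.FinitePresentation R (CoordPin Q) :=
  Algebra.FinitePresentation.quotient (Submodule.fg_span (Set.finite_range _))

/-- The universal point of Pin. -/
def genY : Var Q → CoordPin Q := Ideal.Quotient.mkₐ R (normIdeal Q) ∘ genX Q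

variable {A : Type u} [CommRing A] [Algebra R A]

theorem cMap_norm {B : Type u} [CommRing B] [Algebra R B] (φ : A →ₐ[R] B) (x : Var Q → A) :
    cMap Q φ (star (ptU Q x) * ptU Q x - 1) = star (ptU Q (φ ∘ x)) * ptU Q (φ ∘ x) - 1 := by
  rw [map_sub, map_one, map_mul, cMap_star, cMap_ptU]

theorem sol_genY : Sol Q (genY Q) := (sol_genX Q).map Q _

theorem norm_genY : star (ptU Q (genY Q)) * ptU Q (genY Q) = 1 := by
  rw [← sub_eq_zero, genY, ← cMap_norm]
  refine (cBasis Q (CoordPin Q)).ext_elem fun k => ?_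
  rw [repr_cMap, map_zero, Finsupp.zero_apply]
  exact Ideal.Quotient.eq_zero_iff_mem.2 (Ideal.subset_span ⟨k, rfl⟩)

theorem exists_hom_pin {x : Var Q → A} (h : Sol Q x) (hn : star (ptU Q x) * ptU Q x = 1) :
    ∃ φ : CoordPin Q →ₐ[R] A, φ ∘ genY Q = x := by
  obtain ⟨ψ, hψ⟩ := exists_hom Q h
  have hker : ∀ p ∈ normIdeal Q, ψ p = 0 := fun p hp => by
    induction hp using Submodule.span_induction with
    | mem y hy =>
      obtain ⟨k, rfl⟩ := hy
      rw [← repr_cMap, cMap_norm, hψ, hn, sub_self, map_zero, Finsupp.zero_apply]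
    | zero => exact map_zero _
    | add y z _ _ hy hz => rw [map_add, hy, hz, add_zero]
    | smul c y _ hy => rw [smul_eq_mul, map_mul, hy, mul_zero]
  exact ⟨Ideal.Quotient.liftₐ _ ψ hker, hψ⟩

theorem hom_ext_pin {φ ψ : CoordPin Q →ₐ[R] A} (h : φ ∘ genY Q = ψ ∘ genY Q) : φ = ψ :=
  Ideal.Quotient.algHom_ext _ (hom_ext Q h)

theorem Sol.mem_pin {x : Var Q → A} (h : Sol Q x) (hn : star (ptU Q x) * ptU Q x = 1) :
    h.unit ∈ QuadGrp.pin Q A := Subgroup.mem_inf.2 ⟨h.mem, (QuadGrp.mem_normOne _ _).2 hn⟩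

theorem pts_val (G : Over (Spec (CommRingCat.of R))) [GrpObj G] (D : QuadGrp.PinRep Q G)
    {C : Type u} [CommRing C] [Algebra R C] (y : Var Q → C) (hy : Sol Q y)
    (hn : star (ptU Q y) * ptU Q y = 1) (φ : C →ₐ[R] A) :
    ((D.pts A (QuadGrp.specOverMap R φ ≫ (D.pts C).symm ⟨hy.unit, Sol.mem_pin Q hy hn⟩)).1 :
      CliffordAlgebra (baseChangeForm A Q)) = ptU Q (φ ∘ y) := by
  rw [D.natural _ _ φ (cMap Q φ) (cMap_ι Q φ) (cMap_algebraMap Q φ)]
  rw [MulEquiv.apply_symm_apply]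
  exact cMap_ptU Q _ φ

theorem exists_iso_pin (G : Over (Spec (CommRingCat.of R))) [GrpObj G] (D : QuadGrp.PinRep Q G) :
    ∃ u : QuadGrp.specOver R (CoordPin Q) ⟶ G, IsIso u := by
  let g : QuadGrp.specOver R (CoordPin Q) ⟶ G :=
    (D.pts (CoordPin Q)).symm ⟨(sol_genY Q).unit, Sol.mem_pin Q (sol_genY Q) (norm_genY Q)⟩
  have hval : ∀ (A : Type u) [CommRing A] [Algebra R A] (φ : CoordPin Q →ₐ[R] A),
      ((D.pts A (QuadGrp.specOverMap R φ ≫ g)).1 : CliffordAlgebra (baseChangeForm A Q)) =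
        ptU Q (φ ∘ genY Q) := by
    intro A _ _ φ
    exact pts_val Q G D (genY Q) (sol_genY Q) (norm_genY Q) φ
  refine ⟨g, QuadSm.isIso_of_points g fun A _ _ => ⟨fun f₁ f₂ hf => ?_, fun y => ?_⟩⟩
  · obtain ⟨φ, rfl⟩ := QuadSm.specOverMap_surjective f₁
    obtain ⟨ψ, rfl⟩ := QuadSm.specOverMap_surjective f₂
    dsimp only at hf
    rw [hom_ext_pin Q (Sol.ext Q ((sol_genY Q).map Q φ) ((sol_genY Q).map Q ψ)
      (by rw [← hval, ← hval, hf]))]
  · obtain ⟨x, hx, hxu⟩ := exists_sol Q _ (D.pts A y).2.1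
    obtain ⟨φ, hφ⟩ := exists_hom_pin Q hx (by rw [hxu]; exact (D.pts A y).2.2)
    refine ⟨QuadGrp.specOverMap R φ, (D.pts A).injective (Subtype.ext (Units.ext ?_))⟩
    show (((D.pts A (QuadGrp.specOverMap R φ ≫ g)).1 : (CliffordAlgebra (baseChangeForm A Q))ˣ) :
      CliffordAlgebra (baseChangeForm A Q)) = _
    rw [hval, hφ, hxu]

theorem formallySmooth_pin (hn : Odd n) (hn2 : 2 ≤ n)
    (hQ : QuadGrp.IsSemiregular (Pi.basisFun R (Fin n)) (LinearEquiv.refl R R) Q) :
    Algebra.FormallySmooth R (CoordPin Q) := by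
  rw [Algebra.FormallySmooth.iff_comp_surjective]
  intro B _ _ I hI f
  let π := Ideal.Quotient.mkₐ R I
  have hker : ∀ a, π a = 0 ↔ a ∈ I := fun a => Ideal.Quotient.eq_zero_iff_mem
  have : Algebra.FormallySmooth R (Coord Q) := formallySmooth_semiregular Q hn hQ
  obtain ⟨ψ, hψ⟩ := Algebra.FormallySmooth.comp_surjective R (Coord Q) I hI
    (f.comp (Ideal.Quotient.mkₐ R (normIdeal Q)))
  let y := ψ ∘ genX Q
  have hy : Sol Q y := (sol_genX Q).map Q ψ
  have hπy : π ∘ y = f ∘ genY Q := by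
    funext v
    exact congrArg (fun φ : Coord Q →ₐ[R] B ⧸ I => φ (genX Q v)) hψ
  have hN : star (ptU Q y) * ptU Q y - 1 ∈ I • (⊤ : Submodule B (CliffordAlgebra (baseChangeForm B Q))) := by
    refine mem_smul_top_of_cMap_eq_zero Q π (fun a ha => (hker a).1 ha) ?_
    rw [cMap_norm, hπy, ← cMap_norm Q f (genY Q), norm_genY, sub_self, map_zero]
  obtain ⟨v, hv, hdiff⟩ := exists_norm_correction (Groth.Agent.QuadCentre.bA R n B) hn2
    (adjIdeal_eq_top _ hn (isUnit_hdA_baseChange Q hQ B)) hI hy.unit hy.mem hN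
  obtain ⟨z, hz, hzv⟩ := exists_sol Q v hv.1
  obtain ⟨φ, hφ⟩ := exists_hom_pin Q hz (by rw [hzv]; exact hv.2)
  refine ⟨φ, hom_ext_pin Q ?_⟩
  show π ∘ (φ ∘ genY Q) = f ∘ genY Q
  rw [hφ, ← hπy]
  refine Sol.ext Q (hz.map Q π) (hy.map Q π) ?_
  have h0 := cMap_eq_zero Q π (fun a ha => (hker a).2 ha) hdiff
  rw [map_sub, sub_eq_zero] at h0
  rw [← cMap_ptU, ← cMap_ptU, hzv]
  exact h0

theorem smooth_pin (hn : Odd n) (hn2 : 2 ≤ n)
    (hQ : QuadGrp.IsSemiregular (Pi.basisFun R (Fin n)) (LinearEquiv.refl R R) Q)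
    (G : Over (Spec (CommRingCat.of R))) [GrpObj G] (D : QuadGrp.PinRep Q G) : Smooth G.hom := by
  obtain ⟨u, hu⟩ := exists_iso_pin Q G D
  exact (QuadSm.smooth_iff_of_isIso u).2 (formallySmooth_pin Q hn hn2 hQ)

end Groth.Agent.CliffSm
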