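import Groth.Agent.CliffSm.OddCentre
import Groth.Agent.CliffSm.Pin
import Groth.Agent.CliffSm.Coord

/-!
# The Clifford group of a semiregular form of odd rank: points
-/

set_option autoImplicit false
noncomputable section

universe u v

open CliffordAlgebra QuadraticMap
open scoped Pointwise

namespace Groth.Agent.CliffSm

variable {R : Type u} [CommRing R] {M : Type v} [AddCommGroup M] [Module R M] {Q : QuadraticForm R M}

theorem plElt_star (x y : M) : star (plElt Q x y) = -plElt Q x y := by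
  simp only [plElt, star_sub, star_mul, star_ι, neg_mul_neg, neg_sub]

theorem plProd_star {m : ℕ} {u v : Fin m → M} {w : M} (h : IsFrame Q u v w) : ∀ l : List (Fin m),
    star (l.map fun i => plElt Q (u i) (v i)).prod =
      ((-1 : R) ^ l.length) • (l.map fun i => plElt Q (u i) (v i)).prod
  | [] => by simp
  | i :: l => by
    have hc : Commute (plElt Q (u i) (v i)) (l.map fun j => plElt Q (u j) (v j)).prod := by
      refine Commute.list_prod_right _ _ fun x hx => ?_
      obtain ⟨j, _, rfl⟩ := List.mem_map.1 hx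
      rcases eq_or_ne i j with rfl | hij
      · exact Commute.refl _
      · exact Commute.sub_left
          (Commute.mul_left (plElt_comm (h.uu j i (Ne.symm hij)) (h.vu _ j i (Ne.symm hij)))
            (plElt_comm (h.uv j i (Ne.symm hij)) (h.vv j i (Ne.symm hij))))
          (Commute.mul_left (plElt_comm (h.uv j i (Ne.symm hij)) (h.vv j i (Ne.symm hij)))
            (plElt_comm (h.uu j i (Ne.symm hij)) (h.vu _ j i (Ne.symm hij))))
    simp only [List.map_cons, List.prod_cons, List.length_cons, star_mul, plElt_star, plProd_star h l]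
    rw [smul_mul_assoc, mul_neg, ← hc.eq, pow_succ, mul_smul, neg_one_smul]

theorem frameElt_star {m : ℕ} {u v : Fin m → M} {w : M} (h : IsFrame Q u v w) :
    star (frameElt Q u v w) = ((-1 : R) ^ (m + 1)) • frameElt Q u v w := by
  rw [frameElt, star_mul, plProd_star h, star_ι, List.length_finRange, mul_neg, smul_mul_assoc,
    ← (plProd_comm_w h).eq, pow_succ, mul_smul, neg_one_smul, smul_neg]

variable [Module.Free R M] [Module.Finite R M] {m : ℕ} (b : Module.Basis (Fin (2 * m + 1)) R M)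
  (hu : IsUnit (QuadGrp.halfDisc b (LinearEquiv.refl R R) Q))

include hu in
theorem star_of_center {z : CliffordAlgebra Q} (hz : z ∈ Subalgebra.center R (CliffordAlgebra Q))
    (hz1 : z ∈ evenOdd Q 1) : star z = ((-1 : R) ^ (m + 1)) • z := by
  by_contra hne
  let J : Ideal R := (⊥ : Submodule R (CliffordAlgebra Q)).comap
    (LinearMap.toSpanSingleton R _ (star z - ((-1 : R) ^ (m + 1)) • z))
  have hJ : J ≠ ⊤ := fun h => hne (sub_eq_zero.1 (by
    have h1 : (1 : R) ∈ J := by rw [h]; trivial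
    simpa [J] using h1))
  obtain ⟨p, hp, hle⟩ := Ideal.exists_le_maximal J hJ
  haveI : p.IsPrime := hp.isPrime
  obtain ⟨u, v, w, h, hd, _, hw⟩ := exists_frame_at Q m b hu p
  set c := famBasis b
  set d := (c.toMatrix (fam u v w)).det
  have hz' := det_smul_frameElt c h
  obtain ⟨s, hs⟩ := mul_center_scalar Q b hu hz hz1 hz' (Submodule.smul_mem _ _ (frameElt_mem u v w))
  set r := Q w * ∏ i, plDisc Q (u i) (v i)
  have hsq : (d • frameElt Q u v w) * (d • frameElt Q u v w) = algebraMap R _ (d * d * r) := by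
    rw [smul_mul_assoc, mul_smul_comm, smul_smul, frameElt_sq h, Algebra.smul_def, ← map_mul]
  have hrz : (d * d * r) • z = s • (d • frameElt Q u v w) := by
    rw [Algebra.smul_def, Algebra.commutes, ← hsq, ← mul_assoc, hs, ← Algebra.smul_def]
  have hmem : d * d * r ∈ J := by
    show (d * d * r) • (star z - ((-1 : R) ^ (m + 1)) • z) ∈ (⊥ : Submodule R (CliffordAlgebra Q))
    rw [Submodule.mem_bot, smul_sub, ← CliffordAlgebra.star_smul, smul_comm, hrz]
    simp only [CliffordAlgebra.star_smul, frameElt_star h]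
    module
  have hdp := det_fam_notMem Q c h p hd hw
  rcases Ideal.IsPrime.mem_or_mem inferInstance (hle hmem) with hm | hm
  · exact (Ideal.IsPrime.mem_or_mem inferInstance hm).elim hdp hdp
  · rcases Ideal.IsPrime.mem_or_mem inferInstance hm with hm | hm
    · exact hw hm
    · obtain ⟨i, _, hi⟩ := (Ideal.IsPrime.prod_mem_iff (p := p)).1 hm
      exact hd i hi

omit [Module.Free R M] [Module.Finite R M] in
theorem exists_conj_vec (u : (CliffordAlgebra Q)ˣ) (hu' : u ∈ QuadGrp.GPin' Q) (x : M) :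
    ∃ y, (u : CliffordAlgebra Q) * ι Q x = ι Q y * u := by
  have h1 : ConjAct.toConjAct u • ι Q x ∈ ConjAct.toConjAct u • LinearMap.range (ι Q) :=
    Submodule.smul_mem_pointwise_smul _ _ _ ⟨x, rfl⟩
  rw [(QuadGrp.mem_GPin' Q u).1 hu'] at h1
  obtain ⟨y, hy⟩ := h1
  rw [ConjAct.units_smul_def, ConjAct.ofConjAct_toConjAct] at hy
  refine ⟨y, ?_⟩
  rw [hy, mul_assoc, Units.inv_mul, mul_one]

/-- The central element cutting out a homogeneous part of a point. -/
theorem inv_part_mem_center (u : (CliffordAlgebra Q)ˣ) (hu' : u ∈ QuadGrp.GPin' Q) (i : ZMod 2) :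
    (↑u⁻¹ : CliffordAlgebra Q) * part Q i u ∈ Subalgebra.center R (CliffordAlgebra Q) := by
  refine mem_center_of_commute fun x => ?_
  obtain ⟨y, hy⟩ := exists_conj_vec u hu' x
  have h1 : part Q i (u : CliffordAlgebra Q) * ι Q x = ι Q y * part Q i u := by
    rw [← (part_ι_mul Q i x (u : CliffordAlgebra Q)).2, hy, (part_ι_mul Q i y (u : CliffordAlgebra Q)).1]
  have h2 : ι Q x = ↑u⁻¹ * ι Q y * u := by rw [mul_assoc, ← hy, ← mul_assoc, Units.inv_mul, one_mul]
  rw [mul_assoc, h1, h2]
  simp only [mul_assoc, Units.mul_inv_cancel_left]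

include hu in
theorem pin_eq_pin' [Invertible (2 : R)] (hm : Odd m) : QuadGrp.Pin Q = QuadGrp.Pin' Q := by
  refine le_antisymm (fun u hu' => ⟨hu'.1.1, hu'.2⟩) fun u hu' => ⟨⟨hu'.1, ?_⟩, hu'.2⟩
  have hN : star (u : CliffordAlgebra Q) * u = 1 := hu'.2
  let y : ZMod 2 → CliffordAlgebra Q := fun i => (↑u⁻¹ : CliffordAlgebra Q) * part Q i u
  have hy : ∀ i, y i ∈ Subalgebra.center R (CliffordAlgebra Q) := inv_part_mem_center u hu'.1
  have huy : ∀ i, (u : CliffordAlgebra Q) * y i = part Q i u := fun i => by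
    simp only [y, ← mul_assoc, Units.mul_inv, one_mul]
  have hsum : y 0 + y 1 = 1 := by simp only [y, ← mul_add, part_add, Units.inv_mul]
  have hstar : ∀ z ∈ Subalgebra.center R (CliffordAlgebra Q), star z = z := fun z hz => by
    conv_lhs => rw [← part_add Q z]
    obtain ⟨a, ha⟩ := even_center_scalar Q b hu _ (part_mem_center Q hz 0) (part_mem Q 0 z)
    rw [star_add, star_of_center b hu (part_mem_center Q hz 1) (part_mem Q 1 z),
      show ((-1 : R) ^ (m + 1)) = 1 from (hm.add_one).neg_one_pow, one_smul, ← ha, star_algebraMap, ha,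
      part_add]
  have hmul : ∀ i j, y i * y j = star (part Q i (u : CliffordAlgebra Q)) * part Q j u := fun i j => by
    have hcomm : ∀ z, z * y i = y i * z := Subalgebra.mem_center_iff.1 (hy i)
    conv_rhs => rw [← huy i, ← huy j, star_mul, hstar _ (hy i), mul_assoc, ← mul_assoc (star _), hN, one_mul]
  obtain ⟨a, ha⟩ := even_center_scalar Q b hu _ (part_mem_center Q (hy 0) 0) (part_mem Q 0 _)
  set β := part Q 1 (y 0)
  have hy0 : y 0 = algebraMap R _ a + β := by rw [ha, part_add]
  have hy1 : y 1 = algebraMap R _ (1 - a) - β := by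
    rw [map_sub, map_one, ← hsum, hy0]; abel
  have hββ : β * β ∈ evenOdd Q 0 := by
    simpa [β, show (1 : ZMod 2) + 1 = 0 by rfl] using SetLike.mul_mem_graded (part_mem Q 1 (y 0)) (part_mem Q 1 (y 0))
  have hββ0 : part Q 1 (β * β) = 0 := (mem_even_iff Q _).1 hββ
  have hβ1 : part Q 1 β = β := part_of_mem Q (part_mem Q 1 _)
  have halg : ∀ t : R, part Q 1 (algebraMap R (CliffordAlgebra Q) t) = 0 := fun t => by
    rw [Algebra.algebraMap_eq_smul_one, map_smul, part_of_mem_ne Q (SetLike.one_mem_graded (evenOdd Q)) zero_ne_one,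
      smul_zero]
  have hev : ∀ i, part Q 1 (y i * y i) = 0 := fun i => by
    have hi : i = 0 ∨ i = 1 := by revert i; decide
    refine (mem_even_iff Q _).1 ?_
    rw [hmul]
    have := SetLike.mul_mem_graded (star_mem_evenOdd (part_mem Q i (u : CliffordAlgebra Q)))
      (part_mem Q i (u : CliffordAlgebra Q))
    rcases hi with rfl | rfl
    · simpa using this
    · simpa [show (1 : ZMod 2) + 1 = 0 by rfl] using this
  have e1 := hev 0
  have e2 := hev 1
  simp only [hy0, hy1, add_mul, mul_add, sub_mul, mul_sub, ← Algebra.commutes _ β, ← Algebra.smul_def, ← map_mul,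
    map_add, map_sub, map_smul, hββ0, hβ1, halg, smul_zero, add_zero, zero_add, sub_zero, zero_sub] at e1 e2
  have hβ : β = 0 := by
    have h2 : (2 : R) • β = 0 := by linear_combination (norm := module) e1 - e2
    have := congrArg ((⅟ 2 : R) • ·) h2
    simpa [smul_smul] using this
  have hodd : part Q 0 (y 0 * y 1) = 0 := by
    refine (mem_odd_iff Q _).1 ?_
    rw [hmul]
    simpa using SetLike.mul_mem_graded (star_mem_evenOdd (part_mem Q 0 (u : CliffordAlgebra Q)))
      (part_mem Q 1 (u : CliffordAlgebra Q))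
  rw [hy0, hy1, hβ, add_zero, sub_zero, ← map_mul,
    part_of_mem Q (show algebraMap R (CliffordAlgebra Q) (a * (1 - a)) ∈ evenOdd Q 0 by
      rw [Algebra.algebraMap_eq_smul_one]; exact Submodule.smul_mem _ _ (SetLike.one_mem_graded _))] at hodd
  have ha2 : a * (1 - a) = 0 := algebraMap_injective Q (hodd.trans (map_zero _).symm)
  refine ⟨a, by show a * a = a; linear_combination -ha2, ?_, ?_⟩
  · have h0 := huy 0
    rw [hy0, hβ, add_zero, ← Algebra.commutes, ← Algebra.smul_def] at h0
    rw [h0]; exact part_mem Q 0 _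
  · have h0 := huy 1
    rw [hy1, hβ, sub_zero, ← Algebra.commutes, ← Algebra.smul_def] at h0
    rw [h0]; exact part_mem Q 1 _

include hu in
theorem gpin'_decompose [IsLocalRing R] (u' : (CliffordAlgebra Q)ˣ) (hu' : u' ∈ QuadGrp.GPin' Q) :
    ∃ z : CliffordAlgebra Q, z ∈ Subalgebra.center R (CliffordAlgebra Q) ∧ IsUnit z ∧
      ∃ u ∈ QuadGrp.GSpin Q, (u' : CliffordAlgebra Q) = z * u := by
  obtain ⟨ζ, hζ, hζ1, hζu, ⟨r, hr⟩, -, hspan⟩ := centre_local Q b hu
  have main : ∀ k : CliffordAlgebra Q, k ∈ Subalgebra.center R (CliffordAlgebra Q) → IsUnit k →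
      (u' : CliffordAlgebra Q) * k ∈ evenOdd Q 0 →
      ∃ z : CliffordAlgebra Q, z ∈ Subalgebra.center R (CliffordAlgebra Q) ∧ IsUnit z ∧
        ∃ u ∈ QuadGrp.GSpin Q, (u' : CliffordAlgebra Q) = z * u := by
    rintro k hk ⟨k', rfl⟩ hev
    have hk' : ∀ x, x * (↑k'⁻¹ : CliffordAlgebra Q) = ↑k'⁻¹ * x := fun x => by
      have h := Subalgebra.mem_center_iff.1 hk x
      calc x * (↑k'⁻¹ : CliffordAlgebra Q) = ↑k'⁻¹ * (↑k' * x) * ↑k'⁻¹ := by rw [Units.inv_mul_cancel_left]
        _ = ↑k'⁻¹ * (x * ↑k') * ↑k'⁻¹ := by rw [h]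
        _ = _ := by rw [mul_assoc, mul_assoc, Units.mul_inv, mul_one]
    have hmem : k' ∈ QuadGrp.GPin' Q := by
      refine mem_GPin' _ (fun x => ⟨x, ?_⟩) (fun x => ⟨x, ?_⟩) <;>
        rw [← Subalgebra.mem_center_iff.1 hk, mul_assoc, Units.mul_inv, mul_one]
    refine ⟨↑k'⁻¹, Subalgebra.mem_center_iff.2 hk', Units.isUnit _, u' * k', ?_, ?_⟩
    · refine ⟨⟨mul_mem hu' hmem, 1, IsIdempotentElem.one, by rw [one_smul]; exact hev, ?_⟩, hev⟩
      rw [sub_self, zero_smul]; exact zero_mem _
    · rw [Units.val_mul, ← hk', Units.mul_inv_cancel_right]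
  set y := (↑u'⁻¹ : CliffordAlgebra Q) * part Q 0 u' with hydef
  have hy : y ∈ Subalgebra.center R (CliffordAlgebra Q) := inv_part_mem_center u' hu' 0
  have huy : (u' : CliffordAlgebra Q) * y = part Q 0 u' := by
    rw [hydef, Units.mul_inv_cancel_left]
  by_cases hyu : IsUnit y
  · exact main y hy hyu (by rw [huy]; exact part_mem Q 0 _)
  have hy' : y ∈ Submodule.span R ({1, ζ} : Set (CliffordAlgebra Q)) := by
    rw [← hspan]; exact hy
  obtain ⟨a, c, hac⟩ := Submodule.mem_span_pair.1 hy'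
  set N := a * a - c * c * r
  have hmul : (a • (1 : CliffordAlgebra Q) - c • ζ) * y = algebraMap R _ N := by
    rw [← hac]
    simp only [sub_mul, mul_add, smul_mul_assoc, mul_smul_comm, one_mul, mul_one, smul_smul, ← hr,
      Algebra.algebraMap_eq_smul_one, N]
    module
  have hN : N ∈ IsLocalRing.maximalIdeal R := by
    rw [IsLocalRing.mem_maximalIdeal]
    intro hNu
    obtain ⟨Nu, hNu⟩ := hNu
    have h1 : (↑Nu⁻¹ : R) • (a • (1 : CliffordAlgebra Q) - c • ζ) * y = 1 := by
      rw [smul_mul_assoc, hmul, ← hNu, Algebra.smul_def, ← map_mul, Units.inv_mul, map_one]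
    exact hyu ⟨⟨y, _, (Subalgebra.mem_center_iff.1 hy _).symm.trans h1, h1⟩, rfl⟩
  set mC := (IsLocalRing.maximalIdeal R) • (⊤ : Submodule R (CliffordAlgebra Q))
  have key : a • part Q 0 (u' : CliffordAlgebra Q) - c • (ζ * part Q 0 (u' : CliffordAlgebra Q)) =
      N • (u' : CliffordAlgebra Q) := by
    have hζc := Subalgebra.mem_center_iff.1 hζ
    calc _ = (u' : CliffordAlgebra Q) * ((a • (1 : CliffordAlgebra Q) - c • ζ) * y) := by
            rw [← huy]
            simp only [sub_mul, smul_mul_assoc, one_mul, mul_sub, mul_smul_comm, ← mul_assoc,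
              hζc (u' : CliffordAlgebra Q)]
      _ = _ := by rw [hmul, ← Algebra.commutes, ← Algebra.smul_def]
  have h0 : a • part Q 0 (u' : CliffordAlgebra Q) = N • part Q 0 (u' : CliffordAlgebra Q) ∧
      -(c • (ζ * part Q 0 (u' : CliffordAlgebra Q))) = N • part Q 1 (u' : CliffordAlgebra Q) := by
    have hζp : ζ * part Q 0 (u' : CliffordAlgebra Q) ∈ evenOdd Q 1 := by
      simpa using SetLike.mul_mem_graded hζ1 (part_mem Q 0 (u' : CliffordAlgebra Q))
    have e0 := congrArg (part Q 0) key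
    have e1 := congrArg (part Q 1) key
    simp only [map_sub, map_smul, part_of_mem Q (part_mem Q 0 (u' : CliffordAlgebra Q)), part_of_mem Q hζp,
      part_of_mem_ne Q hζp (show (1 : ZMod 2) ≠ 0 by decide),
      part_of_mem_ne Q (part_mem Q 0 (u' : CliffordAlgebra Q)) (show (0 : ZMod 2) ≠ 1 by decide),
      smul_zero, sub_zero, zero_sub] at e0 e1
    exact ⟨e0, e1⟩
  have hin : ∀ x, N • x ∈ mC := fun x => Submodule.smul_mem_smul hN trivial
  have hp0 : part Q 0 (u' : CliffordAlgebra Q) ∈ mC := by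
    have h1 : ∀ t : R, t ∉ IsLocalRing.maximalIdeal R → ∀ x, t • x ∈ mC → x ∈ mC := fun t ht x hx =>
      (Submodule.smul_mem_iff_of_isUnit _ (by simpa [IsLocalRing.mem_maximalIdeal] using ht)).1 hx
    by_cases ha : a ∈ IsLocalRing.maximalIdeal R
    · by_cases hc : c ∈ IsLocalRing.maximalIdeal R
      · rw [← huy, ← hac, mul_add, mul_smul_comm, mul_smul_comm]
        exact add_mem (Submodule.smul_mem_smul ha trivial) (Submodule.smul_mem_smul hc trivial)
      · obtain ⟨ζu, hζu⟩ := hζu
        have h2 : ζ * part Q 0 (u' : CliffordAlgebra Q) ∈ mC := h1 c hc _ (neg_mem_iff.1 (h0.2 ▸ hin _))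
        have := map_mem_smul_top (LinearMap.mulLeft R (↑ζu⁻¹ : CliffordAlgebra Q)) h2
        rwa [LinearMap.mulLeft_apply, ← hζu, Units.inv_mul_cancel_left] at this
    · exact h1 a ha _ (h0.1 ▸ hin _)
  -- then the odd part is a unit times the point
  have hym : y ∈ mC := map_mem_smul_top (LinearMap.mulLeft R (↑u'⁻¹ : CliffordAlgebra Q)) hp0
  have hscal : ∀ t : R, algebraMap R (CliffordAlgebra Q) t ∈ mC → t ∈ IsLocalRing.maximalIdeal R := fun t ht => by
    have := map_mem_smul_top (scalarPart Q) ht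
    rwa [scalarPart_algebraMap, smul_eq_mul, Ideal.mul_top] at this
  have ha : a ∈ IsLocalRing.maximalIdeal R := by
    refine hscal a ?_
    have := map_mem_smul_top (part Q 0) hym
    rwa [← hac, map_add, map_smul, map_smul, part_of_mem Q (SetLike.one_mem_graded (evenOdd Q)),
      part_of_mem_ne Q hζ1 (show (1 : ZMod 2) ≠ 0 by decide), smul_zero, add_zero,
      ← Algebra.algebraMap_eq_smul_one] at this
  have hc : c * c * r ∈ IsLocalRing.maximalIdeal R := by
    have := sub_mem (Ideal.mul_mem_left _ a ha) hN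
    rwa [show a * a - N = c * c * r by ring] at this
  have hN' : IsUnit ((1 - a) * (1 - a) - c * c * r) := by
    by_contra h
    refine (IsLocalRing.maximalIdeal.isMaximal R).ne_top ((Ideal.eq_top_iff_one _).2 ?_)
    have h2 := sub_mem (sub_mem (add_mem (IsLocalRing.mem_maximalIdeal _ |>.2 h) hc) (Ideal.mul_mem_left _ a ha))
      (Ideal.mul_mem_left _ (-2 : R) ha)
    rwa [show ((1 - a) * (1 - a) - c * c * r + c * c * r) - a * a - -2 * a = 1 by ring] at h2
  obtain ⟨N', hN'⟩ := hN'
  set k := (1 : CliffordAlgebra Q) - y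
  have hk : k ∈ Subalgebra.center R (CliffordAlgebra Q) := sub_mem (one_mem _) hy
  have hku : IsUnit k := by
    suffices h1 : (↑N'⁻¹ : R) • ((1 - a) • (1 : CliffordAlgebra Q) + c • ζ) * k = 1 from
      ⟨⟨k, _, (Subalgebra.mem_center_iff.1 hk _).symm.trans h1, h1⟩, rfl⟩
    rw [smul_mul_assoc, show ((1 - a) • (1 : CliffordAlgebra Q) + c • ζ) * k = algebraMap R _ (N' : R) by
      simp only [k, ← hac, hN', add_mul, mul_sub, mul_add, smul_mul_assoc, mul_smul_comm, one_mul, mul_one,
        smul_smul, ← hr, Algebra.algebraMap_eq_smul_one]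
      module, Algebra.smul_def, ← map_mul, Units.inv_mul, map_one]
  refine main (k * ζ) (mul_mem hk hζ) (hku.mul hζu) ?_
  rw [← mul_assoc, show (u' : CliffordAlgebra Q) * k = part Q 1 u' by
    rw [mul_sub, mul_one, huy, sub_eq_iff_eq_add', part_add]]
  simpa [show (1 : ZMod 2) + 1 = 0 by rfl] using SetLike.mul_mem_graded (part_mem Q 1 (u' : CliffordAlgebra Q)) hζ1

end Groth.Agent.CliffSm
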