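import Groth.Agent.CliffSm.DetTransfer
import Groth.Agent.CliffSm.OddGroup
import Mathlib.RingTheory.Localization.AtPrime.Basic
import Mathlib.LinearAlgebra.Determinant

/-!
# Determinants of conjugations: regular and semiregular forms
-/

set_option autoImplicit false
noncomputable section

universe u v

open CliffordAlgebra QuadraticMap
open Groth.Agent.QuadCentre (polA hdA)
open scoped TensorProduct Pointwise

namespace Groth.Agent.CliffSm

variable {R : Type u} [CommRing R] {M : Type v} [AddCommGroup M] [Module R M] {Q : QuadraticForm R M} {n : ℕ}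

theorem isRegular_of_isUnit_det {S : Type u} [CommRing S] (Q₀ : QuadraticForm S (Fin n → S))
    (h : IsUnit (polA (tableOf (Q := Q₀) (Pi.basisFun S (Fin n)))).det) : QuadGrp.IsRegular Q₀ := by
  classical
  set bs := Pi.basisFun S (Fin n)
  let T : (Fin n → S) →ₗ[S] (Fin n → S) := bs.dualBasis.equivFun.toLinearMap ∘ₗ polarBilin Q₀
  have hT : LinearMap.toMatrix bs bs T = (polA (tableOf (Q := Q₀) bs)).transpose := by
    ext i j
    rw [LinearMap.toMatrix_apply, Matrix.transpose_apply, polA_tableOf]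
    simp only [T, bs, Pi.basisFun_repr, LinearMap.comp_apply, LinearEquiv.coe_coe,
      Module.Basis.equivFun_apply, Module.Basis.dualBasis_repr, polarBilin_apply_apply]
  have hTu : IsUnit (LinearMap.toMatrix bs bs T) := by
    rw [hT, Matrix.isUnit_iff_isUnit_det, Matrix.det_transpose]; exact h
  have hbij : Function.Bijective T := by
    have : IsUnit T := by
      have h' := hTu.map (Matrix.toLinAlgEquiv bs)
      rwa [show Matrix.toLinAlgEquiv bs (LinearMap.toMatrix bs bs T) = T from Matrix.toLin_toMatrix bs bs T] at h'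
    exact (Module.End.isUnit_iff _).1 this
  exact (Function.Bijective.of_comp_iff' (bs.dualBasis.equivFun.bijective) _).1 hbij

theorem flat_coord_semiregular {S : Type u} [CommRing S] (Q₀ : QuadraticForm S (Fin n → S)) (hn : Odd n)
    (h : IsUnit (hdA (tableOf (Q := Q₀) (Pi.basisFun S (Fin n))))) : Module.Flat S (Coord Q₀) := by
  haveI := formallySmooth_semiregular Q₀ hn h
  haveI : Algebra.Smooth S (Coord Q₀) := ⟨inferInstance, inferInstance⟩
  infer_instance

theorem flat_coord_regular {S : Type u} [CommRing S] (Q₀ : QuadraticForm S (Fin n → S))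
    (h : IsUnit (polA (tableOf (Q := Q₀) (Pi.basisFun S (Fin n)))).det) : Module.Flat S (Coord Q₀) := by
  haveI := formallySmooth Q₀ (isRegular_of_isUnit_det _ h)
  haveI : Algebra.Smooth S (Coord Q₀) := ⟨inferInstance, inferInstance⟩
  infer_instance

theorem det_conj_semiregular (b : Module.Basis (Fin n) R M) (hn : Odd n)
    (hb : IsUnit (hdA (tableOf (Q := Q) b))) (u : (CliffordAlgebra Q)ˣ) (hu : u ∈ QuadGrp.GPin Q)
    (g : M →ₗ[R] M) (hg : ∀ x, (u : CliffordAlgebra Q) * ι Q x * ↑u⁻¹ = ι Q (g x)) :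
    LinearMap.det g = 1 := by
  obtain ⟨hu', e, he, h0, h1⟩ := hu
  let D : TabPoly.{u} n := hdA (univTab n)
  have hDL : IsUnit (algebraMap (TabPoly.{u} n) (Localization.Away D) D) :=
    IsLocalization.Away.algebraMap_isUnit D
  have htab : hdA (algebraMap (TabPoly.{u} n) (Localization.Away D) ∘ univTab n) =
      algebraMap (TabPoly.{u} n) (Localization.Away D) D :=
    (Groth.Agent.QuadCentre.hdA_map (algebraMap (TabPoly.{u} n) (Localization.Away D)) (univTab n)).symm
  have hflat : Module.Flat (Localization.Away D)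
      (Coord (formOf (algebraMap (TabPoly.{u} n) (Localization.Away D) ∘ univTab n))) := by
    refine flat_coord_semiregular _ hn ?_
    rw [tableOf_formOf, htab]; exact hDL
  rw [det_conj_of b D hflat (fun B _ _ h2 => ?_) ?_ u ⟨hu', e, he, h0, h1⟩ g hg he h0 h1]
  · obtain ⟨m, rfl⟩ := hn
    rw [show 2 * m + 1 + 1 = 2 * (m + 1) by ring, pow_mul,
      show (2 * e - 1) ^ 2 = 1 by linear_combination 4 * he.eq, one_pow]
  · rw [Groth.Agent.QuadCentre.hdA_map]
    simpa [Function.comp_def, univTab] using hb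
  · rw [← Groth.Agent.QuadCentre.two_mul_hdA hn, map_mul, map_ofNat, htab]
    exact h2.mul (hDL.map _)

theorem det_conj_regular (b : Module.Basis (Fin n) R M)
    (hb : IsUnit (polA (tableOf (Q := Q) b)).det) (u : (CliffordAlgebra Q)ˣ) (hu : u ∈ QuadGrp.GPin Q)
    (g : M →ₗ[R] M) (hg : ∀ x, (u : CliffordAlgebra Q) * ι Q x * ↑u⁻¹ = ι Q (g x)) {e : R}
    (he : IsIdempotentElem e) (h0 : e • (u : CliffordAlgebra Q) ∈ evenOdd Q 0)
    (h1 : (1 - e) • (u : CliffordAlgebra Q) ∈ evenOdd Q 1) :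
    LinearMap.det g = (2 * e - 1) ^ (n + 1) := by
  let D : TabPoly.{u} n := (polA (univTab n)).det
  have hmap : ∀ {S : Type u} [CommRing S] (φ : TabPoly.{u} n →+* S), (polA (φ ∘ univTab n)).det = φ D := by
    intro S _ φ
    rw [RingHom.map_det]
    congr 1
    ext i j
    simp only [polA, Matrix.of_apply, RingHom.mapMatrix_apply, Matrix.map_apply, Function.comp_apply]
    split_ifs <;> simp [map_ofNat]
  have hDL : IsUnit (algebraMap (TabPoly.{u} n) (Localization.Away D) D) :=
    IsLocalization.Away.algebraMap_isUnit D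
  have hflat : Module.Flat (Localization.Away D)
      (Coord (formOf (algebraMap (TabPoly.{u} n) (Localization.Away D) ∘ univTab n))) := by
    refine flat_coord_regular _ ?_
    rw [tableOf_formOf, hmap]; exact hDL
  refine det_conj_of b D hflat (fun B _ _ _ => ?_) ?_ u hu g hg he h0 h1
  · rw [hmap]; exact hDL.map _
  · rw [← hmap]
    simpa [Function.comp_def, univTab] using hb

theorem gpin'_det_one {M₁ : Type u} [AddCommGroup M₁] [Module R M₁] [Module.Free R M₁] [Module.Finite R M₁]
    {Q₁ : QuadraticForm R M₁} {m : ℕ} (b : Module.Basis (Fin (2 * m + 1)) R M₁)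
    (hb : IsUnit (QuadGrp.halfDisc b (LinearEquiv.refl R R) Q₁)) (u : (CliffordAlgebra Q₁)ˣ)
    (hu : u ∈ QuadGrp.GPin' Q₁) (g : M₁ →ₗ[R] M₁)
    (hg : ∀ x, (u : CliffordAlgebra Q₁) * ι Q₁ x * ↑u⁻¹ = ι Q₁ (g x)) : LinearMap.det g = 1 := by
  by_contra hne
  let J : Ideal R := (⊥ : Submodule R R).comap (LinearMap.toSpanSingleton R R (LinearMap.det g - 1))
  have hJ : J ≠ ⊤ := fun h => hne (sub_eq_zero.1 (by
    have h1 : (1 : R) ∈ J := by rw [h]; trivial
    simpa [J] using h1))
  obtain ⟨p, hp, hle⟩ := Ideal.exists_le_maximal J hJ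
  haveI : p.IsPrime := hp.isPrime
  let A := Localization.AtPrime p
  let QA := QuadGrp.baseChangeForm A Q₁
  let uA : (CliffordAlgebra QA)ˣ := Units.map (fromC Q₁ A).toMonoidHom u
  have hgA : ∀ z, (uA : CliffordAlgebra QA) * ι QA z * (↑uA⁻¹ : CliffordAlgebra QA) = ι QA (g.baseChange A z) := by
    intro z
    induction z using TensorProduct.induction_on with
    | zero => simp
    | add x y hx hy => simp only [map_add, mul_add, add_mul, hx, hy]
    | tmul a x =>
      rw [LinearMap.baseChange_tmul, show a ⊗ₜ[R] x = a • ((1 : A) ⊗ₜ[R] x) by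
          rw [TensorProduct.smul_tmul', smul_eq_mul, mul_one],
        show a ⊗ₜ[R] g x = a • ((1 : A) ⊗ₜ[R] g x) by rw [TensorProduct.smul_tmul', smul_eq_mul, mul_one],
        map_smul, map_smul, mul_smul_comm, smul_mul_assoc, ← fromC_ι, ← fromC_ι, ← hg, map_mul, map_mul]
      rfl
  have hsurj : Function.Surjective g := fun y => by
    have h := (QuadGrp.mem_GPin' Q₁ u).1 hu
    have hy : ι Q₁ y ∈ ConjAct.toConjAct u • LinearMap.range (ι Q₁) := by rw [h]; exact ⟨_, rfl⟩
    obtain ⟨w, ⟨x, rfl⟩, hx⟩ := Submodule.mem_map.1 hy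
    exact ⟨x, ι_injective Q₁ ((hg x).symm.trans ((ConjAct.units_smul_def (ConjAct.toConjAct u) _).symm.trans hx))⟩
  have huA : uA ∈ QuadGrp.GPin' QA := mem_GPin' _ (fun z => ⟨_, hgA z⟩) fun z => by
    obtain ⟨y, hy⟩ := LinearMap.lTensor_surjective A hsurj z
    exact ⟨y, (hgA y).trans (congrArg _ hy)⟩
  let bA := b.baseChange A
  have hbA : IsUnit (hdA (tableOf (Q := QA) bA)) := by
    rw [tableOf_baseChange, ← Groth.Agent.QuadCentre.hdA_map]; exact hb.map _
  obtain ⟨z, hz, hzu, u'', hu'', heq⟩ := gpin'_decompose (Q := QA) bA hbA uA huA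
  obtain ⟨z', rfl⟩ := hzu
  have hdet : LinearMap.det (g.baseChange A) = 1 := by
    refine det_conj_semiregular bA ⟨m, rfl⟩ hbA u'' hu''.1 _ fun x => ?_
    rw [← hgA x, heq, show (↑uA⁻¹ : CliffordAlgebra QA) = ↑u''⁻¹ * ↑z'⁻¹ from
      Units.inv_eq_of_mul_eq_one_right (by rw [heq, mul_assoc, Units.mul_inv_cancel_left, Units.mul_inv])]
    simp only [mul_assoc]
    rw [← mul_assoc (z' : CliffordAlgebra QA)]
    have hc := fun y => Subalgebra.mem_center_iff.1 hz y
    rw [← hc]
    simp only [mul_assoc]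
    rw [show (z' : CliffordAlgebra QA) * (ι QA x * (↑u''⁻¹ * (↑z'⁻¹ : CliffordAlgebra QA))) =
      ι QA x * ↑u''⁻¹ * ((z' : CliffordAlgebra QA) * ↑z'⁻¹) by
        rw [← mul_assoc, ← hc, mul_assoc, ← mul_assoc (z' : CliffordAlgebra QA), ← hc]
        simp only [mul_assoc], Units.mul_inv, mul_one]
  rw [LinearMap.det_baseChange] at hdet
  obtain ⟨⟨s, hs⟩, hsd⟩ := (IsLocalization.eq_iff_exists p.primeCompl A).1 (hdet.trans (map_one _).symm)
  refine hs (hle ?_)
  show s • (LinearMap.det g - 1) ∈ (⊥ : Submodule R R)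
  rw [Submodule.mem_bot, smul_eq_mul, mul_sub, sub_eq_zero]
  exact hsd

end Groth.Agent.CliffSm
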