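import Groth.Agent.CliffSm.OddSolve
import Mathlib.LinearAlgebra.QuadraticForm.Radical
import Mathlib.LinearAlgebra.Dimension.StrongRankCondition
import Mathlib.LinearAlgebra.Matrix.ToLinearEquiv
import Mathlib.LinearAlgebra.TensorProduct.Basis
import Mathlib.RingTheory.LocalRing.ResidueField.Ideal

/-!
# Semiregular forms over fields
-/

set_option autoImplicit false
noncomputable section

universe u v

open Matrix
open Groth.Agent.QuadCentre (polA triA hdA transA)

namespace Groth.Agent.CliffSm

section Ring

variable {S : Type u} [CommRing S] {n : ℕ}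

theorem polA_eq_zero_of {a : Sym2 (Fin n) → S} {k : Fin n} (h : ∀ i, a (Sym2.mk k i) = 0) (i : Fin n) :
    polA a k i = 0 ∧ polA a i k = 0 := by
  simp only [polA, of_apply]
  constructor
  · split_ifs with h'
    · subst h'; rw [h, mul_zero]
    · exact h i
  · split_ifs with h'
    · subst h'; rw [h, mul_zero]
    · rw [Sym2.eq_swap]; exact h i

theorem adjugate_eq_zero_of {P : Matrix (Fin n) (Fin n) S} {k : Fin n} (hr : ∀ i, P k i = 0)
    (hc : ∀ i, P i k = 0) {i j : Fin n} (h : i ≠ k ∨ j ≠ k) : P.adjugate i j = 0 := by
  rw [Matrix.adjugate_apply]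
  rcases h with h | h
  · refine Matrix.det_eq_zero_of_column_eq_zero k fun r => ?_
    rcases eq_or_ne r j with rfl | hr'
    · rw [Matrix.updateRow_self, Pi.single_eq_of_ne (Ne.symm h)]
    · rw [Matrix.updateRow_ne hr', hc]
  · refine Matrix.det_eq_zero_of_row_eq_zero k fun c => ?_
    rw [Matrix.updateRow_ne (Ne.symm h), hr]

theorem hdA_eq_zero_of (hn : Odd n) {a : Sym2 (Fin n) → S} {k : Fin n}
    (h : ∀ i, a (Sym2.mk k i) = 0) : hdA a = 0 := by
  have hdet : (polA a).det = 0 :=
    Matrix.det_eq_zero_of_row_eq_zero k fun c => (polA_eq_zero_of h c).1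
  have h2 : 2 * hdA a = 0 := by rw [Groth.Agent.QuadCentre.two_mul_hdA hn, hdet]
  have h1 : (n : S) * hdA a = 0 := by
    rw [Groth.Agent.QuadSm.nat_mul_hdA hn]
    refine Finset.sum_eq_zero fun i _ => ?_
    rw [Matrix.diag_apply, Matrix.mul_apply]
    refine Finset.sum_eq_zero fun j _ => ?_
    by_cases hij : i = k ∧ j = k
    · rw [hij.1, hij.2]
      simp only [triA, of_apply, le_refl, if_true, h, mul_zero]
    · rw [adjugate_eq_zero_of (fun c => (polA_eq_zero_of h c).1) (fun c => (polA_eq_zero_of h c).2)
        (not_and_or.1 hij), zero_mul]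
  obtain ⟨m, hm⟩ := hn
  have hn' : (n : S) = 2 * m + 1 := by exact_mod_cast congrArg (Nat.cast (R := S)) hm
  rw [hn'] at h1
  linear_combination h1 - (m : S) * h2

/-- A table with a kernel vector at `k` has half-discriminant `a_kk` times a minor, in characteristic two. -/
theorem hdA_eq_of_row_eq_zero (hn : Odd n) (h2 : (2 : S) = 0) {a : Sym2 (Fin n) → S} {k : Fin n}
    (hr : ∀ i, polA a k i = 0) : hdA a = (polA a).adjugate k k * a (Sym2.mk k k) := by
  have h := Groth.Agent.QuadSm.nat_mul_hdA hn a
  obtain ⟨m, hm⟩ := id hn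
  have hn1 : ((n : ℕ) : S) = 1 := by
    rw [hm, Nat.cast_add, Nat.cast_mul, Nat.cast_one, Nat.cast_ofNat, h2, zero_mul, zero_add]
  rw [hn1, one_mul] at h
  rw [h, Matrix.trace]
  have hc : ∀ i, polA a i k = 0 := fun i => by
    rw [← transpose_apply (polA a) k i, Groth.Agent.QuadCentre.polA_transpose]; exact hr i
  rw [Finset.sum_eq_single k]
  · rw [Matrix.diag_apply, Matrix.mul_apply, Finset.sum_eq_single k]
    · simp [triA]
    · intro j _ hj
      rw [adjugate_eq_zero_of hr hc (Or.inr hj), zero_mul]
    · exact fun h => absurd (Finset.mem_univ k) h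
  · intro i _ hi
    rw [Matrix.diag_apply, Matrix.mul_apply]
    exact Finset.sum_eq_zero fun j _ => by rw [adjugate_eq_zero_of hr hc (Or.inl hi), zero_mul]
  · exact fun h => absurd (Finset.mem_univ k) h

variable {M : Type v} [AddCommGroup M] [Module S M] (b : Module.Basis (Fin n) S M)

/-- The change of basis replacing the `k`-th vector. -/
def replLin (x : M) (k : Fin n) : M →ₗ[S] M := b.constr S (Function.update b k x)

theorem det_replLin (x : M) (k : Fin n) : LinearMap.det (replLin b x k) = b.repr x k := by
  classical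
  rw [← LinearMap.det_toMatrix b]
  have : LinearMap.toMatrix b b (replLin b x k) =
      (1 : Matrix (Fin n) (Fin n) S).updateCol k (b.repr x) := by
    ext i j
    rw [LinearMap.toMatrix_apply, replLin, Module.Basis.constr_basis]
    rcases eq_or_ne j k with rfl | hj
    · rw [Function.update_self, updateCol_self]
    · rw [Function.update_of_ne hj, updateCol_ne hj, Module.Basis.repr_self, one_apply,
        Finsupp.single_apply]
      simp [eq_comm]
  rw [this, ← Matrix.cramer_apply, Matrix.cramer_one]
  rfl

end Ring

section FieldCase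

variable {K : Type u} [Field K] {M : Type v} [AddCommGroup M] [Module K M] {n : ℕ}
  (b : Module.Basis (Fin n) K M) (Q : QuadraticForm K M)

theorem nondegenerate_of_hdA (hn : Odd n) (h : hdA (tableOf (Q := Q) b) ≠ 0) :
    QuadraticMap.Nondegenerate (Q := Q) := by
  constructor
  · rw [eq_bot_iff]
    rintro x ⟨hx0, hx1⟩
    rw [Submodule.mem_bot]
    by_contra hx
    obtain ⟨k, hk⟩ : ∃ k, b.repr x k ≠ 0 := by
      by_contra! hall
      exact hx (b.ext_elem fun i => by simpa using hall i)
    have hg := Groth.Agent.QuadCentre.halfDisc_comp b Q hn (replLin b x k)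
    have h0 : hdA (tableOf (Q := Q.comp (replLin b x k)) b) = 0 := by
      refine hdA_eq_zero_of hn (k := k) fun i => ?_
      simp only [tableOf, QuadGrp.coeffs_mk, LinearEquiv.refl_apply, QuadraticMap.comp_apply]
      have hk' : replLin b x k (b k) = x := by
        rw [replLin, Module.Basis.constr_basis, Function.update_self]
      split_ifs with hki
      · rw [hk', hx0]
      · have := congrArg (fun f : M →ₗ[K] K => f (replLin b x k (b i))) hx1
        simp only [QuadraticMap.polarBilin_apply_apply, LinearMap.zero_apply] at this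
        simpa [QuadraticMap.polar, map_add, hk'] using this
    rw [det_replLin] at hg
    exact h ((mul_eq_zero.1 (hg.symm.trans h0)).resolve_left (pow_ne_zero _ hk))
  · have hadj := adjIdeal_eq_top b hn (isUnit_iff_ne_zero.2 h)
    obtain ⟨k, l, hkl⟩ : ∃ k l, (polA (tableOf (Q := Q) b)).adjugate k l ≠ 0 := by
      by_contra! hall
      refine (Ideal.ne_top_iff_one _).2 ?_ hadj
      rw [adjIdeal, show (Set.range fun p : Fin n × Fin n =>
        (polA (tableOf (Q := Q) b)).adjugate p.1 p.2) = {0} from ?_, Ideal.span_singleton_zero]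
      · exact fun h1 => one_ne_zero ((Ideal.mem_bot).1 h1)
      · ext t
        constructor
        · rintro ⟨p, rfl⟩; exact hall _ _
        · rintro rfl; exact ⟨(⟨0, hn.pos⟩, ⟨0, hn.pos⟩), hall _ _⟩
    choose w hw using fun a => Groth.Agent.QuadSm.cofactor_column (tableOf (Q := Q) b) a k l
    let ev : LinearMap.ker (QuadraticMap.polarBilin Q) →ₗ[K] K :=
      (b.coord k) ∘ₗ (LinearMap.ker (QuadraticMap.polarBilin Q)).subtype
    have hinj : Function.Injective ev := by
      rw [injective_iff_map_eq_zero]
      rintro ⟨y, hy⟩ hyk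
      change b.repr y k = 0 at hyk
      refine Subtype.ext (b.ext_elem fun a => ?_)
      rw [Submodule.coe_zero, map_zero, Finsupp.zero_apply]
      have h0 : QuadraticMap.polarBilin Q y (∑ c, w a c • b c) = 0 := by
        rw [LinearMap.mem_ker.1 hy]; rfl
      have hy' : QuadraticMap.polarBilin Q y = ∑ r, QuadraticMap.polarBilin Q (b.repr y r • b r) := by
        rw [← map_sum, b.sum_repr]
      rw [hy', LinearMap.sum_apply] at h0
      have hterm : ∀ r, QuadraticMap.polarBilin Q (b.repr y r • b r) (∑ c, w a c • b c) =
          b.repr y r * (polA (tableOf (Q := Q) b) *ᵥ w a) r := fun r => by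
        rw [map_smul, LinearMap.smul_apply, smul_eq_mul, map_sum, Matrix.mulVec, dotProduct]
        congr 1
        refine Finset.sum_congr rfl fun c _ => ?_
        rw [map_smul, smul_eq_mul, QuadraticMap.polarBilin_apply_apply, polA_tableOf, mul_comm]
      rw [Finset.sum_congr rfl fun r _ => hterm r, hw a] at h0
      simp only [Pi.sub_apply, Pi.single_apply, mul_sub, mul_ite, mul_zero, Finset.sum_sub_distrib,
        Finset.sum_ite_eq', Finset.mem_univ, if_true, hyk, zero_mul, sub_zero] at h0
      exact (mul_eq_zero.1 h0).resolve_right hkl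
    have := LinearMap.lift_rank_le_of_injective ev hinj
    rwa [Module.rank_self, Cardinal.lift_one, Cardinal.lift_le_one_iff] at this

theorem hdA_ne_zero_of_nondegenerate (hn : Odd n) (h : QuadraticMap.Nondegenerate (Q := Q)) :
    hdA (tableOf (Q := Q) b) ≠ 0 := by
  intro h0
  have hdet : (polA (tableOf (Q := Q) b)).det = 0 := by
    rw [← Groth.Agent.QuadCentre.two_mul_hdA hn, h0, mul_zero]
  obtain ⟨c, hc0, hc⟩ := (Matrix.exists_mulVec_eq_zero_iff).2 hdet
  let x := ∑ i, c i • b i
  have hrepr : ∀ i, b.repr x i = c i := fun i => congrFun (b.repr_sum_self c) i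
  have hxker : x ∈ LinearMap.ker (QuadraticMap.polarBilin Q) := by
    rw [LinearMap.mem_ker]
    refine b.ext fun i => ?_
    have := congrFun hc i
    simp only [Matrix.mulVec, dotProduct, Pi.zero_apply] at this
    simp only [x, map_sum, map_smul, LinearMap.sum_apply, LinearMap.smul_apply,
      QuadraticMap.polarBilin_apply_apply, LinearMap.zero_apply, smul_eq_mul]
    rw [← this]
    refine Finset.sum_congr rfl fun j _ => ?_
    rw [polA_tableOf, QuadraticMap.polar_comm, mul_comm]
  have hx0 : x ≠ 0 := fun hx => hc0 (funext fun i => by rw [← hrepr i, hx]; simp)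
  refine hx0 (show x = 0 from (Submodule.mem_bot K).1 (h.radical_eq_bot ▸ ⟨?_, LinearMap.mem_ker.1 hxker⟩))
  by_cases h2 : (2 : K) = 0
  · obtain ⟨k, hk⟩ : ∃ k, c k ≠ 0 := by
      by_contra! hall
      exact hc0 (funext hall)
    set g := replLin b x k
    have hgk : g (b k) = x := by rw [show g = replLin b x k from rfl, replLin, Module.Basis.constr_basis,
      Function.update_self]
    have hgdet : LinearMap.det g ≠ 0 := by rw [det_replLin, hrepr]; exact hk
    have hg := Groth.Agent.QuadCentre.halfDisc_comp b Q hn g
    have h0' : hdA (tableOf (Q := Q.comp g) b) = 0 := by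
      have : hdA (tableOf (Q := Q.comp g) b) = LinearMap.det g ^ 2 * hdA (tableOf (Q := Q) b) := hg
      rw [this, h0, mul_zero]
    have hpol : ∀ i, polA (tableOf (Q := Q.comp g) b) k i = 0 := by
      intro i
      rw [polA_tableOf]
      have := congrArg (fun f : M →ₗ[K] K => f (g (b i))) (LinearMap.mem_ker.1 hxker)
      simpa [QuadraticMap.polar, QuadraticMap.comp_apply, map_add, hgk] using this
    rw [hdA_eq_of_row_eq_zero hn h2 hpol] at h0'
    have hkk : tableOf (Q := Q.comp g) b (Sym2.mk k k) = Q x := by
      simp [tableOf, QuadGrp.coeffs_mk, QuadraticMap.comp_apply, hgk]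
    rw [hkk] at h0'
    refine (mul_eq_zero.1 h0').resolve_left fun hadj => ?_
    -- the minor is nonzero: the kernel is the line of `x`
    rw [Matrix.adjugate_apply] at hadj
    obtain ⟨y, hy0, hy⟩ := (Matrix.exists_mulVec_eq_zero_iff).2 hadj
    have hyk : y k = 0 := by
      have := congrFun hy k
      simpa [Matrix.mulVec, dotProduct, Pi.single_apply] using this
    let z := ∑ i, y i • g (b i)
    have hz : z ∈ LinearMap.ker (QuadraticMap.polarBilin Q) := by
      have hbij : Function.Surjective g := by
        have : IsUnit (LinearMap.det g) := isUnit_iff_ne_zero.2 hgdet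
        rw [← LinearMap.det_toMatrix b] at this
        intro v
        let e := Matrix.toLinearEquiv b (LinearMap.toMatrix b b g) this
        refine ⟨e.symm v, ?_⟩
        conv_rhs => rw [← e.apply_symm_apply v]
        show g (e.symm v) = Matrix.toLin b b (LinearMap.toMatrix b b g) (e.symm v)
        rw [Matrix.toLin_toMatrix]
      rw [LinearMap.mem_ker]
      refine LinearMap.ext fun v => ?_
      obtain ⟨v, rfl⟩ := hbij v
      refine LinearMap.congr_fun (f := QuadraticMap.polarBilin Q z ∘ₗ g) (g := 0) (b.ext fun r => ?_) v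
      have hrow : (polA (tableOf (Q := Q.comp g) b) *ᵥ y) r = 0 := by
        rcases eq_or_ne r k with rfl | hr
        · simp only [Matrix.mulVec, dotProduct, hpol, zero_mul, Finset.sum_const_zero]
        · have := congrFun hy r
          simp only [Matrix.mulVec, dotProduct, Matrix.updateRow_ne hr, Pi.zero_apply] at this
          exact this
      simp only [LinearMap.comp_apply, LinearMap.zero_apply, z, map_sum, map_smul, LinearMap.sum_apply,
        LinearMap.smul_apply, QuadraticMap.polarBilin_apply_apply, smul_eq_mul]
      rw [← hrow, Matrix.mulVec, dotProduct]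
      refine Finset.sum_congr rfl fun i _ => ?_
      rw [polA_tableOf, mul_comm]
      simp only [QuadraticMap.polar, QuadraticMap.comp_apply, map_add, add_comm (g (b r))]
      ring
    obtain ⟨t, ht⟩ : ∃ t : K, t • x = z := by
      obtain ⟨v₀, hv₀⟩ := (rank_submodule_le_one_iff' _).1 h.rank_rad_polar_le
      obtain ⟨s, hs⟩ := Submodule.mem_span_singleton.1 (hv₀ hxker)
      obtain ⟨s', hs'⟩ := Submodule.mem_span_singleton.1 (hv₀ hz)
      have hs0 : s ≠ 0 := fun h => hx0 (by rw [← hs, h, zero_smul])
      exact ⟨s' / s, by rw [← hs, smul_smul, div_mul_cancel₀ _ hs0, hs']⟩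
    have hcoord : ∀ i, b.repr z i = (if i = k then 0 else y i) := by
      intro i
      simp only [z, map_sum, map_smul, Finsupp.coe_finsetSum, Finset.sum_apply, Finsupp.smul_apply,
        smul_eq_mul]
      rw [Finset.sum_eq_single i]
      · rcases eq_or_ne i k with rfl | hi
        · simp [hyk]
        · rw [show g (b i) = b i by rw [show g = replLin b x k from rfl, replLin,
            Module.Basis.constr_basis, Function.update_of_ne hi]]
          simp [hi]
      · intro j _ hj
        rcases eq_or_ne j k with rfl | hjk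
        · rw [hyk, zero_mul]
        · rw [show g (b j) = b j by rw [show g = replLin b x k from rfl, replLin,
            Module.Basis.constr_basis, Function.update_of_ne hjk]]
          simp [Finsupp.single_apply, hj]
      · exact fun h => absurd (Finset.mem_univ i) h
    have ht0 : t = 0 := by
      have h1 := congrArg (fun v => b.repr v k) ht
      simp only [map_smul, Finsupp.smul_apply, hcoord, if_true, hrepr, smul_eq_mul] at h1
      exact (mul_eq_zero.1 h1).resolve_right hk
    refine hy0 (funext fun i => ?_)
    rcases eq_or_ne i k with rfl | hi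
    · exact hyk
    · have := congrArg (fun v => b.repr v i) ht
      simpa [ht0, hcoord, hi] using this.symm
  · have := congrArg (fun f : M →ₗ[K] K => f x) (LinearMap.mem_ker.1 hxker)
    simp only [QuadraticMap.polarBilin_apply_apply, QuadraticMap.polar_self, LinearMap.zero_apply,
      smul_eq_mul] at this
    rw [nsmul_eq_mul] at this
    exact (mul_eq_zero.1 this).resolve_left h2

end FieldCase

section Fibres

variable {R : Type u} [CommRing R] {M : Type v} [AddCommGroup M] [Module R M] [Module.Free R M]
  {n : ℕ} (b : Module.Basis (Fin n) R M) (Q : QuadraticForm R M)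

theorem tableOf_baseChange (A : Type*) [CommRing A] [Algebra R A] :
    tableOf (Q := QuadGrp.baseChangeForm A Q) (b.baseChange A) = algebraMap R A ∘ tableOf (Q := Q) b := by
  funext v
  induction v using Sym2.inductionOn with
  | hf i j =>
    simp only [tableOf, Function.comp_apply, QuadGrp.coeffs_mk, LinearEquiv.refl_apply,
      Module.Basis.baseChange_apply, QuadraticMap.polar, ← TensorProduct.tmul_add]
    split_ifs <;> simp [QuadGrp.baseChangeForm, QuadGrp.baseChange_tmul,
      Algebra.algebraMap_eq_smul_one, sub_smul]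

theorem isUnit_halfDisc_iff (hn : Odd n) :
    IsUnit (QuadGrp.halfDisc b (LinearEquiv.refl R R) Q) ↔
      ∀ (p : Ideal R) [p.IsPrime],
        QuadraticMap.Nondegenerate (Q := QuadGrp.baseChangeForm p.ResidueField Q) := by
  have key : ∀ (p : Ideal R) [p.IsPrime],
      hdA (tableOf (Q := QuadGrp.baseChangeForm p.ResidueField Q) (b.baseChange p.ResidueField)) =
        algebraMap R p.ResidueField (QuadGrp.halfDisc b (LinearEquiv.refl R R) Q) := by
    intro p _
    rw [tableOf_baseChange, ← Groth.Agent.QuadCentre.hdA_map]
    rfl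
  constructor
  · intro h p _
    refine nondegenerate_of_hdA (b.baseChange p.ResidueField) _ hn ?_
    rw [key]
    exact (h.map _).ne_zero
  · intro h
    by_contra hu
    obtain ⟨m, hm, hmem⟩ := exists_max_ideal_of_mem_nonunits hu
    refine hdA_ne_zero_of_nondegenerate (b.baseChange m.ResidueField) _ hn (h m) ?_
    rw [key]
    exact Ideal.algebraMap_residueField_eq_zero.2 hmem

end Fibres

end Groth.Agent.CliffSm
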