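import Groth.Agent.CliffSm.OddMain
import Groth.Agent.CliffSm.Field
import Mathlib.LinearAlgebra.CliffordAlgebra.Contraction
import Mathlib.LinearAlgebra.CliffordAlgebra.Inversion
import Mathlib.LinearAlgebra.ExteriorAlgebra.Basic
import Mathlib.RingTheory.Smooth.Flat
import Mathlib.RingTheory.Localization.Away.Basic
import Mathlib.RingTheory.Flat.TorsionFree

/-!
# The determinant of a conjugation
-/

set_option autoImplicit false
noncomputable section

universe u v

open CliffordAlgebra QuadraticMap
open Groth.Agent.QuadCentre (polA)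
open scoped TensorProduct

namespace Groth.Agent.CliffSm

section Field

variable {K : Type u} [Field K] {V : Type v} [AddCommGroup V] [Module K V] {Q : QuadraticForm K V} {n : ℕ}

theorem changeForm_orth_prod [Invertible (2 : K)] : ∀ (l : List V), l.Pairwise (fun x y => polar Q x y = 0) →
    equivExterior Q (l.map (ι Q)).prod = (l.map (ExteriorAlgebra.ι K)).prod ∧
      ∀ x : V, (∀ y ∈ l, polar Q x y = 0) →
        contractLeft ((QuadraticMap.associated (R := K) (-Q)) x) (l.map (ExteriorAlgebra.ι K)).prod = 0
  | [], _ => ⟨by simp [equivExterior, changeForm_one], fun x _ => by simp [contractLeft_one]⟩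
  | y :: l, hl => by
    obtain ⟨hy, hl'⟩ := List.pairwise_cons.1 hl
    obtain ⟨h1, h2⟩ := changeForm_orth_prod l hl'
    have hzero : ∀ x, (∀ z ∈ y :: l, polar Q x z = 0) → ∀ z ∈ y :: l,
        (QuadraticMap.associated (R := K) (-Q)) x z = 0 := fun x hx z hz => by
      have : polar (-Q) x z = 0 := by
        rw [FunLike.coe_neg, QuadraticMap.polar_neg, hx z hz, neg_zero]
      rw [QuadraticMap.associated_apply, show (-Q) (x + z) - (-Q) x - (-Q) z = 0 from this, smul_zero]
    refine ⟨?_, fun x hx => ?_⟩
    · simp only [List.map_cons, List.prod_cons, equivExterior, changeFormEquiv_apply] at h1 ⊢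
      rw [changeForm_ι_mul, h1, h2 y hy, sub_zero]
    · simp only [List.map_cons, List.prod_cons]
      show contractLeft _ (CliffordAlgebra.ι (0 : QuadraticForm K V) y * _) = 0
      rw [contractLeft_ι_mul, hzero x hx y List.mem_cons_self,
        h2 x (fun z hz => hx z (List.mem_cons_of_mem _ hz)), zero_smul, mul_zero, sub_zero]

theorem ιMulti_map (e : Module.Basis (Fin n) K V) (g : V →ₗ[K] V) :
    ExteriorAlgebra.ιMulti K n (g ∘ e) = LinearMap.det g • ExteriorAlgebra.ιMulti K n e := by
  classical
  have h : (ExteriorAlgebra.ιMulti K n : V [⋀^Fin n]→ₗ[K] ExteriorAlgebra K V) =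
      (LinearMap.toSpanSingleton K _ (ExteriorAlgebra.ιMulti K n e)).compAlternatingMap e.det := by
    refine Module.Basis.ext_alternating e fun i hi => ?_
    let σ : Equiv.Perm (Fin n) := Equiv.ofBijective i (Finite.injective_iff_bijective.1 hi)
    change ExteriorAlgebra.ιMulti K n (e ∘ σ) =
      (LinearMap.toSpanSingleton K _ (ExteriorAlgebra.ιMulti K n e)).compAlternatingMap e.det (e ∘ σ)
    simp [AlternatingMap.map_perm, Module.Basis.det_self]
  conv_lhs => rw [h]
  simp [Module.Basis.det_comp, Module.Basis.det_self]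

theorem anticomm_prod {A : Type*} [Ring A] {ι' : Type*} [DecidableEq ι'] (f : ι' → A) (i : ι')
    (h : ∀ j, j ≠ i → f i * f j = -(f j * f i)) : ∀ l : List ι', l.Nodup →
      f i * (l.map f).prod = ((-1 : ℤ) ^ (if i ∈ l then l.length - 1 else l.length)) • ((l.map f).prod * f i)
  | [], _ => by simp
  | j :: l, hl => by
    obtain ⟨hjl, hl'⟩ := List.nodup_cons.1 hl
    have ih := anticomm_prod f i h l hl'
    rw [List.map_cons, List.prod_cons, ← mul_assoc]
    rcases eq_or_ne j i with rfl | hji
    · rw [if_neg hjl] at ih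
      rw [if_pos List.mem_cons_self, List.length_cons, Nat.add_sub_cancel, mul_assoc, mul_assoc]
      conv_lhs => rw [ih]
      rw [mul_smul_comm]
    · rw [h j hji, neg_mul, mul_assoc, ih, mul_smul_comm, mul_assoc]
      by_cases hm : i ∈ l
      · rw [if_pos hm, if_pos (List.mem_cons_of_mem _ hm), List.length_cons, Nat.add_sub_cancel]
        obtain ⟨k, hk⟩ : ∃ k, l.length = k + 1 := Nat.exists_eq_succ_of_ne_zero (by
          intro h0; rw [List.length_eq_zero_iff] at h0; simp [h0] at hm)
        rw [hk, Nat.add_sub_cancel, pow_succ, mul_neg_one, neg_smul]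
      · rw [if_neg hm, if_neg (by simp [List.mem_cons, hm, Ne.symm hji]), List.length_cons, pow_succ,
          mul_neg_one, neg_smul]

theorem exists_orth [Invertible (2 : K)] (b : Module.Basis (Fin n) K V) :
    ∃ e : Module.Basis (Fin n) K V, ∀ i j, i ≠ j → polar Q (e i) (e j) = 0 := by
  haveI : Module.Finite K V := Module.Finite.of_basis b
  obtain ⟨e, he⟩ := LinearMap.BilinForm.exists_orthogonal_basis (B := polarBilin Q)
    ⟨fun x y => by simpa using QuadraticMap.polar_comm Q x y⟩
  have hn : Module.finrank K V = n := by rw [Module.finrank_eq_card_basis b, Fintype.card_fin]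
  refine ⟨e.reindex (finCongr hn), fun i j hij => ?_⟩
  rw [Module.Basis.reindex_apply, Module.Basis.reindex_apply, ← polarBilin_apply_apply]
  exact he (fun h => hij ((finCongr hn).symm.injective h))

/-- Conjugation by a homogeneous element over a field of odd characteristic. -/
theorem det_conj_field (h2 : (2 : K) ≠ 0) (b : Module.Basis (Fin n) K V)
    (hdet : (polA (tableOf (Q := Q) b)).det ≠ 0) (g : V →ₗ[K] V) (u : (CliffordAlgebra Q)ˣ)
    (hu : ∀ x, (u : CliffordAlgebra Q) * ι Q x * ↑u⁻¹ = ι Q (g x)) (i : ZMod 2)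
    (hi : (u : CliffordAlgebra Q) ∈ evenOdd Q i) :
    LinearMap.det g = if i = 0 then 1 else (-1 : K) ^ (n + 1) := by
  haveI : Invertible (2 : K) := invertibleOfNonzero h2
  obtain ⟨e, he⟩ := exists_orth (Q := Q) b
  have hQ : ∀ k, Q (e k) ≠ 0 := by
    intro k hk
    have hker : ∀ y, polar Q (e k) y = 0 := fun y => by
      rw [← e.sum_repr y, ← polarBilin_apply_apply, map_sum]
      refine Finset.sum_eq_zero fun l _ => ?_
      rw [map_smul, polarBilin_apply_apply]
      rcases eq_or_ne k l with rfl | hkl
      · rw [QuadraticMap.polar_self, hk, smul_zero, smul_zero]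
      · rw [he k l hkl, smul_zero]
    refine hdet ((Matrix.exists_mulVec_eq_zero_iff).1 ⟨fun r => b.repr (e k) r, ?_, ?_⟩)
    · intro h0
      exact e.ne_zero k (b.ext_elem fun r => by rw [congrFun h0 r, map_zero]; rfl)
    · funext r
      have h1 := hker (b r)
      rw [← b.sum_repr (e k), ← polarBilin_apply_apply, map_sum, LinearMap.sum_apply] at h1
      simp only [map_smul, LinearMap.smul_apply, polarBilin_apply_apply, smul_eq_mul] at h1
      rw [Pi.zero_apply, ← h1, Matrix.mulVec, dotProduct]
      exact Finset.sum_congr rfl fun c _ => by rw [polA_tableOf, QuadraticMap.polar_comm, mul_comm]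
  set P := ((List.finRange n).map fun k => ι Q (e k)).prod with hP
  have hPu : IsUnit P := by
    refine List.prod_isUnit fun x hx => ?_
    obtain ⟨k, _, rfl⟩ := List.mem_map.1 hx
    exact isUnit_ι_of_isUnit Q (isUnit_iff_ne_zero.2 (hQ k))
  have hgl : ∀ f : Fin n → V, (∀ k l, k ≠ l → polar Q (f k) (f l) = 0) →
      equivExterior Q ((List.finRange n).map fun k => ι Q (f k)).prod = ExteriorAlgebra.ιMulti K n f := by
    intro f hf
    have h := (changeForm_orth_prod (Q := Q) ((List.finRange n).map f) ?_).1
    · rw [List.map_map, List.map_map] at h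
      rw [ExteriorAlgebra.ιMulti_apply, List.ofFn_eq_map]
      exact h
    · exact List.Pairwise.map f (fun k l hkl => hf k l hkl) (List.nodup_finRange n)
  have hgQ : ∀ x, Q (g x) = Q x := fun x => algebraMap_injective Q <| by
    rw [← ι_sq_scalar, ← hu]
    simp only [mul_assoc, Units.inv_mul_cancel_left]
    rw [← mul_assoc (ι Q x), ι_sq_scalar, Algebra.commutes, ← mul_assoc, Units.mul_inv, one_mul]
  have hge : ((List.finRange n).map fun k => ι Q (g (e k))).prod = LinearMap.det g • P := by
    refine (equivExterior Q).injective ?_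
    rw [map_smul, hgl (fun k => g (e k)) (fun k l hkl => ?_), hP, hgl e he]
    · exact ιMulti_map e g
    · simp only [polar, ← map_add, hgQ]
      exact he k l hkl
  have hconj : ∀ l : List (Fin n),
      (u : CliffordAlgebra Q) * (l.map fun k => ι Q (e k)).prod * ↑u⁻¹ =
        (l.map fun k => ι Q (g (e k))).prod := by
    intro l
    induction l with
    | nil => simp
    | cons k l ih =>
      rw [List.map_cons, List.prod_cons, List.map_cons, List.prod_cons, ← ih, ← hu (e k)]
      simp only [mul_assoc, Units.inv_mul_cancel_left]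
  -- commutation of the product with vectors
  have hPx : ∀ x, ι Q x * P = ((-1 : K) ^ (n + 1)) • (P * ι Q x) := by
    have hb : ∀ k, ι Q (e k) * P = ((-1 : K) ^ (n + 1)) • (P * ι Q (e k)) := fun k => by
      rw [hP, anticomm_prod (fun k => ι Q (e k)) k (fun j hj => ι_mul_ι_comm_of_isOrtho (by
        rw [isOrtho_def]
        exact sub_eq_zero.1 (by rw [← sub_sub]; exact he k j (Ne.symm hj)))) _ (List.nodup_finRange n),
        if_pos (List.mem_finRange k), List.length_finRange, ← Int.cast_smul_eq_zsmul K,
        Int.cast_pow, Int.cast_neg, Int.cast_one]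
      obtain ⟨m, rfl⟩ : ∃ m, n = m + 1 := ⟨n - 1, by have := k.isLt; omega⟩
      rw [Nat.add_sub_cancel, pow_succ, pow_succ, mul_neg_one, mul_neg_one, neg_neg]
    intro x
    refine LinearMap.congr_fun (f := LinearMap.mulRight K P ∘ₗ ι Q)
      (g := ((-1 : K) ^ (n + 1)) • (LinearMap.mulLeft K P ∘ₗ ι Q)) (e.ext fun k => ?_) x
    exact hb k
  have hsq : ((-1 : K) ^ (n + 1)) * ((-1 : K) ^ (n + 1)) = 1 := by
    rw [← pow_add, ← two_mul, pow_mul, neg_one_sq, one_pow]
  have hev : ∀ y ∈ evenOdd Q 0, y * P = P * y := by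
    intro y hy
    induction y, hy using CliffordAlgebra.even_induction with
    | algebraMap r => exact Algebra.commutes r P
    | add a c _ _ ha hc => rw [add_mul, mul_add, ha, hc]
    | ι_mul_ι_mul x z y _ hy =>
      rw [mul_assoc (ι Q x * ι Q z), hy, mul_assoc (ι Q x), ← mul_assoc (ι Q z), hPx, smul_mul_assoc,
        mul_smul_comm, ← mul_assoc, ← mul_assoc, hPx, smul_mul_assoc, smul_mul_assoc, smul_smul, hsq, one_smul]
      simp only [mul_assoc]
  have key : (u : CliffordAlgebra Q) * P = (if i = 0 then (1 : K) else (-1 : K) ^ (n + 1)) • (P * u) := by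
    obtain rfl | rfl : i = 0 ∨ i = 1 := (show ∀ j : ZMod 2, j = 0 ∨ j = 1 by decide) i
    · rw [if_pos rfl, one_smul]; exact hev _ hi
    · rw [if_neg one_ne_zero]
      generalize (u : CliffordAlgebra Q) = w at hi ⊢
      induction w, hi using CliffordAlgebra.odd_induction with
      | ι v => exact hPx v
      | add a c _ _ ha hc => rw [add_mul, mul_add, smul_add, ha, hc]
      | ι_mul_ι_mul x z y _ hy =>
        rw [mul_assoc (ι Q x * ι Q z), hy, mul_smul_comm, mul_assoc (ι Q x), ← mul_assoc (ι Q z), hPx, smul_mul_assoc,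
          mul_smul_comm, ← mul_assoc, ← mul_assoc, hPx, smul_mul_assoc, smul_mul_assoc, smul_smul, smul_smul,
          mul_assoc, hsq, mul_one]
        simp only [mul_assoc]
  have hfin : LinearMap.det g • P = (if i = 0 then (1 : K) else (-1 : K) ^ (n + 1)) • P := by
    rw [← hge, ← hconj, ← hP, key, smul_mul_assoc, mul_assoc, Units.mul_inv, mul_one]
  by_contra hne
  rw [← sub_eq_zero, ← sub_smul] at hfin
  obtain ⟨P', hP'⟩ := hPu
  have := congrArg (fun y => y * (↑P'⁻¹ : CliffordAlgebra Q)) hfin
  simp only [smul_mul_assoc, ← hP', Units.mul_inv, zero_mul, ← Algebra.algebraMap_eq_smul_one] at this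
  exact hne (sub_eq_zero.1 (algebraMap_injective Q (this.trans (map_zero _).symm)))

end Field

section Universal

open QuadGrp (baseChangeForm)

variable {R : Type u} [CommRing R] {n : ℕ} (Q : QuadraticForm R (Fin n → R))
  {A : Type u} [CommRing A] [Algebra R A] (x : Var Q → A)

/-- The matrix of the conjugation. -/
def ptG : Matrix (Fin n) (Fin n) A := Matrix.of fun i j => x (.inr (.inr (.inl (i, j))))

/-- The conjugation. -/
def ptLin : A ⊗[R] (Fin n → R) →ₗ[A] A ⊗[R] (Fin n → R) :=
  ((Pi.basisFun R (Fin n)).baseChange A).constr A (ptF Q x)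

theorem det_ptLin : LinearMap.det (ptLin Q x) = (ptG Q x).det := by
  classical
  rw [← LinearMap.det_toMatrix ((Pi.basisFun R (Fin n)).baseChange A)]
  congr 1
  ext i j
  rw [LinearMap.toMatrix_apply, ptLin, Module.Basis.constr_basis]
  simp only [ptF, vec, ptG, Matrix.of_apply]
  rw [Module.Basis.repr_sum_self]

variable {x}

theorem Sol.conj (h : Sol Q x) (z : A ⊗[R] (Fin n → R)) :
    ptU Q x * ι _ z * ptV Q x = ι (baseChangeForm A Q) (ptLin Q x z) :=
  LinearMap.congr_fun (f := LinearMap.mulRight A (ptV Q x) ∘ₗ LinearMap.mulLeft A (ptU Q x) ∘ₗ ι _)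
    (g := ι (baseChangeForm A Q) ∘ₗ ptLin Q x)
    (((Pi.basisFun R (Fin n)).baseChange A).ext fun j => by
      simp only [LinearMap.comp_apply, LinearMap.mulRight_apply, LinearMap.mulLeft_apply, ptLin,
        Module.Basis.constr_basis]
      exact sub_eq_zero.1 (h (.fwd j))) z

theorem Sol.isometry (h : Sol Q x) (z : A ⊗[R] (Fin n → R)) :
    baseChangeForm A Q (ptLin Q x z) = baseChangeForm A Q z := algebraMap_injective _ <| by
  rw [← ι_sq_scalar, ← h.conj]
  have hvu : ∀ t, ptV Q x * (ptU Q x * t) = t := fun t => by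
    rw [← mul_assoc, sub_eq_zero.1 (h .right), one_mul]
  simp only [mul_assoc, hvu]
  rw [← mul_assoc (ι _ z), ι_sq_scalar, Algebra.commutes, ← mul_assoc, sub_eq_zero.1 (h .left), one_mul]

theorem Sol.det_sq (h : Sol Q x) (hu : IsUnit (algebraMap R A (polA (tableOf (Q := Q) (Pi.basisFun R (Fin n)))).det)) :
    (ptG Q x).det * (ptG Q x).det = 1 := by
  classical
  set bb := (Pi.basisFun R (Fin n)).baseChange A
  have htab : tableOf (Q := baseChangeForm A Q) bb = algebraMap R A ∘ tableOf (Q := Q) (Pi.basisFun R (Fin n)) :=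
    tableOf_baseChange (Pi.basisFun R (Fin n)) Q A
  set P := polA (tableOf (Q := baseChangeForm A Q) bb)
  have hP : IsUnit P.det := by
    have : P = (polA (tableOf (Q := Q) (Pi.basisFun R (Fin n)))).map (algebraMap R A) := by
      ext i j
      simp only [P, htab, polA, Matrix.of_apply, Matrix.map_apply, Function.comp_apply]
      split_ifs <;> simp [map_ofNat]
    rw [this, ← RingHom.mapMatrix_apply, ← RingHom.map_det]
    exact hu
  have hGPG : (ptG Q x).transpose * P * ptG Q x = P := by
    ext i j
    have h1 : polar (baseChangeForm A Q) (ptLin Q x (bb i)) (ptLin Q x (bb j)) =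
        polar (baseChangeForm A Q) (bb i) (bb j) := by
      simp only [polar, ← map_add, h.isometry]
    simp only [ptLin, bb, Module.Basis.constr_basis, ptF, vec] at h1
    rw [← polarBilin_apply_apply] at h1
    simp only [map_sum, LinearMap.sum_apply, map_smul, LinearMap.smul_apply, polarBilin_apply_apply, smul_eq_mul] at h1
    simp only [Matrix.mul_apply, Matrix.transpose_apply, ptG, Matrix.of_apply, P, bb, polA_tableOf,
      Finset.sum_mul]
    rw [← h1]
    refine Finset.sum_congr rfl fun a _ => ?_
    rw [Finset.mul_sum]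
    exact Finset.sum_congr rfl fun c _ => by ring
  have := congrArg Matrix.det hGPG
  rw [Matrix.det_mul, Matrix.det_mul, Matrix.det_transpose, mul_right_comm] at this
  exact hP.mul_right_cancel (this.trans (one_mul _).symm)

theorem ptG_map {B : Type u} [CommRing B] [Algebra R B] (φ : A →ₐ[R] B) :
    (ptG Q (φ ∘ x)).det = φ (ptG Q x).det := by
  rw [AlgHom.map_det]; rfl

theorem Sol.det_eq_of_two (h : Sol Q x) (h2 : IsUnit (2 : A))
    (hP : ∀ (B : Type u) [CommRing B] [Algebra R B], IsUnit (2 : B) →
      IsUnit (algebraMap R B (polA (tableOf (Q := Q) (Pi.basisFun R (Fin n)))).det)) :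
    (ptG Q x).det = (2 * ptE Q x - 1) ^ (n + 1) := by
  set d := (ptG Q x).det
  set c := (2 * ptE Q x - 1) ^ (n + 1)
  have hcc : c * c = 1 := by
    rw [← mul_pow, show (2 * ptE Q x - 1) * (2 * ptE Q x - 1) = 1 by linear_combination 4 * h.idem.eq, one_pow]
  have hsum : IsUnit (d + c) := by
    by_contra hns
    obtain ⟨m, hm, hmem⟩ := exists_max_ideal_of_mem_nonunits hns
    let φ : A →ₐ[R] m.ResidueField := IsScalarTower.toAlgHom R A _
    have hy := h.map Q φ
    have h2K : (2 : m.ResidueField) ≠ 0 := by
      have := (h2.map φ).ne_zero; rwa [map_ofNat] at this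
    have hE : ptE Q (φ ∘ x) = φ (ptE Q x) := rfl
    have hdc : φ d = φ c := by
      rw [← ptG_map, ← det_ptLin]
      have hdet : (polA (tableOf (Q := baseChangeForm m.ResidueField Q)
          ((Pi.basisFun R (Fin n)).baseChange m.ResidueField))).det ≠ 0 := by
        have hmap : polA (tableOf (Q := baseChangeForm m.ResidueField Q)
          ((Pi.basisFun R (Fin n)).baseChange m.ResidueField)) =
            (polA (tableOf (Q := Q) (Pi.basisFun R (Fin n)))).map (algebraMap R m.ResidueField) := by
          ext i j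
          simp only [tableOf_baseChange (Pi.basisFun R (Fin n)) Q, polA, Matrix.of_apply, Matrix.map_apply,
            Function.comp_apply]
          split_ifs <;> simp [map_ofNat]
        rw [hmap, ← RingHom.mapMatrix_apply, ← RingHom.map_det]
        exact (hP _ (isUnit_iff_ne_zero.2 h2K)).ne_zero
      rcases IsIdempotentElem.iff_eq_zero_or_one.1 hy.idem with he | he
      · have hodd : ((hy.unit : (CliffordAlgebra (baseChangeForm m.ResidueField Q))ˣ) : CliffordAlgebra _) ∈
            evenOdd (baseChangeForm m.ResidueField Q) 1 := by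
          have := hy.odd; rwa [he, sub_zero, one_smul] at this
        rw [det_conj_field h2K _ hdet _ hy.unit (fun z => hy.conj Q z) 1 hodd, if_neg one_ne_zero]
        simp only [c, map_pow, map_sub, map_mul, map_ofNat, map_one, ← hE, he, mul_zero, zero_sub]
      · have hev : ((hy.unit : (CliffordAlgebra (baseChangeForm m.ResidueField Q))ˣ) : CliffordAlgebra _) ∈
            evenOdd (baseChangeForm m.ResidueField Q) 0 := by
          have := hy.even; rwa [he, one_smul] at this
        rw [det_conj_field h2K _ hdet _ hy.unit (fun z => hy.conj Q z) 0 hev, if_pos rfl]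
        simp only [c, map_pow, map_sub, map_mul, map_ofNat, map_one, ← hE, he, mul_one]
        norm_num
    have h0 : φ (d + c) = 0 := Ideal.algebraMap_residueField_eq_zero.2 hmem
    rw [map_add, hdc, ← two_mul] at h0
    have hc0 := (mul_eq_zero.1 h0).resolve_left h2K
    have := congrArg φ hcc
    rw [map_mul, hc0, mul_zero, map_one] at this
    exact zero_ne_one this
  have hdd := h.det_sq Q (hP A h2)
  refine sub_eq_zero.1 (hsum.mul_left_eq_zero.1 ?_)
  linear_combination hdd - hcc

theorem det_gen_of_injective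
    (hP : ∀ (B : Type u) [CommRing B] [Algebra R B], IsUnit (2 : B) →
      IsUnit (algebraMap R B (polA (tableOf (Q := Q) (Pi.basisFun R (Fin n)))).det))
    {B : Type u} [CommRing B] [Algebra R B] (ψ : Coord Q →ₐ[R] B) (hψ : Function.Injective ψ)
    (h2 : IsUnit (algebraMap R B 2)) : (ptG Q (genX Q)).det = (2 * ptE Q (genX Q) - 1) ^ (n + 1) := by
  rw [map_ofNat] at h2
  refine hψ ?_
  have := ((sol_genX Q).map Q ψ).det_eq_of_two Q h2 hP
  rwa [ptG_map, show ptE Q (ψ ∘ genX Q) = ψ (ptE Q (genX Q)) from rfl, ← map_ofNat ψ 2, ← map_mul,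
    ← map_one ψ, ← map_sub, ← map_pow] at this

/-- The universal determinant. -/
theorem Sol.det_eq [Module.Flat R (Coord Q)] (h2 : IsRegular (2 : R))
    (hP : ∀ (B : Type u) [CommRing B] [Algebra R B], IsUnit (2 : B) →
      IsUnit (algebraMap R B (polA (tableOf (Q := Q) (Pi.basisFun R (Fin n)))).det))
    (h : Sol Q x) : (ptG Q x).det = (2 * ptE Q x - 1) ^ (n + 1) := by
  obtain ⟨φ, rfl⟩ := exists_hom Q h
  rw [ptG_map, show ptE Q (φ ∘ genX Q) = φ (ptE Q (genX Q)) from rfl]
  suffices hu : (ptG Q (genX Q)).det = (2 * ptE Q (genX Q) - 1) ^ (n + 1) by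
    rw [hu, map_pow, map_sub, map_mul, map_ofNat, map_one]
  have hreg : algebraMap R (Coord Q) 2 ∈ nonZeroDivisors (Coord Q) := by
    have hs : IsSMulRegular (Coord Q) (2 : R) := Module.IsTorsionFree.isSMulRegular h2
    rw [mem_nonZeroDivisors_iff_right]
    intro z hz
    exact hs (((Algebra.smul_def (2 : R) z).trans ((mul_comm _ z).trans hz)).trans (smul_zero (2 : R)).symm)
  let ψ : Coord Q →ₐ[R] Localization.Away (algebraMap R (Coord Q) 2) := IsScalarTower.toAlgHom R (Coord Q) _
  have hψ : Function.Injective ψ :=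
    IsLocalization.injective (M := Submonoid.powers (algebraMap R (Coord Q) 2)) _
      (Submonoid.powers_le.2 hreg)
  refine det_gen_of_injective Q hP ψ hψ ?_
  rw [IsScalarTower.algebraMap_apply R (Coord Q) (Localization.Away (algebraMap R (Coord Q) 2))]
  exact IsLocalization.Away.algebraMap_isUnit _

end Universal

end Groth.Agent.CliffSm
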