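import Mathlib.RingTheory.AdjoinRoot
import Mathlib.RingTheory.Flat.FaithfullyFlat.Algebra
import Mathlib.RingTheory.FinitePresentation
import Mathlib.RingTheory.Finiteness.FinitePresentationLocal
import Mathlib.RingTheory.Finiteness.ModuleFinitePresentation
import Mathlib.RingTheory.Flat.Localization
import Mathlib.RingTheory.Localization.Away.Basic
import Mathlib.RingTheory.Spectrum.Prime.Topology

/-!
# Faithfully flat covers adjoining roots of quadratic equations
-/

set_option autoImplicit false
noncomputable section

universe u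

open Polynomial

namespace Groth.Agent.CliffSm

theorem faithfullyFlat_adjoinRoot {A : Type u} [CommRing A] {q : A[X]} (hq : q.Monic) (hd : Nontrivial A → q.natDegree ≠ 0) :
    Module.FaithfullyFlat A (AdjoinRoot q) := by
  rcases subsingleton_or_nontrivial A with hA | hA
  · haveI : Subsingleton (AdjoinRoot q) := Module.subsingleton A _
    exact Module.FaithfullyFlat.of_linearEquiv A A (LinearEquiv.ofSubsingleton (AdjoinRoot q) A)
  · let B := (AdjoinRoot.powerBasis' hq).basis
    haveI : Nonempty (Fin (AdjoinRoot.powerBasis' hq).dim) :=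
      ⟨⟨0, Nat.pos_of_ne_zero (by rw [AdjoinRoot.powerBasis'_dim]; exact hd hA)⟩⟩
    exact Module.FaithfullyFlat.of_linearEquiv A _ B.repr

theorem exists_roots (L : Type u) [CommRing L] : ∀ (k : ℕ) (f : Fin k → L × L),
    ∃ (A : Type u) (_ : CommRing A) (_ : Algebra L A), Module.FaithfullyFlat L A ∧
      Algebra.FinitePresentation L A ∧
      ∀ i, ∃ t : A, t * t + algebraMap L A (f i).1 * t + algebraMap L A (f i).2 = 0 := by
  intro k
  induction k with
  | zero => exact fun f => ⟨L, inferInstance, Algebra.id L, inferInstance, inferInstance, fun i => i.elim0⟩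
  | succ k ih =>
    intro f
    obtain ⟨A, _, _, hff, hfp, hroot⟩ := ih fun i => f i.succ
    let q : A[X] := X ^ 2 + (C (algebraMap L A (f 0).1) * X + C (algebraMap L A (f 0).2))
    have hq : q.Monic := monic_X_pow_add (degree_linear_lt ..)
    have hd : Nontrivial A → q.natDegree ≠ 0 := fun _ => by
      have : q.natDegree = 2 := by
        rw [natDegree_add_eq_left_of_degree_lt, natDegree_X_pow]
        rw [degree_X_pow]
        exact degree_linear_lt ..
      omega
    haveI := faithfullyFlat_adjoinRoot hq hd
    haveI : Module.Free A (AdjoinRoot q) := hq.free_adjoinRoot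
    haveI : Module.Finite A (AdjoinRoot q) := hq.finite_adjoinRoot
    haveI : Algebra.FinitePresentation A (AdjoinRoot q) := inferInstance
    refine ⟨AdjoinRoot q, inferInstance, inferInstance, Module.FaithfullyFlat.trans L A _,
      Algebra.FinitePresentation.trans L A _, Fin.cases ⟨AdjoinRoot.root q, ?_⟩ fun i => ?_⟩
    · have h := AdjoinRoot.eval₂_root q
      simp only [q, eval₂_add, eval₂_mul, eval₂_pow, eval₂_X, eval₂_C] at h
      rw [IsScalarTower.algebraMap_apply L A (AdjoinRoot q), IsScalarTower.algebraMap_apply L A (AdjoinRoot q),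
        AdjoinRoot.algebraMap_eq, add_assoc, ← sq]
      exact h
    · obtain ⟨t, ht⟩ := hroot i
      refine ⟨algebraMap A (AdjoinRoot q) t, ?_⟩
      rw [IsScalarTower.algebraMap_apply L A (AdjoinRoot q), IsScalarTower.algebraMap_apply L A (AdjoinRoot q),
        ← map_mul, ← map_mul, ← map_add, ← map_add, ht, map_zero]

/-- A finite family of algebras whose images of spectra cover gives a faithfully flat product. -/
theorem faithfullyFlat_pi {R : Type u} [CommRing R] {ι : Type*} [Finite ι] (S : ι → Type u)
    [∀ i, CommRing (S i)] [∀ i, Algebra R (S i)] [∀ i, Module.Flat R (S i)]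
    (h : ∀ p : PrimeSpectrum R, ∃ i, p ∈ Set.range (PrimeSpectrum.comap (algebraMap R (S i)))) :
    Module.FaithfullyFlat R (∀ i, S i) := by
  classical
  haveI := Fintype.ofFinite ι
  haveI : Module.Flat R (∀ i, S i) := Module.Flat.of_linearEquiv (DFinsupp.linearEquivFunOnFintype (R := R)).symm
  refine Module.FaithfullyFlat.of_comap_surjective fun p => ?_
  obtain ⟨i, q, hq⟩ := h p
  refine ⟨PrimeSpectrum.comap (Pi.evalRingHom S i) q, ?_⟩
  rw [← hq]
  rfl

theorem exists_finite_cover {R : Type u} [CommRing R] (s : PrimeSpectrum R → R) (hs : ∀ p, s p ∉ p.asIdeal) :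
    ∃ T : Finset (PrimeSpectrum R), ∀ p : PrimeSpectrum R, ∃ t ∈ T, s t ∉ p.asIdeal := by
  obtain ⟨T, hT⟩ := isCompact_univ.elim_finite_subcover
    (fun p => (PrimeSpectrum.basicOpen (s p) : Set (PrimeSpectrum R)))
    (fun p => PrimeSpectrum.isOpen_basicOpen) (fun p _ => Set.mem_iUnion.2 ⟨p, hs p⟩)
  refine ⟨T, fun p => ?_⟩
  obtain ⟨t, ht, hp⟩ := Set.mem_iUnion₂.1 (hT (Set.mem_univ p))
  exact ⟨t, ht, (PrimeSpectrum.mem_basicOpen _ _).1 hp⟩

/-- Away from `s`, adjoin roots: an algebra faithfully flat over `D(s)`. -/
theorem exists_piece {R : Type u} [CommRing R] (s : R) (k : ℕ) (f : Fin k → Localization.Away s × Localization.Away s) :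
    ∃ (A : Type u) (_ : CommRing A) (_ : Algebra (Localization.Away s) A) (_ : Algebra R A),
      IsScalarTower R (Localization.Away s) A ∧
      Module.Flat R A ∧ Algebra.FinitePresentation R A ∧ IsUnit (algebraMap R A s) ∧
      (∀ p : PrimeSpectrum R, s ∉ p.asIdeal → p ∈ Set.range (PrimeSpectrum.comap (algebraMap R A))) ∧
      ∀ i, ∃ t : A, t * t + algebraMap (Localization.Away s) A (f i).1 * t +
        algebraMap (Localization.Away s) A (f i).2 = 0 := by
  obtain ⟨A, _, _, hff, hfp, hroot⟩ := exists_roots (Localization.Away s) k f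
  letI : Algebra R A := ((algebraMap (Localization.Away s) A).comp (algebraMap R (Localization.Away s))).toAlgebra
  haveI : IsScalarTower R (Localization.Away s) A := IsScalarTower.of_algebraMap_eq' rfl
  haveI : Algebra.FinitePresentation R (Localization.Away s) := IsLocalization.Away.finitePresentation s
  haveI : Module.Flat R (Localization.Away s) := IsLocalization.flat _ (Submonoid.powers s)
  refine ⟨A, inferInstance, inferInstance, inferInstance, inferInstance, Module.Flat.trans R (Localization.Away s) A,
    Algebra.FinitePresentation.trans R (Localization.Away s) A, ?_, fun p hp => ?_, hroot⟩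
  · exact (IsLocalization.Away.algebraMap_isUnit s).map (algebraMap (Localization.Away s) A)
  · have : p ∈ Set.range (PrimeSpectrum.comap (algebraMap R (Localization.Away s))) := by
      rw [PrimeSpectrum.localization_away_comap_range (Localization.Away s) s]
      exact hp
    obtain ⟨q, rfl⟩ := this
    obtain ⟨q', rfl⟩ := PrimeSpectrum.comap_surjective_of_faithfullyFlat (B := A) q
    exact ⟨q', rfl⟩

end Groth.Agent.CliffSm
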