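import Groth.Agent.CliffSm.Frame
import Groth.Agent.CliffSm.QuadRoots

/-!
# Semiregular forms of odd rank are fppf-locally split
-/

set_option autoImplicit false
noncomputable section

universe u v w

open QuadraticMap TensorProduct

namespace Groth.Agent.CliffSm

section Split

variable {A : Type u} [CommRing A] {V : Type v} [AddCommGroup V] [Module A V]

/-- A frame of hyperbolic pairs and a unit vector. -/
structure IsSplitFrame {m : ℕ} (Q : QuadraticForm A V) (p q : Fin m → V) (w : V) : Prop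
    extends IsFrame Q p q w where
  p0 : ∀ i, Q (p i) = 0
  q0 : ∀ i, Q (q i) = 0
  pq : ∀ i, polar Q (p i) (q i) = 1
  w1 : Q w = 1

variable {m : ℕ} {Q : QuadraticForm A V} {p q : Fin m → V} {w : V}

theorem IsSplitFrame.plDisc_eq (h : IsSplitFrame Q p q w) (i : Fin m) : plDisc Q (p i) (q i) = 1 := by
  simp [plDisc, h.pq, h.p0, h.q0]

theorem IsSplitFrame.isUnit_det (h : IsSplitFrame Q p q w) (c : Module.Basis ((Fin m ⊕ Fin m) ⊕ Unit) A V) :
    IsUnit (c.toMatrix (fam p q w)).det :=
  isUnit_det_fam Q c h.toIsFrame (fun i => by rw [h.plDisc_eq]; exact isUnit_one) (by rw [h.w1]; exact isUnit_one)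

/-- The basis of a split frame. -/
def IsSplitFrame.basis (h : IsSplitFrame Q p q w) (c : Module.Basis ((Fin m ⊕ Fin m) ⊕ Unit) A V) :
    Module.Basis ((Fin m ⊕ Fin m) ⊕ Unit) A V :=
  Module.Basis.mk ((Module.Basis.is_basis_iff_det c).2 (by rw [Module.Basis.det_apply]; exact h.isUnit_det c)).1
    ((Module.Basis.is_basis_iff_det c).2 (by rw [Module.Basis.det_apply]; exact h.isUnit_det c)).2.ge

theorem IsSplitFrame.basis_apply (h : IsSplitFrame Q p q w) (c : Module.Basis ((Fin m ⊕ Fin m) ⊕ Unit) A V)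
    (k : (Fin m ⊕ Fin m) ⊕ Unit) : h.basis c k = fam p q w k := by
  simp [IsSplitFrame.basis]

theorem form_ext {ι : Type*} (c : Module.Basis ι A V) {Q₁ Q₂ : QuadraticForm A V}
    (h0 : ∀ i, Q₁ (c i) = Q₂ (c i)) (hp : ∀ i j, polar Q₁ (c i) (c j) = polar Q₂ (c i) (c j)) : Q₁ = Q₂ := by
  have hB : polarBilin Q₁ = polarBilin Q₂ := c.ext fun i => c.ext fun j => by simpa using hp i j
  ext x
  have hx : x ∈ Submodule.span A (Set.range c) := by rw [c.span_eq]; trivial
  induction hx using Submodule.span_induction with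
  | mem y hy => obtain ⟨i, rfl⟩ := hy; exact h0 i
  | zero => rw [QuadraticMap.map_zero, QuadraticMap.map_zero]
  | add y z _ _ hy hz =>
    rw [QuadraticMap.map_add (⇑Q₁), QuadraticMap.map_add (⇑Q₂), hy, hz]
    exact congrArg _ congr($hB y z)
  | smul r y _ hy => rw [QuadraticMap.map_smul, QuadraticMap.map_smul, hy]

theorem IsFrame.polar_fam_eq {W : Type w} [AddCommGroup W] [Module A W] {Q' : QuadraticForm A W}
    {p' q' : Fin m → W} {w' : W} (h : IsFrame Q p q w) (h' : IsFrame Q' p' q' w')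
    (h0 : ∀ k, Q (fam p q w k) = Q' (fam p' q' w' k))
    (hpq : ∀ i, polar Q (p i) (q i) = polar Q' (p' i) (q' i)) (k l : (Fin m ⊕ Fin m) ⊕ Unit) :
    polar Q (fam p q w k) (fam p q w l) = polar Q' (fam p' q' w' k) (fam p' q' w' l) := by
  rcases k with (i | i) | ⟨⟩ <;> rcases l with (j | j) | ⟨⟩ <;> simp only [Sum.elim_inl, Sum.elim_inr]
  · rcases eq_or_ne i j with rfl | hij
    · simp only [polar_self']; exact congrArg _ (h0 (.inl (.inl i)))
    · rw [h.uu i j hij, h'.uu i j hij]
  · rcases eq_or_ne i j with rfl | hij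
    · exact hpq i
    · rw [h.uv i j hij, h'.uv i j hij]
  · rw [h.uw, h'.uw]
  · rcases eq_or_ne i j with rfl | hij
    · rw [QuadraticMap.polar_comm Q, QuadraticMap.polar_comm Q']; exact hpq i
    · rw [h.vu _ i j hij, h'.vu _ i j hij]
  · rcases eq_or_ne i j with rfl | hij
    · simp only [polar_self']; exact congrArg _ (h0 (.inl (.inr i)))
    · rw [h.vv i j hij, h'.vv i j hij]
  · rw [h.vw, h'.vw]
  · rw [QuadraticMap.polar_comm Q, QuadraticMap.polar_comm Q', h.uw, h'.uw]
  · rw [QuadraticMap.polar_comm Q, QuadraticMap.polar_comm Q', h.vw, h'.vw]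
  · simp only [polar_self']; exact congrArg _ (h0 (.inr ()))

/-- Two forms with split frames are isometric. -/
theorem IsSplitFrame.isometryEquiv {W : Type w} [AddCommGroup W] [Module A W] {Q' : QuadraticForm A W}
    {p' q' : Fin m → W} {w' : W} (h : IsSplitFrame Q p q w) (h' : IsSplitFrame Q' p' q' w')
    (c : Module.Basis ((Fin m ⊕ Fin m) ⊕ Unit) A V) (c' : Module.Basis ((Fin m ⊕ Fin m) ⊕ Unit) A W) :
    Nonempty (Q.IsometryEquiv Q') := by
  let e : V ≃ₗ[A] W := (h.basis c).equiv (h'.basis c') (Equiv.refl _)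
  have he : ∀ k, e (fam p q w k) = fam p' q' w' k := fun k => by
    rw [← h.basis_apply c, ← h'.basis_apply c']; simp [e]
  have h0 : ∀ k, Q (fam p q w k) = Q' (fam p' q' w' k) := by
    rintro ((i | i) | ⟨⟩)
    exacts [(h.p0 i).trans (h'.p0 i).symm, (h.q0 i).trans (h'.q0 i).symm, h.w1.trans h'.w1.symm]
  have : Q'.comp (e : V →ₗ[A] W) = Q := form_ext (h.basis c)
    (fun k => by
      simp only [QuadraticMap.comp_apply, LinearEquiv.coe_coe, IsSplitFrame.basis_apply, he]
      exact (h0 k).symm)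
    (fun k l => by
      simp only [polar, QuadraticMap.comp_apply, LinearEquiv.coe_coe, map_add, IsSplitFrame.basis_apply, he]
      exact (h.toIsFrame.polar_fam_eq h'.toIsFrame h0 (fun i => (h.pq i).trans (h'.pq i).symm) k l).symm)
  exact ⟨⟨e, fun x => congr($this x)⟩⟩

end Split

section BaseChange

variable {R : Type u} [CommRing R] {M : Type v} [AddCommGroup M] [Module R M] [Module.Free R M]
  (Q : QuadraticForm R M) (A : Type u) [CommRing A] [Algebra R A]

theorem bc_tmul (a : A) (x : M) :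
    QuadGrp.baseChangeForm A Q (a ⊗ₜ[R] x) = a * a * algebraMap R A (Q x) := by
  simp [QuadGrp.baseChangeForm, QuadGrp.baseChange_tmul, Algebra.smul_def]
  ring

theorem bc_polar (a c : A) (x y : M) :
    polar (QuadGrp.baseChangeForm A Q) (a ⊗ₜ[R] x) (c ⊗ₜ[R] y) = a * c * algebraMap R A (polar Q x y) := by
  have h : ∀ z : M, ∀ a : A, a ⊗ₜ[R] z = a • ((1 : A) ⊗ₜ[R] z) := fun z a => by
    rw [TensorProduct.smul_tmul', smul_eq_mul, mul_one]
  rw [h x, h y, QuadraticMap.polar_smul_left, QuadraticMap.polar_smul_right, smul_eq_mul, smul_eq_mul, ← mul_assoc]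
  simp only [polar, ← tmul_add, bc_tmul, one_mul, map_sub]

theorem bc_natural {B : Type u} [CommRing B] [Algebra R B] (φ : A →ₐ[R] B) (x : A ⊗[R] M) :
    φ (QuadGrp.baseChangeForm A Q x) = QuadGrp.baseChangeForm B Q (φ.toLinearMap.rTensor M x) ∧
    ∀ y, φ (polar (QuadGrp.baseChangeForm A Q) x y) =
      polar (QuadGrp.baseChangeForm B Q) (φ.toLinearMap.rTensor M x) (φ.toLinearMap.rTensor M y) := by
  induction x using TensorProduct.induction_on with
  | zero => simp [QuadraticMap.map_zero]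
  | tmul a z =>
    refine ⟨by simp [bc_tmul], fun y => ?_⟩
    induction y using TensorProduct.induction_on with
    | zero => simp
    | tmul c t => simp [bc_polar]
    | add y y' hy hy' => rw [QuadraticMap.polar_add_right, map_add, map_add, QuadraticMap.polar_add_right, hy, hy']
  | add x x' hx hx' =>
    refine ⟨?_, fun y => ?_⟩
    · rw [QuadraticMap.map_add (⇑(QuadGrp.baseChangeForm A Q)), map_add, map_add, map_add,
        QuadraticMap.map_add (⇑(QuadGrp.baseChangeForm B Q)), hx.1, hx'.1, hx.2]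
    · rw [QuadraticMap.polar_add_left, map_add, map_add, QuadraticMap.polar_add_left, hx.2, hx'.2]

end BaseChange

section Cover

variable {R : Type u} [CommRing R] {M : Type v} [AddCommGroup M] [Module R M] [Module.Free R M]
  (Q : QuadraticForm R M) {m : ℕ}

/-- Roots of the quadratic equations of the planes turn a frame into a split frame. -/
theorem isSplitFrame_of_roots {u v : Fin m → M} {w : M} (h : IsFrame Q u v w) (A : Type u) [CommRing A]
    [Algebra R A] (Qu Qv B iv id' : Fin m → A) (hQu : ∀ i, algebraMap R A (Q (u i)) = Qu i)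
    (hQv : ∀ i, algebraMap R A (Q (v i)) = Qv i) (hB : ∀ i, algebraMap R A (polar Q (u i) (v i)) = B i)
    (hiv : ∀ i, iv i * Qv i = 1) (hid : ∀ i, id' i * (B i * B i - 4 * (Qu i * Qv i)) = 1)
    (t : Fin m → A) (ht : ∀ i, Qv i * (t i * t i) + B i * t i + Qu i = 0)
    (t0 : A) (ht0 : t0 * t0 * algebraMap R A (Q w) = 1) :
    IsSplitFrame (QuadGrp.baseChangeForm A Q)
      (fun i => (1 : A) ⊗ₜ[R] u i + t i ⊗ₜ[R] v i)
      (fun i => (-(Qv i * id' i)) ⊗ₜ[R] u i + (-(Qv i * id' i) * (-(B i * iv i) - t i)) ⊗ₜ[R] v i)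
      (t0 ⊗ₜ[R] w) := by
  refine ⟨⟨⟨?_, ?_, ?_⟩, ?_, ?_⟩, fun i => ?_, fun i => ?_, fun i => ?_, ?_⟩
  · intro i j hij
    simp [QuadraticMap.polar_add_left, QuadraticMap.polar_add_right, bc_polar, h.uu i j hij, h.vv i j hij,
      h.uv i j hij, h.vu _ i j hij]
  · intro i j hij
    simp [QuadraticMap.polar_add_left, QuadraticMap.polar_add_right, bc_polar, h.uu i j hij, h.vv i j hij,
      h.uv i j hij, h.vu _ i j hij]
  · intro i j hij
    simp [QuadraticMap.polar_add_left, QuadraticMap.polar_add_right, bc_polar, h.uu i j hij, h.vv i j hij,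
      h.uv i j hij, h.vu _ i j hij]
  · intro i; simp [QuadraticMap.polar_add_left, bc_polar, h.uw i, h.vw i]
  · intro i; simp [QuadraticMap.polar_add_left, bc_polar, h.uw i, h.vw i]
  · rw [QuadraticMap.map_add (⇑(QuadGrp.baseChangeForm A Q)), bc_tmul, bc_tmul, bc_polar, hQu, hQv, hB]
    linear_combination ht i
  · rw [QuadraticMap.map_add (⇑(QuadGrp.baseChangeForm A Q)), bc_tmul, bc_tmul, bc_polar, hQu, hQv, hB]
    linear_combination (Qv i * id' i) * (Qv i * id' i) * ht i +
      ((Qv i * id' i) * (Qv i * id' i) * (B i * t i * 2 + B i * B i * iv i)) * hiv i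
  · simp only [QuadraticMap.polar_add_left, QuadraticMap.polar_add_right, bc_polar, polar_self', map_mul,
      map_ofNat, hQu, hQv, QuadraticMap.polar_comm Q (v i) (u i), hB]
    linear_combination hid i + (2 * Qv i * id' i) * ht i +
      (id' i * B i * B i + 2 * id' i * B i * t i * Qv i) * hiv i
  · rw [bc_tmul]; exact ht0

/-- A cover of the prime `p` over which the form is split. -/
theorem exists_split_at (b : Module.Basis (Fin (2 * m + 1)) R M)
    (hu : IsUnit (QuadGrp.halfDisc b (LinearEquiv.refl R R) Q)) (p : PrimeSpectrum R) :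
    ∃ s : R, s ∉ p.asIdeal ∧ ∃ (A : Type u) (_ : CommRing A) (_ : Algebra R A), Module.Flat R A ∧
      Algebra.FinitePresentation R A ∧
      (∀ q : PrimeSpectrum R, s ∉ q.asIdeal → q ∈ Set.range (PrimeSpectrum.comap (algebraMap R A))) ∧
      ∃ (P P' : Fin m → A ⊗[R] M) (W : A ⊗[R] M), IsSplitFrame (QuadGrp.baseChangeForm A Q) P P' W := by
  obtain ⟨u, v, w, h, hd, hv, hw⟩ := exists_frame_at Q m b hu p.asIdeal
  let s : R := (∏ i, plDisc Q (u i) (v i)) * ((∏ i, Q (v i)) * Q w)
  have hs : s ∉ p.asIdeal := by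
    intro hm
    rcases p.isPrime.mem_or_mem hm with hm | hm
    · obtain ⟨i, _, hi⟩ := (Ideal.IsPrime.prod_mem_iff (p := p.asIdeal)).1 hm
      exact hd i hi
    · rcases p.isPrime.mem_or_mem hm with hm | hm
      · obtain ⟨i, _, hi⟩ := (Ideal.IsPrime.prod_mem_iff (p := p.asIdeal)).1 hm
        exact hv i hi
      · exact hw hm
  let L := Localization.Away s
  have hunit : ∀ x : R, x ∣ s → IsUnit (algebraMap R L x) := fun x hx =>
    isUnit_of_dvd_unit (map_dvd _ hx) (IsLocalization.Away.algebraMap_isUnit s)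
  have hQv : ∀ i, IsUnit (algebraMap R L (Q (v i))) := fun i =>
    hunit _ ((Finset.dvd_prod_of_mem (fun i => Q (v i)) (Finset.mem_univ i)).trans (Dvd.intro _ rfl |>.trans (Dvd.intro_left _ rfl)))
  have hQd : ∀ i, IsUnit (algebraMap R L (plDisc Q (u i) (v i))) := fun i =>
    hunit _ ((Finset.dvd_prod_of_mem (fun i => plDisc Q (u i) (v i)) (Finset.mem_univ i)).trans (Dvd.intro _ rfl))
  have hQw : IsUnit (algebraMap R L (Q w)) := hunit _ ((Dvd.intro_left _ rfl).trans (Dvd.intro_left _ rfl))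
  choose iv hiv using fun i => (hQv i).exists_left_inv
  choose id' hid using fun i => (hQd i).exists_left_inv
  obtain ⟨iw, hiw⟩ := hQw.exists_left_inv
  obtain ⟨A, _, _, _, _, hflat, hfp, hsu, hrange, hroot⟩ := exists_piece s (m + 1)
    (Fin.cases (0, -iw) fun i => (algebraMap R L (polar Q (u i) (v i)) * iv i, algebraMap R L (Q (u i)) * iv i))
  choose t ht using hroot
  let f : L →+* A := algebraMap L A
  have hf : ∀ x, f (algebraMap R L x) = algebraMap R A x := fun x =>
    (IsScalarTower.algebraMap_apply R L A x).symm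
  refine ⟨s, hs, A, inferInstance, inferInstance, hflat, hfp, hrange, _, _, _,
    isSplitFrame_of_roots Q h A _ _ _ (fun i => f (iv i)) (fun i => f (id' i)) (fun i => rfl) (fun i => rfl)
      (fun i => rfl) (fun i => ?_) (fun i => ?_) (fun i => t i.succ) (fun i => ?_) (t 0) ?_⟩
  · have := congrArg f (hiv i)
    rwa [map_mul, map_one, hf] at this
  · have := congrArg f (hid i)
    rw [map_mul, map_one, hf, plDisc] at this
    simpa [map_ofNat] using this
  · have h1 := ht i.succ
    simp only [Fin.cases_succ, map_mul,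
      show ∀ x, algebraMap (Localization.Away s) A (algebraMap R L x) = algebraMap R A x from hf] at h1
    have h2 : f (iv i) * algebraMap R A (Q (v i)) = 1 := by
      have := congrArg f (hiv i); rwa [map_mul, map_one, hf] at this
    linear_combination algebraMap R A (Q (v i)) * h1 -
      (algebraMap R A (polar Q (u i) (v i)) * t i.succ + algebraMap R A (Q (u i))) * h2
  · have h1 := ht 0
    simp only [Fin.cases_zero, map_zero, zero_mul, add_zero, map_neg] at h1
    have h2 : f iw * algebraMap R A (Q w) = 1 := by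
      have := congrArg f hiw; rwa [map_mul, map_one, hf] at this
    linear_combination algebraMap R A (Q w) * h1 + h2

/-- A single fppf cover over which the form has a split frame. -/
theorem exists_split_cover (b : Module.Basis (Fin (2 * m + 1)) R M)
    (hu : IsUnit (QuadGrp.halfDisc b (LinearEquiv.refl R R) Q)) :
    ∃ (A : Type u) (_ : CommRing A) (_ : Algebra R A), Module.FaithfullyFlat R A ∧
      Algebra.FinitePresentation R A ∧
      ∃ (P P' : Fin m → A ⊗[R] M) (W : A ⊗[R] M), IsSplitFrame (QuadGrp.baseChangeForm A Q) P P' W := by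
  choose s hs A iC iA hflat hfp hrange P P' W hfr using exists_split_at Q b hu
  obtain ⟨T, hT⟩ := exists_finite_cover s hs
  let S : T → Type u := fun t => A t
  letI : ∀ t : T, CommRing (S t) := fun t => iC t
  letI : ∀ t : T, Algebra R (S t) := fun t => iA t
  haveI : ∀ t : T, Module.Flat R (S t) := fun t => hflat t
  haveI : ∀ t : T, Algebra.FinitePresentation R (S t) := fun t => hfp t
  have hff : Module.FaithfullyFlat R (∀ t, S t) := faithfullyFlat_pi S fun p => by
    obtain ⟨t, ht, hp⟩ := hT p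
    exact ⟨⟨t, ht⟩, hrange t p hp⟩
  let glue : (∀ t : T, S t ⊗[R] M) → (∀ t, S t) ⊗[R] M := fun X =>
    ∑ r, (fun t => (b.baseChange (S t)).repr (X t) r) ⊗ₜ[R] b r
  have hglue : ∀ X t, (Pi.evalAlgHom R S t).toLinearMap.rTensor M (glue X) = X t := fun X t => by
    simp only [glue, map_sum, LinearMap.rTensor_tmul, AlgHom.toLinearMap_apply, Pi.evalAlgHom_apply]
    conv_rhs => rw [← (b.baseChange (S t)).sum_repr (X t)]
    simp [TensorProduct.smul_tmul']
  have hQ : ∀ X t, QuadGrp.baseChangeForm (∀ t, S t) Q (glue X) t = QuadGrp.baseChangeForm (S t) Q (X t) :=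
    fun X t => by
      have := (bc_natural Q (∀ t, S t) (Pi.evalAlgHom R S t) (glue X)).1
      rwa [hglue] at this
  have hB : ∀ X Y t, polar (QuadGrp.baseChangeForm (∀ t, S t) Q) (glue X) (glue Y) t =
      polar (QuadGrp.baseChangeForm (S t) Q) (X t) (Y t) := fun X Y t => by
    have := (bc_natural Q (∀ t, S t) (Pi.evalAlgHom R S t) (glue X)).2 (glue Y)
    rwa [hglue, hglue] at this
  refine ⟨∀ t, S t, inferInstance, inferInstance, hff, inferInstance,
    fun i => glue fun t => P t i, fun i => glue fun t => P' t i, glue fun t => W t,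
    ⟨⟨⟨?_, ?_, ?_⟩, ?_, ?_⟩, ?_, ?_, ?_, ?_⟩⟩
  · exact fun i j hij => funext fun t => (hB _ _ t).trans ((hfr t).uu i j hij)
  · exact fun i j hij => funext fun t => (hB _ _ t).trans ((hfr t).vv i j hij)
  · exact fun i j hij => funext fun t => (hB _ _ t).trans ((hfr t).uv i j hij)
  · exact fun i => funext fun t => (hB _ _ t).trans ((hfr t).uw i)
  · exact fun i => funext fun t => (hB _ _ t).trans ((hfr t).vw i)
  · exact fun i => funext fun t => (hQ _ t).trans ((hfr t).p0 i)
  · exact fun i => funext fun t => (hQ _ t).trans ((hfr t).q0 i)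
  · exact fun i => funext fun t => (hB _ _ t).trans ((hfr t).pq i)
  · exact funext fun t => (hQ _ t).trans (hfr t).w1

end Cover

section Standard

variable (R : Type u) [CommRing R] (m : ℕ)

/-- The indices of the hyperbolic pairs. -/
def idxU (i : Fin m) : Fin (2 * m + 1) := ⟨2 * i + 1, by omega⟩

/-- The second indices of the hyperbolic pairs. -/
def idxV (i : Fin m) : Fin (2 * m + 1) := ⟨2 * i + 2, by omega⟩

theorem splitForm_apply_odd (x : Fin (2 * m + 1) → R) :
    QuadGrp.splitForm R (2 * m + 1) x = ∑ i : Fin m, x (idxU m i) * x (idxV m i) + x 0 * x 0 := by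
  rw [QuadGrp.splitForm, dif_pos (by omega), _root_.QuadraticMap.add_apply, QuadraticMap.sum_apply]
  congr 1
  refine Fintype.sum_equiv (finCongr (by omega)) _ _ fun i => ?_
  simp only [QuadraticMap.linMulLin_apply, LinearMap.proj_apply]
  congr 2 <;> ext <;> simp [idxU, idxV]

theorem splitFrame_std :
    IsSplitFrame (QuadGrp.splitForm R (2 * m + 1)) (fun i => Pi.single (idxU m i) 1)
      (fun i => Pi.single (idxV m i) 1) (Pi.single 0 1) := by
  have hUV : ∀ i j, idxU m i ≠ idxV m j := fun i j h => by simp [idxU, idxV, Fin.ext_iff] at h; omega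
  have hU0 : ∀ i, idxU m i ≠ 0 := fun i h => by simp [idxU, Fin.ext_iff] at h
  have hV0 : ∀ i, idxV m i ≠ 0 := fun i h => by simp [idxV, Fin.ext_iff] at h
  have hUU : ∀ i j, idxU m i = idxU m j ↔ i = j := fun i j => by simp [idxU, Fin.ext_iff]
  have hVV : ∀ i j, idxV m i = idxV m j ↔ i = j := fun i j => by simp [idxV, Fin.ext_iff]
  refine ⟨⟨⟨?_, ?_, ?_⟩, ?_, ?_⟩, ?_, ?_, ?_, ?_⟩ <;> intros <;>
    simp_all [eq_comm, polar, splitForm_apply_odd, Pi.single_apply, hUV, fun i j => (hUV j i).symm, hU0, hV0,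
      fun i => (hU0 i).symm, fun i => (hV0 i).symm, hUU, hVV, add_mul, mul_add, Finset.sum_add_distrib]

theorem IsSplitFrame.baseChange {M : Type v} [AddCommGroup M] [Module R M] [Module.Free R M]
    {Q : QuadraticForm R M} {p q : Fin m → M} {w : M} (h : IsSplitFrame Q p q w) (A : Type u) [CommRing A]
    [Algebra R A] : IsSplitFrame (QuadGrp.baseChangeForm A Q) (fun i => (1 : A) ⊗ₜ[R] p i)
      (fun i => (1 : A) ⊗ₜ[R] q i) ((1 : A) ⊗ₜ[R] w) := by
  refine ⟨⟨⟨fun i j hij => ?_, fun i j hij => ?_, fun i j hij => ?_⟩, fun i => ?_, fun i => ?_⟩,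
    fun i => ?_, fun i => ?_, fun i => ?_, ?_⟩
  · simp [bc_polar, h.uu i j hij]
  · simp [bc_polar, h.vv i j hij]
  · simp [bc_polar, h.uv i j hij]
  · simp [bc_polar, h.uw i]
  · simp [bc_polar, h.vw i]
  · simp [bc_tmul, h.p0 i]
  · simp [bc_tmul, h.q0 i]
  · simp [bc_polar, h.pq i]
  · simp [bc_tmul, h.w1]

/-- A semiregular form of odd rank is fppf-locally split. -/
theorem fppf_split (Q : QuadraticForm R (Fin (2 * m + 1) → R))
    (hu : IsUnit (QuadGrp.halfDisc (Pi.basisFun R (Fin (2 * m + 1))) (LinearEquiv.refl R R) Q)) :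
    ∃ (A : Type u) (_ : CommRing A) (_ : Algebra R A), Module.FaithfullyFlat R A ∧
      Algebra.FinitePresentation R A ∧ Nonempty ((QuadGrp.baseChangeForm A Q).IsometryEquiv
        (QuadGrp.baseChangeForm A (QuadGrp.splitForm R (2 * m + 1)))) := by
  obtain ⟨A, _, _, hff, hfp, P, P', W, h⟩ := exists_split_cover Q (Pi.basisFun R (Fin (2 * m + 1))) hu
  let e : Fin (2 * m + 1) ≃ (Fin m ⊕ Fin m) ⊕ Unit :=
    (Fintype.equivFinOfCardEq (by simp; omega)).symm
  exact ⟨A, inferInstance, inferInstance, hff, hfp, h.isometryEquiv ((splitFrame_std R m).baseChange R m A)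
    (((Pi.basisFun R (Fin (2 * m + 1))).baseChange A).reindex e)
    (((Pi.basisFun R (Fin (2 * m + 1))).baseChange A).reindex e)⟩

end Standard

end Groth.Agent.CliffSm
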