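import Groth.Agent.CliffSm.DetConj
import Groth.Agent.CliffSm.SplitFrame
import Mathlib.RingTheory.Smooth.Flat

/-!
# The determinant of a conjugation on a free quadratic module
-/

set_option autoImplicit false
noncomputable section

universe u v w

open CliffordAlgebra QuadraticMap
open Groth.Agent.QuadCentre (polA triA hdA)
open scoped TensorProduct Pointwise

namespace Groth.Agent.CliffSm

section Map

variable {R : Type u} [CommRing R] {M : Type v} [AddCommGroup M] [Module R M] {N : Type w} [AddCommGroup N]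
  [Module R N] {Q : QuadraticForm R M} {Q' : QuadraticForm R N} (f : Q →qᵢ Q')

theorem map_mem_evenOdd {i : ZMod 2} {x : CliffordAlgebra Q} (hx : x ∈ evenOdd Q i) :
    CliffordAlgebra.map f x ∈ evenOdd Q' i := by
  obtain rfl | rfl : i = 0 ∨ i = 1 := (show ∀ j : ZMod 2, j = 0 ∨ j = 1 by decide) i
  · induction x, hx using CliffordAlgebra.even_induction with
    | algebraMap r =>
      rw [AlgHom.commutes, Algebra.algebraMap_eq_smul_one]
      exact Submodule.smul_mem _ _ (SetLike.one_mem_graded _)
    | add x y _ _ hx hy => rw [map_add]; exact add_mem hx hy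
    | ι_mul_ι_mul x y z _ hz =>
      rw [map_mul, map_mul, map_apply_ι, map_apply_ι]
      simpa using SetLike.mul_mem_graded (ι_mul_ι_mem_evenOdd_zero Q' (f x) (f y)) hz
  · induction x, hx using CliffordAlgebra.odd_induction with
    | ι v => rw [map_apply_ι]; exact ι_mem_evenOdd_one _ _
    | add x y _ _ hx hy => rw [map_add]; exact add_mem hx hy
    | ι_mul_ι_mul x y z _ hz =>
      rw [map_mul, map_mul, map_apply_ι, map_apply_ι]
      simpa using SetLike.mul_mem_graded (ι_mul_ι_mem_evenOdd_zero Q' (f x) (f y)) hz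

end Map

section Universal

variable (n : ℕ)

/-- The ring of tables. -/
abbrev TabPoly : Type u := MvPolynomial (Sym2 (Fin n)) (ULift.{u} ℤ)

/-- The universal table. -/
def univTab : Sym2 (Fin n) → TabPoly.{u} n := MvPolynomial.X

theorem isRegular_two_away (D : TabPoly.{u} n) : IsRegular (2 : Localization.Away D) := by
  haveI : IsDomain (ULift.{u} ℤ) := MulEquiv.isDomain ℤ (ULift.ringEquiv : ULift.{u} ℤ ≃+* ℤ).toMulEquiv
  haveI : CharZero (ULift.{u} ℤ) := charZero_of_injective_ringHom (f := (ULift.ringEquiv : ULift.{u} ℤ ≃+* ℤ).symm.toRingHom)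
    (ULift.ringEquiv : ULift.{u} ℤ ≃+* ℤ).symm.injective
  have h : IsSMulRegular (TabPoly.{u} n) (2 : TabPoly.{u} n) := (IsRegular.of_ne_zero two_ne_zero).left
  have h' := h.of_isLocalization (Localization.Away D) (Submonoid.powers D)
  rw [map_ofNat] at h'
  exact ⟨h', fun a b hab => h' (show (2 : Localization.Away D) * a = 2 * b by rw [mul_comm _ a, mul_comm _ b]; exact hab)⟩

variable {n} {R : Type u} [CommRing R]

/-- The form with a given table. -/
def formOf (a : Sym2 (Fin n) → R) : QuadraticForm R (Fin n → R) :=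
  LinearMap.BilinMap.toQuadraticMap (Matrix.toLinearMap₂' R (triA a))

theorem tableOf_formOf (a : Sym2 (Fin n) → R) : tableOf (Q := formOf a) (Pi.basisFun R (Fin n)) = a := by
  funext v
  induction v using Sym2.inductionOn with
  | hf i j =>
    simp only [tableOf, QuadGrp.coeffs_mk, LinearEquiv.refl_apply, Pi.basisFun_apply, formOf, polar,
      LinearMap.BilinMap.toQuadraticMap_apply, map_add, LinearMap.add_apply]
    simp only [Matrix.toLinearMap₂'_apply, Pi.single_apply, ite_smul, one_smul, zero_smul, smul_eq_mul,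
      Finset.sum_ite_eq', Finset.sum_ite_irrel, Finset.sum_const_zero, Finset.mem_univ, if_true, ite_mul, one_mul, zero_mul]
    split_ifs with h
    · subst h; simp [triA]
    · have := congrFun (congrFun (Groth.Agent.QuadCentre.triA_add_transpose a) i) j
      simp only [Matrix.add_apply, Matrix.transpose_apply, polA, Matrix.of_apply, if_neg h] at this
      rw [← this]; ring

end Universal

section Transfer

variable {R : Type u} [CommRing R] {M : Type v} [AddCommGroup M] [Module R M] {Q : QuadraticForm R M} {n : ℕ}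

theorem det_conj_of (b : Module.Basis (Fin n) R M) (D : TabPoly.{u} n)
    (hflat : Module.Flat (Localization.Away D)
      (Coord (formOf (algebraMap (TabPoly.{u} n) (Localization.Away D) ∘ univTab n))))
    (hP : ∀ (B : Type u) [CommRing B] [Algebra (Localization.Away D) B], IsUnit (2 : B) →
      IsUnit (algebraMap (Localization.Away D) B
        (polA (algebraMap (TabPoly.{u} n) (Localization.Away D) ∘ univTab n)).det))
    (hD : IsUnit (MvPolynomial.eval₂Hom ((Int.castRingHom R).comp (ULift.ringEquiv : ULift.{u} ℤ ≃+* ℤ).toRingHom)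
      (tableOf (Q := Q) b) D))
    (u : (CliffordAlgebra Q)ˣ) (hu : u ∈ QuadGrp.GPin Q) (g : M →ₗ[R] M)
    (hg : ∀ x, (u : CliffordAlgebra Q) * ι Q x * ↑u⁻¹ = ι Q (g x)) {e : R} (he : IsIdempotentElem e)
    (h0 : e • (u : CliffordAlgebra Q) ∈ evenOdd Q 0) (h1 : (1 - e) • (u : CliffordAlgebra Q) ∈ evenOdd Q 1) :
    LinearMap.det g = (2 * e - 1) ^ (n + 1) := by
  classical
  let ev := MvPolynomial.eval₂Hom ((Int.castRingHom R).comp (ULift.ringEquiv : ULift.{u} ℤ ≃+* ℤ).toRingHom)
    (tableOf (Q := Q) b)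
  let ψ : Localization.Away D →+* R := IsLocalization.Away.lift D (g := ev) hD
  letI : Algebra (Localization.Away D) R := ψ.toAlgebra
  set a0 := algebraMap (TabPoly.{u} n) (Localization.Away D) ∘ univTab n
  set Q0 := formOf a0
  let bb := (Pi.basisFun (Localization.Away D) (Fin n)).baseChange R
  have htab : tableOf (Q := QuadGrp.baseChangeForm R Q0) bb = tableOf (Q := Q) b := by
    rw [tableOf_baseChange (Pi.basisFun (Localization.Away D) (Fin n)) Q0 R, tableOf_formOf]
    funext v
    show ψ (algebraMap (TabPoly.{u} n) (Localization.Away D) (univTab n v)) = _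
    rw [IsLocalization.Away.lift_eq]
    simp [ev, univTab]
  let E : R ⊗[Localization.Away D] (Fin n → Localization.Away D) ≃ₗ[R] M := bb.equiv b (Equiv.refl _)
  have hEb : ∀ i, E (bb i) = b i := fun i => by simp [E]
  have hE : Q.comp (E : _ →ₗ[R] M) = QuadGrp.baseChangeForm R Q0 := by
    refine form_ext bb (fun i => ?_) fun i j => ?_
    · have := congrFun htab (Sym2.mk i i)
      simp only [tableOf, QuadGrp.coeffs_mk, if_true, LinearEquiv.refl_apply] at this
      rw [QuadraticMap.comp_apply, LinearEquiv.coe_coe, hEb, this]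
    · simp only [polar, QuadraticMap.comp_apply, LinearEquiv.coe_coe, map_add, hEb]
      rcases eq_or_ne i j with rfl | hij
      · have := congrFun htab (Sym2.mk i i)
        simp only [tableOf, QuadGrp.coeffs_mk, if_true, LinearEquiv.refl_apply] at this
        rw [← two_smul R (b i), ← two_smul R (bb i), QuadraticMap.map_smul, QuadraticMap.map_smul, this]
      · have := congrFun htab (Sym2.mk i j)
        simp only [tableOf, QuadGrp.coeffs_mk, if_neg hij, LinearEquiv.refl_apply, polar] at this
        exact this.symm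
  let I : (QuadGrp.baseChangeForm R Q0).IsometryEquiv Q := ⟨E, fun m => congr($hE m)⟩
  let Φ := CliffordAlgebra.equivOfIsometry I
  have hΦι : ∀ z, Φ (ι _ z) = ι Q (E z) := fun z => map_apply_ι _ z
  have hΦι' : ∀ y, Φ.symm (ι Q y) = ι _ (E.symm y) := fun y => map_apply_ι _ y
  let u₀ : (CliffordAlgebra (QuadGrp.baseChangeForm R Q0))ˣ := Units.map Φ.symm.toAlgHom.toMonoidHom u
  let g₀ : R ⊗[Localization.Away D] (Fin n → Localization.Away D) →ₗ[R] _ :=
    E.symm.toLinearMap ∘ₗ g ∘ₗ E.toLinearMap
  have hg₀ : ∀ z, (u₀ : CliffordAlgebra (QuadGrp.baseChangeForm R Q0)) * ι (QuadGrp.baseChangeForm R Q0) z * (↑u₀⁻¹ : CliffordAlgebra (QuadGrp.baseChangeForm R Q0)) = ι (QuadGrp.baseChangeForm R Q0) (g₀ z) := fun z => by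
    refine Φ.injective ?_
    rw [map_mul, map_mul, hΦι, hΦι]
    show Φ (Φ.symm (u : CliffordAlgebra Q)) * _ * Φ (Φ.symm (↑u⁻¹ : CliffordAlgebra Q)) = _
    rw [AlgEquiv.apply_symm_apply, AlgEquiv.apply_symm_apply, hg]
    simp [g₀]
  have hmem : u₀ ∈ QuadGrp.gpin Q0 R := by
    refine ⟨mem_GPin' _ (fun z => ⟨g₀ z, hg₀ z⟩) (fun z => ?_), e, he, ?_, ?_⟩
    · have h := (QuadGrp.mem_GPin' Q u).1 hu.1
      have hz : ι Q (E z) ∈ ConjAct.toConjAct u • LinearMap.range (ι Q) := by rw [h]; exact ⟨_, rfl⟩
      obtain ⟨w, ⟨y, rfl⟩, hy⟩ := Submodule.mem_map.1 hz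
      refine ⟨E.symm y, ?_⟩
      rw [hg₀]
      refine congrArg _ (E.injective ?_)
      simp only [g₀, LinearMap.comp_apply, LinearEquiv.coe_coe, LinearEquiv.apply_symm_apply]
      exact (haveI := Module.Free.of_basis b; ι_injective Q) ((hg y).symm.trans ((ConjAct.units_smul_def (ConjAct.toConjAct u) _).symm.trans hy))
    · show e • Φ.symm (u : CliffordAlgebra Q) ∈ _
      rw [← map_smul]
      exact map_mem_evenOdd _ h0
    · show (1 - e) • Φ.symm (u : CliffordAlgebra Q) ∈ _
      rw [← map_smul]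
      exact map_mem_evenOdd _ h1
  obtain ⟨x, hx, hxu⟩ := exists_sol Q0 u₀ hmem
  haveI := hflat
  have hdet := hx.det_eq Q0 (isRegular_two_away n D) (by rw [tableOf_formOf]; exact hP)
  have hunit : hx.unit = u₀ := Units.ext hxu
  have hlin : ptLin Q0 x = g₀ := LinearMap.ext fun z => ι_injective (QuadGrp.baseChangeForm R Q0) <| by
    rw [← hx.conj, ← hg₀, ← hunit]; rfl
  have he' : ptE Q0 x = e := by
    have h0' := hmem
    have hkill : ∀ {t : R}, t • ptU Q0 x = 0 → t = 0 := fun {t} ht => algebraMap_injective (QuadGrp.baseChangeForm R Q0) <| by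
      rw [map_zero, Algebra.algebraMap_eq_smul_one, ← sub_eq_zero.1 (hx .left), ← smul_mul_assoc, ht, zero_mul]
    have hzero : ∀ s t : R, s • ptU Q0 x ∈ evenOdd (QuadGrp.baseChangeForm R Q0) 0 →
        t • ptU Q0 x ∈ evenOdd (QuadGrp.baseChangeForm R Q0) 1 → s * t = 0 := fun s t hs ht => hkill <|
      Submodule.disjoint_def.1 (evenOdd_isCompl _).disjoint _
        (by rw [mul_comm, mul_smul]; exact Submodule.smul_mem _ _ hs)
        (by rw [mul_smul]; exact Submodule.smul_mem _ _ ht)
    have hu0 : e • ptU Q0 x ∈ evenOdd (QuadGrp.baseChangeForm R Q0) 0 := by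
      rw [hxu]; show e • Φ.symm (u : CliffordAlgebra Q) ∈ _
      rw [← map_smul]; exact map_mem_evenOdd _ h0
    have hu1 : (1 - e) • ptU Q0 x ∈ evenOdd (QuadGrp.baseChangeForm R Q0) 1 := by
      rw [hxu]; show (1 - e) • Φ.symm (u : CliffordAlgebra Q) ∈ _
      rw [← map_smul]; exact map_mem_evenOdd _ h1
    linear_combination (hzero _ _ hx.even hu1) - (hzero _ _ hu0 hx.odd)
  rw [← det_ptLin, hlin, he'] at hdet
  rw [← hdet]
  exact (LinearMap.det_conj g E.symm).symm

end Transfer

end Groth.Agent.CliffSm
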