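import Groth.Agent.CliffSm.SplitEven

/-!
# Even Clifford algebras of semiregular forms of odd rank are fppf-locally matrix algebras
-/

set_option autoImplicit false
noncomputable section

universe u

open CliffordAlgebra TensorProduct
open QuadGrp (baseChangeForm)

namespace Groth.Agent.CliffSm

variable {R : Type u} [CommRing R] {M : Type u} [AddCommGroup M] [Module R M] [Module.Free R M]
  (Q : QuadraticForm R M) (A : Type u) [CommRing A] [Algebra R A]

/-- The base change of the even part, inside the base-changed Clifford algebra. -/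
def evenT : A ⊗[R] ↥(CliffordAlgebra.even Q) →ₐ[A] CliffordAlgebra (baseChangeForm A Q) :=
  (ofT Q A).comp (Algebra.TensorProduct.map (AlgHom.id A A) (CliffordAlgebra.even Q).val)

theorem evenT_tmul (a : A) (x : CliffordAlgebra.even Q) :
    evenT Q A (a ⊗ₜ[R] x) = a • fromC Q A (x : CliffordAlgebra Q) := by
  simp only [evenT, AlgHom.comp_apply, Algebra.TensorProduct.map_tmul, AlgHom.id_apply, ofT_tmul,
    Subalgebra.coe_val]

theorem fromC_mem {x : CliffordAlgebra Q} (hx : x ∈ CliffordAlgebra.even Q) :
    fromC Q A x ∈ CliffordAlgebra.even (baseChangeForm A Q) := by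
  induction x, hx using CliffordAlgebra.even_induction with
  | algebraMap r =>
    rw [AlgHom.commutes, IsScalarTower.algebraMap_apply R A]
    exact (CliffordAlgebra.even (baseChangeForm A Q)).algebraMap_mem _
  | add x y _ _ hx hy => rw [map_add]; exact add_mem hx hy
  | ι_mul_ι_mul x y z _ hz =>
    rw [map_mul, map_mul, fromC_ι, fromC_ι]
    exact mul_mem (ι_mul_ι_mem_evenOdd_zero _ _ _) hz

theorem evenT_injective : Function.Injective (evenT Q A) := by
  let p0 : CliffordAlgebra Q →ₗ[R] CliffordAlgebra.even Q :=
    (part Q 0).codRestrict (CliffordAlgebra.even Q).toSubmodule (fun x => part_mem Q 0 x)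
  refine (Function.Bijective.injective (f := ofT Q A) ?_).comp
    (Function.LeftInverse.injective (g := p0.lTensor A) fun t => ?_)
  · exact (equivT Q A).symm.bijective
  · induction t using TensorProduct.induction_on with
    | zero => simp
    | tmul a x =>
      show p0.lTensor A (a ⊗ₜ[R] (x : CliffordAlgebra Q)) = a ⊗ₜ[R] x
      rw [LinearMap.lTensor_tmul]
      congr 1
      exact Subtype.ext (part_of_mem Q x.2)
    | add x y hx hy => rw [map_add, map_add, hx, hy]

theorem evenT_range : (evenT Q A).range = CliffordAlgebra.even (baseChangeForm A Q) := by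
  refine le_antisymm ?_ fun x hx => ?_
  · rintro _ ⟨t, rfl⟩
    induction t using TensorProduct.induction_on with
    | zero => rw [map_zero]; exact zero_mem _
    | tmul a x =>
      show evenT Q A (a ⊗ₜ x) ∈ _
      rw [evenT_tmul]; exact Subalgebra.smul_mem _ (fromC_mem Q A x.2) a
    | add x y hx hy => rw [map_add]; exact add_mem hx hy
  · have hgen : ∀ v w, ι (baseChangeForm A Q) v * ι (baseChangeForm A Q) w ∈ (evenT Q A).range := by
      intro v w
      induction v using TensorProduct.induction_on with
      | zero => simp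
      | add x y hx hy => rw [map_add, add_mul]; exact add_mem hx hy
      | tmul a x =>
        induction w using TensorProduct.induction_on with
        | zero => simp
        | add s t hs ht => rw [map_add, mul_add]; exact add_mem hs ht
        | tmul c y =>
          refine ⟨(a * c) ⊗ₜ[R] ⟨ι Q x * ι Q y, ι_mul_ι_mem_evenOdd_zero Q x y⟩, ?_⟩
          show evenT Q A _ = _
          have h : ∀ z : M, ∀ a : A, ι (baseChangeForm A Q) (a ⊗ₜ[R] z) = a • fromC Q A (ι Q z) := fun z a => by
            rw [fromC_ι, ← map_smul, TensorProduct.smul_tmul', smul_eq_mul, mul_one]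
          rw [evenT_tmul, h, h, smul_mul_smul_comm, map_mul]
    induction x, hx using CliffordAlgebra.even_induction with
    | algebraMap r => exact (evenT Q A).range.algebraMap_mem r
    | add x y _ _ hx hy => exact add_mem hx hy
    | ι_mul_ι_mul x y z _ hz => exact mul_mem (hgen x y) hz

theorem exists_even_matrix (m : ℕ) (b : Module.Basis (Fin (2 * m + 1)) R M)
    (hu : IsUnit (QuadGrp.halfDisc b (LinearEquiv.refl R R) Q)) :
    ∃ (R' : Type u) (_ : CommRing R') (_ : Algebra R R'), Module.FaithfullyFlat R R' ∧
      Algebra.FinitePresentation R R' ∧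
      Nonempty ((R' ⊗[R] ↥(CliffordAlgebra.even Q)) ≃ₐ[R'] Matrix (Fin (2 ^ m)) (Fin (2 ^ m)) R') := by
  obtain ⟨A, _, _, hff, hfp, P, P', W, h⟩ := exists_split_cover Q b hu
  refine ⟨A, inferInstance, inferInstance, hff, hfp, ?_⟩
  let c : Module.Basis ((Fin m ⊕ Fin m) ⊕ Unit) A (A ⊗[R] M) := famBasis (m := m) (b.baseChange A)
  have hspan : Submodule.span A (Set.range (fam P P' W)) = ⊤ := by
    rw [← (funext (h.basis_apply c) : ⇑(h.basis c) = fam P P' W), Module.Basis.span_eq]
  obtain ⟨e⟩ := even_eq_matrix h hspan
  exact ⟨((AlgEquiv.ofInjective (evenT Q A) (evenT_injective Q A)).trans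
    (Subalgebra.equivOfEq _ _ (evenT_range Q A))).trans e⟩

end Groth.Agent.CliffSm
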