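import Groth.Agent.CliffSm.EvenGroup
import Mathlib.RingTheory.Localization.Away.Basic
import Mathlib.RingTheory.Spectrum.Prime.Topology

/-!
# Determinant and Dickson invariant
-/

set_option autoImplicit false
noncomputable section

universe u v

open CliffordAlgebra QuadraticMap
open Groth.Agent.QuadCentre (polA)
open scoped TensorProduct Pointwise

namespace Groth.Agent.CliffSm

theorem det_of_intertwiner_free {R : Type u} [CommRing R] {M : Type u} [AddCommGroup M] [Module R M]
    [Module.Free R M] [Module.Finite R M] {Q : QuadraticForm R M} {n : ℕ} (b : Module.Basis (Fin n) R M)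
    (hb : IsUnit (polA (tableOf (Q := Q) b)).det) (g : M ≃ₗ[R] M) {i : ZMod 2}
    {U a a' : CliffordAlgebra Q} {t : R} (hUi : U ∈ evenOdd Q i) (hint : ∀ x, ι Q (g x) * U = U * ι Q x)
    (hUa : U * a = algebraMap R _ t) (haU : a' * U = algebraMap R _ t) :
    ∃ N : ℕ, t ^ N * (LinearMap.det (g : M →ₗ[R] M) - (if i = 0 then 1 else (-1) ^ (n + 1))) = 0 := by
  let A := Localization.Away t
  set QA := QuadGrp.baseChangeForm A Q
  have htA : IsUnit (algebraMap R A t) := IsLocalization.Away.algebraMap_isUnit t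
  obtain ⟨tu, htu⟩ := htA
  have halg : fromC Q A (algebraMap R _ t) = algebraMap A _ (tu : A) := by
    rw [AlgHom.commutes, IsScalarTower.algebraMap_apply R A, htu]
  have hu : IsUnit (fromC Q A U) := isUnit_iff_exists_and_exists.2
    ⟨⟨(↑tu⁻¹ : A) • fromC Q A a, by
        rw [mul_smul_comm, ← map_mul, hUa, halg, Algebra.smul_def, ← map_mul, Units.inv_mul, map_one]⟩,
      ⟨(↑tu⁻¹ : A) • fromC Q A a', by
        rw [smul_mul_assoc, ← map_mul, haU, halg, Algebra.smul_def, ← map_mul, Units.inv_mul, map_one]⟩⟩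
  obtain ⟨u, hu⟩ := hu
  let gA := LinearMap.baseChange A (g : M →ₗ[R] M)
  have hgA : ∀ z, (u : CliffordAlgebra QA) * ι QA z * (↑u⁻¹ : CliffordAlgebra QA) = ι QA (gA z) := by
    have key : ∀ z, (u : CliffordAlgebra QA) * ι QA z = ι QA (gA z) * u := by
      intro z
      induction z using TensorProduct.induction_on with
      | zero => simp
      | add x y hx hy => simp only [map_add, mul_add, add_mul, hx, hy]
      | tmul c x =>
        rw [show gA (c ⊗ₜ[R] x) = c • ((1 : A) ⊗ₜ[R] g x) by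
            simp [gA, TensorProduct.smul_tmul'],
          show c ⊗ₜ[R] x = c • ((1 : A) ⊗ₜ[R] x) by rw [TensorProduct.smul_tmul', smul_eq_mul, mul_one],
          map_smul, map_smul, mul_smul_comm, smul_mul_assoc, ← fromC_ι, ← fromC_ι, hu, ← map_mul, ← map_mul, hint]
    intro z
    rw [key, mul_assoc, Units.mul_inv, mul_one]
  have hu' : u ∈ QuadGrp.GPin' QA := mem_GPin' _ (fun z => ⟨_, hgA z⟩) fun z => by
    obtain ⟨y, hy⟩ := LinearMap.lTensor_surjective A g.surjective z
    exact ⟨y, (hgA y).trans (congrArg _ hy)⟩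
  have hui : (u : CliffordAlgebra QA) ∈ evenOdd QA i := by
    rw [hu]
    clear hu hgA hint hUa haU hu'
    obtain rfl | rfl : i = 0 ∨ i = 1 := (show ∀ j : ZMod 2, j = 0 ∨ j = 1 by decide) i
    · induction U, hUi using CliffordAlgebra.even_induction with
      | algebraMap r =>
        rw [AlgHom.commutes, IsScalarTower.algebraMap_apply R A, Algebra.algebraMap_eq_smul_one]
        exact Submodule.smul_mem _ _ (SetLike.one_mem_graded _)
      | add x y _ _ hx hy => rw [map_add]; exact add_mem hx hy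
      | ι_mul_ι_mul x y z _ hz =>
        rw [map_mul, map_mul, fromC_ι, fromC_ι]
        simpa using SetLike.mul_mem_graded (ι_mul_ι_mem_evenOdd_zero QA _ _) hz
    · induction U, hUi using CliffordAlgebra.odd_induction with
      | ι x => rw [fromC_ι]; exact ι_mem_evenOdd_one _ _
      | add x y _ _ hx hy => rw [map_add]; exact add_mem hx hy
      | ι_mul_ι_mul x y z _ hz =>
        rw [map_mul, map_mul, fromC_ι, fromC_ι]
        simpa using SetLike.mul_mem_graded (ι_mul_ι_mem_evenOdd_zero QA _ _) hz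
  have hbA : IsUnit (polA (tableOf (Q := QA) (b.baseChange A))).det := by
    have hmap : polA (tableOf (Q := QA) (b.baseChange A)) = (polA (tableOf (Q := Q) b)).map (algebraMap R A) := by
      ext r c
      simp only [QA, tableOf_baseChange b Q, polA, Matrix.of_apply, Matrix.map_apply, Function.comp_apply]
      split_ifs <;> simp [map_ofNat]
    rw [hmap, ← RingHom.mapMatrix_apply, ← RingHom.map_det]
    exact hb.map _
  have hdet : LinearMap.det gA = algebraMap R A (if i = 0 then 1 else (-1) ^ (n + 1)) := by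
    obtain rfl | rfl : i = 0 ∨ i = 1 := (show ∀ j : ZMod 2, j = 0 ∨ j = 1 by decide) i
    · have h1 : (1 - (1 : A)) • (u : CliffordAlgebra QA) ∈ evenOdd QA 1 := by
        rw [sub_self, zero_smul]; exact zero_mem _
      have h0 : (1 : A) • (u : CliffordAlgebra QA) ∈ evenOdd QA 0 := by rw [one_smul]; exact hui
      rw [det_conj_regular (b.baseChange A) hbA u ⟨hu', 1, IsIdempotentElem.one, h0, h1⟩ gA hgA
        IsIdempotentElem.one h0 h1, if_pos rfl, map_one]
      norm_num
    · have h1 : (1 - (0 : A)) • (u : CliffordAlgebra QA) ∈ evenOdd QA 1 := by rw [sub_zero, one_smul]; exact hui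
      have h0 : (0 : A) • (u : CliffordAlgebra QA) ∈ evenOdd QA 0 := by rw [zero_smul]; exact zero_mem _
      rw [det_conj_regular (b.baseChange A) hbA u ⟨hu', 0, IsIdempotentElem.zero, h0, h1⟩ gA hgA
        IsIdempotentElem.zero h0 h1, if_neg one_ne_zero]
      simp
  rw [show LinearMap.det gA = algebraMap R A (LinearMap.det (g : M →ₗ[R] M)) from LinearMap.det_baseChange _] at hdet
  obtain ⟨⟨c, N, rfl⟩, hN⟩ := (IsLocalization.eq_iff_exists (Submonoid.powers t) A).1 hdet
  exact ⟨N, by rw [mul_sub, sub_eq_zero]; exact hN⟩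

variable {R : Type u} [CommRing R] {M : Type v} [AddCommGroup M] [Module R M] {Q : QuadraticForm R M}
  [Module.Free R M] [Module.Finite R M] {k : ℕ} (b : Module.Basis (Fin (2 * k)) R M) (hQ : QuadGrp.IsRegular Q)

include b hQ in
/-- The local structure of an isometry: determinant and action on the centre agree. -/
theorem local_structure (g : M ≃ₗ[R] M) (hg : g ∈ QuadGrp.O Q) (p : Ideal R) [p.IsPrime] :
    ∃ t ∉ p,
      (t * ((LinearEquiv.det g : R) - 1) = 0 ∧ ∀ z : CliffordAlgebra.even Q,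
          z ∈ Subalgebra.center R ↥(CliffordAlgebra.even Q) → t • (autOf g hg (z : CliffordAlgebra Q) - z) = 0) ∨
      (t * ((LinearEquiv.det g : R) + 1) = 0 ∧ ∀ (q : Ideal R) [q.IsPrime] (t' : R),
          (∀ z : CliffordAlgebra.even Q, z ∈ Subalgebra.center R ↥(CliffordAlgebra.even Q) →
            t' • (autOf g hg (z : CliffordAlgebra Q) - z) = 0) → t' * t ∈ q) := by
  obtain ⟨i, U, a, a', t, ht, hUi, hint, hUa, haU⟩ := exists_intertwiner_at b hQ g hg p
  -- transport to the standard module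
  let e := b.equivFun
  let Q₁ : QuadraticForm R (Fin (2 * k) → R) := Q.comp (e.symm : _ →ₗ[R] M)
  let I : Q.IsometryEquiv Q₁ := ⟨e, fun x => by simp [Q₁, e]⟩
  let Φ := CliffordAlgebra.equivOfIsometry I
  have hΦι : ∀ x, Φ (ι Q x) = ι Q₁ (e x) := fun x => map_apply_ι _ x
  let g₁ : (Fin (2 * k) → R) ≃ₗ[R] (Fin (2 * k) → R) := (e.symm.trans g).trans e
  have hb₁ : IsUnit (polA (tableOf (Q := Q₁) (Pi.basisFun R (Fin (2 * k))))).det := by
    have htab : tableOf (Q := Q₁) (Pi.basisFun R (Fin (2 * k))) = tableOf (Q := Q) b := by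
      funext v
      induction v using Sym2.inductionOn with
      | hf r c =>
        have hs : ∀ j, e.symm (Pi.single j 1) = b j := fun j => by
          rw [LinearEquiv.symm_apply_eq]; funext r; simp [e, Pi.single_apply, Finsupp.single_apply, eq_comm]
        simp only [tableOf, QuadGrp.coeffs_mk, LinearEquiv.refl_apply, Pi.basisFun_apply, Q₁, polar,
          QuadraticMap.comp_apply, LinearEquiv.coe_coe, map_add, hs]
    rw [htab]
    exact Groth.Agent.QuadSm.isUnit_polA_coeffs b Q hQ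
  obtain ⟨N, hN⟩ := det_of_intertwiner_free (Pi.basisFun R (Fin (2 * k))) hb₁ g₁ (i := i) (U := Φ U) (a := Φ a)
    (a' := Φ a') (t := t) (map_mem_evenOdd _ hUi)
    (fun x => by
      rw [← e.apply_symm_apply x, ← hΦι]
      show ι Q₁ (e (g (e.symm (e (e.symm x))))) * Φ U = _
      rw [e.symm_apply_apply, ← hΦι, ← map_mul, hint, map_mul])
    (by rw [← map_mul, hUa, AlgEquiv.commutes]) (by rw [← map_mul, haU, AlgEquiv.commutes])
  have hdet : LinearMap.det (g₁ : _ →ₗ[R] (Fin (2 * k) → R)) = (LinearEquiv.det g : R) := by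
    rw [LinearEquiv.coe_det, ← LinearMap.det_conj (g : M →ₗ[R] M) e]
    rfl
  rw [hdet] at hN
  refine ⟨t ^ N * t, fun hm => (Ideal.IsPrime.mem_or_mem inferInstance hm).elim
    (fun h => ht (Ideal.IsPrime.mem_of_pow_mem inferInstance _ h)) ht, ?_⟩
  obtain rfl | rfl : i = 0 ∨ i = 1 := (show ∀ j : ZMod 2, j = 0 ∨ j = 1 by decide) i
  · rw [if_pos rfl] at hN
    exact Or.inl ⟨by rw [mul_right_comm, hN, zero_mul],
      fun z hz => by rw [mul_smul, even_fix g hg hUi hint hUa z hz, smul_zero]⟩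
  · rw [if_neg one_ne_zero, pow_succ, pow_mul, neg_one_sq, one_pow, one_mul, sub_neg_eq_add] at hN
    refine Or.inr ⟨by rw [mul_right_comm, hN, zero_mul], fun q _ t' h => ?_⟩
    have := parity_exclusive b hQ g hg q h hUi hint hUa
    rw [mul_left_comm]
    exact q.mul_mem_left _ this

include b hQ in
theorem soeven_le_SO' : QuadGrp.SOeven Q ≤ QuadGrp.SO' Q := by
  rintro g ⟨hg, hD⟩
  refine ⟨hg, Units.ext ?_⟩
  show (LinearEquiv.det g : R) = 1
  by_contra hne
  let J : Ideal R := (⊥ : Submodule R R).comap (LinearMap.mulRight R ((LinearEquiv.det g : R) - 1))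
  obtain ⟨p, hp, hle⟩ := Ideal.exists_le_maximal J fun h => hne (sub_eq_zero.1 (by
    have h1 : (1 : R) ∈ J := by rw [h]; trivial
    simpa [J] using h1))
  haveI : p.IsPrime := hp.isPrime
  obtain ⟨t, ht, ⟨h, -⟩ | ⟨-, h⟩⟩ := local_structure b hQ g hg p
  · exact ht (hle (by simpa [J] using h))
  · exact ht (by simpa using h p 1 fun z hz => by rw [one_smul, ← autOf_eq_map, hD z hz, sub_self])

include b hQ in
theorem soeven_eq_SO' [Invertible (2 : R)] : QuadGrp.SOeven Q = QuadGrp.SO' Q := by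
  refine le_antisymm (soeven_le_SO' b hQ) ?_
  rintro g ⟨hg, hdet⟩
  have hd : (LinearEquiv.det g : R) = 1 := congrArg Units.val hdet
  refine ⟨hg, fun z hz => ?_⟩
  rw [autOf_eq_map, ← sub_eq_zero]
  by_contra hne
  let J : Ideal R := (⊥ : Submodule R (CliffordAlgebra Q)).comap
    (LinearMap.toSpanSingleton R _ (autOf g hg (z : CliffordAlgebra Q) - z))
  obtain ⟨p, hp, hle⟩ := Ideal.exists_le_maximal J fun h => hne (by
    have h1 : (1 : R) ∈ J := by rw [h]; trivial
    simpa [J] using h1)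
  haveI : p.IsPrime := hp.isPrime
  obtain ⟨t, ht, ⟨-, h⟩ | ⟨h, -⟩⟩ := local_structure b hQ g hg p
  · exact ht (hle (by simpa [J] using h z hz))
  · refine ht ?_
    rw [hd, show (1 : R) + 1 = 2 by norm_num] at h
    have h2 : t = 0 := by
      have := congrArg (· * ⅟ (2 : R)) h
      simpa [mul_assoc] using this
    rw [h2]; exact zero_mem _

include b hQ in
theorem det_eq_neg_one (hc : ConnectedSpace (PrimeSpectrum R)) (g : M ≃ₗ[R] M) (hg : g ∈ QuadGrp.O Q)
    (hD : ¬ QuadGrp.IsDicksonTrivial Q g hg) : LinearEquiv.det g = -1 := by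
  let Ev : R → Prop := fun t => ∀ z : CliffordAlgebra.even Q,
    z ∈ Subalgebra.center R ↥(CliffordAlgebra.even Q) → t • (autOf g hg (z : CliffordAlgebra Q) - z) = 0
  let Od : R → Prop := fun t => t * ((LinearEquiv.det g : R) + 1) = 0 ∧
    ∀ (q : Ideal R) [q.IsPrime] (t' : R), Ev t' → t' * t ∈ q
  let UE : Set (PrimeSpectrum R) := ⋃ (t : R) (_ : Ev t), (PrimeSpectrum.basicOpen t : Set (PrimeSpectrum R))
  let UO : Set (PrimeSpectrum R) := ⋃ (t : R) (_ : Od t), (PrimeSpectrum.basicOpen t : Set (PrimeSpectrum R))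
  have hopen : IsOpen UE ∧ IsOpen UO :=
    ⟨isOpen_iUnion fun t => isOpen_iUnion fun _ => PrimeSpectrum.isOpen_basicOpen,
      isOpen_iUnion fun t => isOpen_iUnion fun _ => PrimeSpectrum.isOpen_basicOpen⟩
  have hcover : UE ∪ UO = Set.univ := by
    refine Set.eq_univ_of_forall fun p => ?_
    haveI := p.isPrime
    obtain ⟨t, ht, ⟨-, h⟩ | ⟨h0, h1⟩⟩ := local_structure b hQ g hg p.asIdeal
    · exact Or.inl (Set.mem_iUnion₂.2 ⟨t, h, (PrimeSpectrum.mem_basicOpen _ _).2 ht⟩)
    · exact Or.inr (Set.mem_iUnion₂.2 ⟨t, ⟨h0, h1⟩, (PrimeSpectrum.mem_basicOpen _ _).2 ht⟩)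
  have hdisj : Disjoint UE UO := by
    rw [Set.disjoint_left]
    intro p hE hO
    obtain ⟨t, ht, htp⟩ := Set.mem_iUnion₂.1 hE
    obtain ⟨t', ht', htp'⟩ := Set.mem_iUnion₂.1 hO
    haveI := p.isPrime
    exact (Ideal.IsPrime.mem_or_mem inferInstance (ht'.2 p.asIdeal t ht)).elim
      ((PrimeSpectrum.mem_basicOpen _ _).1 htp) ((PrimeSpectrum.mem_basicOpen _ _).1 htp')
  have hclopen : IsClopen UO := ⟨by
    have h : UO = UEᶜ := (IsCompl.compl_eq ⟨hdisj, by
      rw [codisjoint_iff]; exact hcover⟩).symm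
    rw [h]; exact hopen.1.isClosed_compl, hopen.2⟩
  rcases isClopen_iff.1 hclopen with hO | hO
  · exfalso
    refine hD fun z hz => ?_
    rw [autOf_eq_map, ← sub_eq_zero]
    by_contra hne
    let J : Ideal R := (⊥ : Submodule R (CliffordAlgebra Q)).comap
      (LinearMap.toSpanSingleton R _ (autOf g hg (z : CliffordAlgebra Q) - z))
    obtain ⟨p, hp, hle⟩ := Ideal.exists_le_maximal J fun h => hne (by
      have h1 : (1 : R) ∈ J := by rw [h]; trivial
      simpa [J] using h1)
    have hE : (⟨p, hp.isPrime⟩ : PrimeSpectrum R) ∈ UE := by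
      have h := hcover; rw [hO, Set.union_empty] at h; rw [h]; trivial
    obtain ⟨t, ht, htp⟩ := Set.mem_iUnion₂.1 hE
    exact (PrimeSpectrum.mem_basicOpen _ _).1 htp (hle (by simpa [J] using ht z hz))
  · refine Units.ext ?_
    show (LinearEquiv.det g : R) = -1
    rw [eq_neg_iff_add_eq_zero]
    by_contra hne
    let J : Ideal R := (⊥ : Submodule R R).comap (LinearMap.mulRight R ((LinearEquiv.det g : R) + 1))
    obtain ⟨p, hp, hle⟩ := Ideal.exists_le_maximal J fun h => hne (by
      have h1 : (1 : R) ∈ J := by rw [h]; trivial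
      simpa [J] using h1)
    have hP : (⟨p, hp.isPrime⟩ : PrimeSpectrum R) ∈ UO := by rw [hO]; trivial
    obtain ⟨t, ht, htp⟩ := Set.mem_iUnion₂.1 hP
    exact (PrimeSpectrum.mem_basicOpen _ _).1 htp (hle (by simpa [J] using ht.1))

end Groth.Agent.CliffSm
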