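import Groth.Agent.CliffSm.EvenFrame
import Groth.Agent.CliffSm.SplitFrame
import Mathlib.RingTheory.Etale.StandardEtale
import Mathlib.RingTheory.Etale.Pi
import Mathlib.RingTheory.Smooth.Flat

/-!
# Regular forms of even rank are split on an étale cover
-/

set_option autoImplicit false
noncomputable section

universe u v

open QuadraticMap TensorProduct Polynomial
open QuadGrp (baseChangeForm)

namespace Groth.Agent.CliffSm

/-- Adjoining a root of a separable quadratic polynomial. -/
theorem exists_etale_root {L : Type u} [CommRing L] (b c : L) (hd : IsUnit (b * b - 4 * c)) :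
    ∃ (A : Type u) (_ : CommRing A) (_ : Algebra L A), Algebra.Etale L A ∧ Module.FaithfullyFlat L A ∧
      ∃ t : A, t * t + algebraMap L A b * t + algebraMap L A c = 0 := by
  obtain ⟨e, he⟩ := hd.exists_left_inv
  let f : L[X] := X ^ 2 + (C b * X + C c)
  have hf : f.Monic := monic_X_pow_add (degree_linear_lt ..)
  have hder : derivative f = 2 * X + C b := by
    simp [f, derivative_pow, C_ofNat]
  have hC : C e * (C b * C b - 4 * C c) = 1 := by
    rw [show (4 : L[X]) = C 4 from (map_ofNat C 4).symm, ← C_mul, ← C_mul, ← C_sub, ← C_mul, he, map_one]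
  let P : StandardEtalePair L := ⟨f, hf, 1, C e * (2 * X + C b), -(4 * C e), 1, by
    rw [hder, pow_one]
    simp only [f]
    linear_combination hC⟩
  have hdg : Nontrivial L → f.natDegree ≠ 0 := fun _ => by
    have : f.natDegree = 2 := by
      rw [natDegree_add_eq_left_of_degree_lt, natDegree_X_pow]
      rw [degree_X_pow]
      exact degree_linear_lt ..
    omega
  haveI : IsLocalization.Away (1 : AdjoinRoot f) (Localization.Away (AdjoinRoot.mk P.f P.g)) := by
    have : AdjoinRoot.mk P.f P.g = (1 : AdjoinRoot f) := map_one _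
    rw [this]
    infer_instance
  let ψ : P.Ring ≃ₐ[L] AdjoinRoot f := P.equivAwayAdjoinRoot.trans
    ((IsLocalization.atOne (AdjoinRoot f) (Localization.Away (AdjoinRoot.mk P.f P.g))).symm.restrictScalars L)
  refine ⟨AdjoinRoot f, inferInstance, inferInstance, Algebra.Etale.of_equiv ψ, faithfullyFlat_adjoinRoot hf hdg,
    AdjoinRoot.root f, ?_⟩
  have h := AdjoinRoot.eval₂_root f
  simp only [f, eval₂_add, eval₂_mul, eval₂_pow, eval₂_X, eval₂_C] at h
  rw [AdjoinRoot.algebraMap_eq, add_assoc, ← pow_two]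
  exact h

theorem exists_etale_roots (L : Type u) [CommRing L] : ∀ (k : ℕ) (f : Fin k → L × L),
    (∀ i, IsUnit ((f i).1 * (f i).1 - 4 * (f i).2)) →
    ∃ (A : Type u) (_ : CommRing A) (_ : Algebra L A), Algebra.Etale L A ∧ Module.FaithfullyFlat L A ∧
      ∀ i, ∃ t : A, t * t + algebraMap L A (f i).1 * t + algebraMap L A (f i).2 = 0 := by
  intro k
  induction k with
  | zero => exact fun f _ => ⟨L, inferInstance, Algebra.id L, inferInstance, inferInstance, fun i => i.elim0⟩
  | succ k ih =>
    intro f hd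
    obtain ⟨A, _, _, het, hff, hroot⟩ := ih (fun i => f i.succ) fun i => hd i.succ
    obtain ⟨B, _, _, het', hff', t, ht⟩ := exists_etale_root (algebraMap L A (f 0).1) (algebraMap L A (f 0).2)
      (by simpa only [map_mul, map_sub, map_ofNat] using (hd 0).map (algebraMap L A))
    letI : Algebra L B := ((algebraMap A B).comp (algebraMap L A)).toAlgebra
    haveI : IsScalarTower L A B := IsScalarTower.of_algebraMap_eq' rfl
    refine ⟨B, inferInstance, inferInstance, Algebra.Etale.comp L A B, Module.FaithfullyFlat.trans L A B,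
      Fin.cases ⟨t, ht⟩ fun i => ?_⟩
    obtain ⟨s, hs⟩ := hroot i
    refine ⟨algebraMap A B s, ?_⟩
    rw [IsScalarTower.algebraMap_apply L A B, IsScalarTower.algebraMap_apply L A B, ← map_mul, ← map_mul,
      ← map_add, ← map_add, hs, map_zero]

section Hyp

variable {A : Type u} [CommRing A] {V : Type v} [AddCommGroup V] [Module A V]

/-- A frame of hyperbolic planes. -/
structure IsHypFrame {m : ℕ} (Q : QuadraticForm A V) (p q : Fin m → V) : Prop extends IsPlanes Q p q where
  p0 : ∀ i, Q (p i) = 0
  q0 : ∀ i, Q (q i) = 0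
  pq : ∀ i, polar Q (p i) (q i) = 1

variable {m : ℕ} {Q : QuadraticForm A V} {p q : Fin m → V}

theorem IsHypFrame.plDisc_eq (h : IsHypFrame Q p q) (i : Fin m) : plDisc Q (p i) (q i) = 1 := by
  simp [plDisc, h.pq, h.p0, h.q0]

theorem IsHypFrame.isUnit_det (h : IsHypFrame Q p q) (c : Module.Basis (Fin m ⊕ Fin m) A V) :
    IsUnit (c.toMatrix (Sum.elim p q)).det := by
  by_contra hd
  obtain ⟨P, hP, hle⟩ := Ideal.exists_le_maximal _ (mt Ideal.span_singleton_eq_top.1 hd)
  haveI := hP.isPrime
  exact det_planes_notMem c h.toIsPlanes P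
    (fun i => by rw [h.plDisc_eq]; exact fun h1 => hP.ne_top ((Ideal.eq_top_iff_one P).2 h1))
    (hle (Ideal.mem_span_singleton_self _))

/-- The basis of a frame of hyperbolic planes. -/
def IsHypFrame.basis (h : IsHypFrame Q p q) (c : Module.Basis (Fin m ⊕ Fin m) A V) :
    Module.Basis (Fin m ⊕ Fin m) A V :=
  Module.Basis.mk ((Module.Basis.is_basis_iff_det c).2 (by rw [Module.Basis.det_apply]; exact h.isUnit_det c)).1
    ((Module.Basis.is_basis_iff_det c).2 (by rw [Module.Basis.det_apply]; exact h.isUnit_det c)).2.ge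

theorem IsHypFrame.basis_apply (h : IsHypFrame Q p q) (c : Module.Basis (Fin m ⊕ Fin m) A V)
    (k : Fin m ⊕ Fin m) : h.basis c k = Sum.elim p q k := by
  simp [IsHypFrame.basis]

theorem IsHypFrame.span_eq (h : IsHypFrame Q p q) (c : Module.Basis (Fin m ⊕ Fin m) A V) :
    Submodule.span A (Set.range (Sum.elim p q)) = ⊤ := by
  rw [← (funext (h.basis_apply c) : ⇑(h.basis c) = Sum.elim p q), Module.Basis.span_eq]

theorem IsHypFrame.apply_sum (h : IsHypFrame Q p q) (x y : Fin m → A) :
    Q (∑ j, (x j • p j + y j • q j)) = ∑ j, x j * y j := by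
  suffices ∀ s : Finset (Fin m), Q (∑ j ∈ s, (x j • p j + y j • q j)) = ∑ j ∈ s, x j * y j ∧
      ∀ i ∉ s, polar Q (∑ j ∈ s, (x j • p j + y j • q j)) (x i • p i + y i • q i) = 0 from
    (this Finset.univ).1
  intro s
  induction s using Finset.induction_on with
  | empty => simp
  | @insert a s ha ih =>
    refine ⟨?_, fun i hi => ?_⟩
    · rw [Finset.sum_insert ha, Finset.sum_insert ha, QuadraticMap.map_add (⇑Q), ih.1, QuadraticMap.polar_comm,
        ih.2 a ha, add_zero, QuadraticMap.map_add (⇑Q), QuadraticMap.map_smul, QuadraticMap.map_smul,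
        QuadraticMap.polar_smul_left, QuadraticMap.polar_smul_right, h.p0, h.q0, h.pq]
      simp only [smul_eq_mul]
      ring
    · obtain ⟨hia, his⟩ : i ≠ a ∧ i ∉ s := by simpa using hi
      rw [Finset.sum_insert ha, QuadraticMap.polar_add_left, ih.2 i his, add_zero]
      simp [QuadraticMap.polar_add_left, QuadraticMap.polar_add_right, h.uu a i (Ne.symm hia),
        h.uv a i (Ne.symm hia), h.vv a i (Ne.symm hia), h.vu _ a i (Ne.symm hia)]

end Hyp

section Cover

variable {R : Type u} [CommRing R] {M : Type v} [AddCommGroup M] [Module R M] [Module.Free R M]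
  {Q : QuadraticForm R M} {m : ℕ}

theorem isHypFrame_of_roots {u v : Fin m → M} (h : IsPlanes Q u v) (A : Type u) [CommRing A] [Algebra R A]
    (Qu Qv B iv id' : Fin m → A) (hQu : ∀ i, algebraMap R A (Q (u i)) = Qu i)
    (hQv : ∀ i, algebraMap R A (Q (v i)) = Qv i) (hB : ∀ i, algebraMap R A (polar Q (u i) (v i)) = B i)
    (hiv : ∀ i, iv i * Qv i = 1) (hid : ∀ i, id' i * (B i * B i - 4 * (Qu i * Qv i)) = 1)
    (t : Fin m → A) (ht : ∀ i, Qv i * (t i * t i) + B i * t i + Qu i = 0) :
    IsHypFrame (baseChangeForm A Q)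
      (fun i => (1 : A) ⊗ₜ[R] u i + t i ⊗ₜ[R] v i)
      (fun i => (-(Qv i * id' i)) ⊗ₜ[R] u i + (-(Qv i * id' i) * (-(B i * iv i) - t i)) ⊗ₜ[R] v i) := by
  refine ⟨⟨?_, ?_, ?_⟩, fun i => ?_, fun i => ?_, fun i => ?_⟩
  · intro i j hij
    simp [QuadraticMap.polar_add_left, QuadraticMap.polar_add_right, bc_polar, h.uu i j hij, h.vv i j hij,
      h.uv i j hij, h.vu _ i j hij]
  · intro i j hij
    simp [QuadraticMap.polar_add_left, QuadraticMap.polar_add_right, bc_polar, h.uu i j hij, h.vv i j hij,
      h.uv i j hij, h.vu _ i j hij]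
  · intro i j hij
    simp [QuadraticMap.polar_add_left, QuadraticMap.polar_add_right, bc_polar, h.uu i j hij, h.vv i j hij,
      h.uv i j hij, h.vu _ i j hij]
  · rw [QuadraticMap.map_add (⇑(baseChangeForm A Q)), bc_tmul, bc_tmul, bc_polar, hQu, hQv, hB]
    linear_combination ht i
  · rw [QuadraticMap.map_add (⇑(baseChangeForm A Q)), bc_tmul, bc_tmul, bc_polar, hQu, hQv, hB]
    linear_combination (Qv i * id' i) * (Qv i * id' i) * ht i +
      ((Qv i * id' i) * (Qv i * id' i) * (B i * t i * 2 + B i * B i * iv i)) * hiv i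
  · simp only [QuadraticMap.polar_add_left, QuadraticMap.polar_add_right, bc_polar, polar_self', map_mul,
      map_ofNat, hQu, hQv, QuadraticMap.polar_comm Q (v i) (u i), hB]
    linear_combination hid i + (2 * Qv i * id' i) * ht i +
      (id' i * B i * B i + 2 * id' i * B i * t i * Qv i) * hiv i

variable (b : Module.Basis (Fin (2 * m)) R M) (hQ : QuadGrp.IsRegular Q)

include b hQ in
/-- An étale neighbourhood of a prime over which the form is hyperbolic. -/
theorem exists_etale_split_at (p : PrimeSpectrum R) :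
    ∃ s : R, s ∉ p.asIdeal ∧ ∃ (A : Type u) (_ : CommRing A) (_ : Algebra R A), Algebra.Etale R A ∧
      (∀ q : PrimeSpectrum R, s ∉ q.asIdeal → q ∈ Set.range (PrimeSpectrum.comap (algebraMap R A))) ∧
      ∃ P P' : Fin m → A ⊗[R] M, IsHypFrame (baseChangeForm A Q) P P' := by
  obtain ⟨u, v, h, hd, hv⟩ := exists_good Q b p.asIdeal (nondeg_residue_regular b hQ p.asIdeal) m le_rfl
  let s : R := (∏ i, plDisc Q (u i) (v i)) * ∏ i, Q (v i)
  have hs : s ∉ p.asIdeal := by
    intro hm
    rcases p.isPrime.mem_or_mem hm with hm | hm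
    · obtain ⟨i, _, hi⟩ := (Ideal.IsPrime.prod_mem_iff (p := p.asIdeal)).1 hm
      exact hd i hi
    · obtain ⟨i, _, hi⟩ := (Ideal.IsPrime.prod_mem_iff (p := p.asIdeal)).1 hm
      exact hv i hi
  let L := Localization.Away s
  have hunit : ∀ x : R, x ∣ s → IsUnit (algebraMap R L x) := fun x hx =>
    isUnit_of_dvd_unit (map_dvd _ hx) (IsLocalization.Away.algebraMap_isUnit s)
  have hQv : ∀ i, IsUnit (algebraMap R L (Q (v i))) := fun i =>
    hunit _ ((Finset.dvd_prod_of_mem (fun i => Q (v i)) (Finset.mem_univ i)).trans (Dvd.intro_left _ rfl))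
  have hQd : ∀ i, IsUnit (algebraMap R L (plDisc Q (u i) (v i))) := fun i =>
    hunit _ ((Finset.dvd_prod_of_mem (fun i => plDisc Q (u i) (v i)) (Finset.mem_univ i)).trans (Dvd.intro _ rfl))
  choose iv hiv using fun i => (hQv i).exists_left_inv
  choose id' hid using fun i => (hQd i).exists_left_inv
  obtain ⟨A, _, _, het, hff, hroot⟩ := exists_etale_roots L m
    (fun i => (algebraMap R L (polar Q (u i) (v i)) * iv i, algebraMap R L (Q (u i)) * iv i)) (fun i => by
      have h1 := hiv i
      have h2 : IsUnit (iv i * iv i * algebraMap R L (plDisc Q (u i) (v i))) :=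
        (((isUnit_iff_exists_inv).2 ⟨_, h1⟩).mul ((isUnit_iff_exists_inv).2 ⟨_, h1⟩)).mul (hQd i)
      show IsUnit (algebraMap R L (polar Q (u i) (v i)) * iv i * (algebraMap R L (polar Q (u i) (v i)) * iv i) -
        4 * (algebraMap R L (Q (u i)) * iv i))
      convert h2 using 1
      simp only [plDisc, map_sub, map_mul, map_ofNat]
      linear_combination (4 * iv i * algebraMap R L (Q (u i))) * h1)
  choose t ht using hroot
  letI : Algebra R A := ((algebraMap L A).comp (algebraMap R L)).toAlgebra
  haveI : IsScalarTower R L A := IsScalarTower.of_algebraMap_eq' rfl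
  haveI : Algebra.Etale R L := Algebra.Etale.of_isLocalizationAway s
  refine ⟨s, hs, A, inferInstance, inferInstance, Algebra.Etale.comp R L A, fun q hq => ?_, _, _,
    isHypFrame_of_roots h A _ _ _ (fun i => algebraMap L A (iv i)) (fun i => algebraMap L A (id' i))
      (fun i => rfl) (fun i => rfl) (fun i => rfl) (fun i => ?_) (fun i => ?_) t (fun i => ?_)⟩
  · have : q ∈ Set.range (PrimeSpectrum.comap (algebraMap R L)) := by
      rw [PrimeSpectrum.localization_away_comap_range L s]
      exact hq
    obtain ⟨q, rfl⟩ := this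
    obtain ⟨q', rfl⟩ := PrimeSpectrum.comap_surjective_of_faithfullyFlat (B := A) q
    exact ⟨q', rfl⟩
  · show algebraMap L A (iv i) * algebraMap L A (algebraMap R L _) = 1
    rw [← map_mul, hiv, map_one]
  · have := congrArg (algebraMap L A) (hid i)
    simp only [plDisc, map_mul, map_sub, map_ofNat, map_one] at this
    exact this
  · have h1 := ht i
    have h2 := congrArg (algebraMap L A) (hiv i)
    simp only [map_mul, map_one] at h1 h2
    show algebraMap L A (algebraMap R L _) * _ + algebraMap L A (algebraMap R L _) * _ +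
      algebraMap L A (algebraMap R L _) = 0
    linear_combination algebraMap L A (algebraMap R L (Q (v i))) * h1 -
      (algebraMap L A (algebraMap R L (polar Q (u i) (v i))) * t i + algebraMap L A (algebraMap R L (Q (u i)))) * h2

include b hQ in
/-- A single fppf cover over which the form is hyperbolic. -/
theorem exists_hyp_cover :
    ∃ (A : Type u) (_ : CommRing A) (_ : Algebra R A), Module.FaithfullyFlat R A ∧
      Algebra.FinitePresentation R A ∧ Algebra.Etale R A ∧
      ∃ P P' : Fin m → A ⊗[R] M, IsHypFrame (baseChangeForm A Q) P P' := by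
  choose s hs A iC iA het hrange P P' hfr using exists_etale_split_at b hQ
  obtain ⟨T, hT⟩ := exists_finite_cover s hs
  let S : T → Type u := fun t => A t
  letI : ∀ t : T, CommRing (S t) := fun t => iC t
  letI : ∀ t : T, Algebra R (S t) := fun t => iA t
  haveI : ∀ t : T, Algebra.Etale R (S t) := fun t => het t
  have hff : Module.FaithfullyFlat R (∀ t, S t) := faithfullyFlat_pi S fun p => by
    obtain ⟨t, ht, hp⟩ := hT p
    exact ⟨⟨t, ht⟩, hrange t p hp⟩
  haveI : Algebra.Etale R (∀ t, S t) := inferInstance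
  let glue : (∀ t : T, S t ⊗[R] M) → (∀ t, S t) ⊗[R] M := fun X =>
    ∑ r, (fun t => (b.baseChange (S t)).repr (X t) r) ⊗ₜ[R] b r
  have hglue : ∀ X t, (Pi.evalAlgHom R S t).toLinearMap.rTensor M (glue X) = X t := fun X t => by
    simp only [glue, map_sum, LinearMap.rTensor_tmul, AlgHom.toLinearMap_apply, Pi.evalAlgHom_apply]
    conv_rhs => rw [← (b.baseChange (S t)).sum_repr (X t)]
    simp [TensorProduct.smul_tmul']
  have hQ' : ∀ X t, baseChangeForm (∀ t, S t) Q (glue X) t = baseChangeForm (S t) Q (X t) :=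
    fun X t => by
      have := (bc_natural Q (∀ t, S t) (Pi.evalAlgHom R S t) (glue X)).1
      rwa [hglue] at this
  have hB : ∀ X Y t, polar (baseChangeForm (∀ t, S t) Q) (glue X) (glue Y) t =
      polar (baseChangeForm (S t) Q) (X t) (Y t) := fun X Y t => by
    have := (bc_natural Q (∀ t, S t) (Pi.evalAlgHom R S t) (glue X)).2 (glue Y)
    rwa [hglue, hglue] at this
  haveI hfp : Algebra.FinitePresentation R (∀ t, S t) := Algebra.Etale.finitePresentation
  refine ⟨∀ t, S t, inferInstance, inferInstance, hff, hfp, ‹Algebra.Etale R (∀ t, S t)›,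
    fun i => glue fun t => P t i, fun i => glue fun t => P' t i, ⟨⟨?_, ?_, ?_⟩, ?_, ?_, ?_⟩⟩
  · exact fun i j hij => funext fun t => (hB (fun t => P t i) (fun t => P t j) t).trans ((hfr t).uu i j hij)
  · exact fun i j hij => funext fun t => (hB (fun t => P' t i) (fun t => P' t j) t).trans ((hfr t).vv i j hij)
  · exact fun i j hij => funext fun t => (hB (fun t => P t i) (fun t => P' t j) t).trans ((hfr t).uv i j hij)
  · exact fun i => funext fun t => (hQ' (fun t => P t i) t).trans ((hfr t).p0 i)
  · exact fun i => funext fun t => (hQ' (fun t => P' t i) t).trans ((hfr t).q0 i)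
  · exact fun i => funext fun t => (hB (fun t => P t i) (fun t => P' t i) t).trans ((hfr t).pq i)

end Cover

end Groth.Agent.CliffSm
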