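import Groth.Agent.CliffSm.Kernel
import Groth.Agent.QuadSm.Matrix
import Mathlib.RingTheory.Ideal.Operations
import Mathlib.LinearAlgebra.QuadraticForm.Basic

/-!
# Solving the infinitesimal equation for semiregular forms
-/

set_option autoImplicit false
noncomputable section

universe u v

open CliffordAlgebra Matrix

namespace Groth.Agent.CliffSm

variable {S : Type u} [CommRing S]

section Weighted

variable {C κ : Type*} [AddCommGroup C] [Module S C] [DecidableEq κ]

/-- A compatible family is, up to a power of `g`, in the image of the derivations. -/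
theorem exists_primitive_weighted (g : S) (dd L : κ → C →ₗ[S] C) (W₀ W₁ : Submodule S C)
    (hself : ∀ a x, dd a (dd a x) = 0) (hanti : ∀ a b x, dd a (dd b x) = -dd b (dd a x))
    (hL : ∀ a b x, dd a (L b x) = (if a = b then g • x else 0) - L b (dd a x))
    (hd' : ∀ a x, x ∈ W₀ → dd a x ∈ W₁) (hL₁ : ∀ a x, x ∈ W₁ → L a x ∈ W₀) (s : Finset κ) :
    ∀ G : κ → C, (∀ a, a ∉ s → G a = 0) → (∀ a, dd a (G a) = 0) →
      (∀ a b, dd a (G b) + dd b (G a) = 0) → (∀ a, G a ∈ W₁) →
      ∃ N : ℕ, ∃ X ∈ W₀, ∀ a, dd a X = g ^ N • G a := by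
  induction s using Finset.induction_on with
  | empty =>
    intro G h _ _ _
    exact ⟨0, 0, zero_mem _, fun a => by rw [map_zero, h a (Finset.notMem_empty a), smul_zero]⟩
  | insert i s his ih =>
    intro G hsupp hs hsym hG
    let Y := L i (G i)
    have hYi : dd i Y = g • G i := by
      simp only [Y]; rw [hL, if_pos rfl, hs, map_zero, sub_zero]
    have h1 : ∀ a, a ∉ s → g • G a - dd a Y = 0 := by
      intro a ha
      by_cases hai : a = i
      · rw [hai, hYi, sub_self]
      · have h0 : G a = 0 := hsupp a (by simp [hai, ha])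
        have h1 : dd a (G i) = 0 := by simpa [h0] using hsym a i
        simp only [Y]
        rw [hL, if_neg hai, h1, map_zero, sub_zero, h0, smul_zero, sub_zero]
    have h2 : ∀ a, dd a (g • G a - dd a Y) = 0 := fun a => by
      rw [map_sub, map_smul, hs, smul_zero, hself, sub_zero]
    have h3 : ∀ a b, dd a (g • G b - dd b Y) + dd b (g • G a - dd a Y) = 0 := fun a b => by
      rw [map_sub, map_sub, hanti a b, sub_neg_eq_add, add_add_sub_cancel, map_smul, map_smul,
        ← smul_add, hsym, smul_zero]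
    have h4 : ∀ a, g • G a - dd a Y ∈ W₁ := fun a =>
      sub_mem (W₁.smul_mem _ (hG a)) (hd' _ _ (hL₁ _ _ (hG i)))
    obtain ⟨N, X, hX, hXG⟩ := ih _ h1 h2 h3 h4
    refine ⟨N + 1, g ^ N • Y + X, add_mem (W₀.smul_mem _ (hL₁ _ _ (hG i))) hX, fun a => ?_⟩
    rw [map_add, map_smul, hXG, smul_sub, smul_smul, ← pow_succ]
    abel

end Weighted

variable {M : Type v} [AddCommGroup M] [Module S M] {Q : QuadraticForm S M} {n : ℕ}
  (b : Module.Basis (Fin n) S M)

/-- The coefficient table. -/
abbrev tableOf : Sym2 (Fin n) → S := QuadGrp.coeffs b (LinearEquiv.refl S S) Q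

theorem polA_tableOf (i j : Fin n) :
    Groth.Agent.QuadCentre.polA (tableOf (Q := Q) b) i j = QuadraticMap.polar Q (b i) (b j) := by
  simp only [Groth.Agent.QuadCentre.polA, of_apply, tableOf, QuadGrp.coeffs_mk, LinearEquiv.refl_apply]
  split_ifs with h
  · subst h; simp [QuadraticMap.polar_self]
  · rfl

/-- The ideal of the entries of the adjugate of the polar matrix. -/
def adjIdeal : Ideal S :=
  Ideal.span (Set.range fun p : Fin n × Fin n =>
    (Groth.Agent.QuadCentre.polA (tableOf (Q := Q) b)).adjugate p.1 p.2)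

theorem adjIdeal_eq_top (hn : Odd n)
    (h : IsUnit (Groth.Agent.QuadCentre.hdA (tableOf (Q := Q) b))) : adjIdeal (Q := Q) b = ⊤ := by
  refine Ideal.eq_top_of_isUnit_mem _ ?_ h
  set a := tableOf (Q := Q) b
  set P := Groth.Agent.QuadCentre.polA a
  have hadj : ∀ i j, P.adjugate i j ∈ adjIdeal (Q := Q) b := fun i j =>
    Ideal.subset_span ⟨(i, j), rfl⟩
  obtain ⟨m, hm⟩ := id hn
  have h1 : (n : S) * Groth.Agent.QuadCentre.hdA a ∈ adjIdeal (Q := Q) b := by
    rw [Groth.Agent.QuadSm.nat_mul_hdA hn a, Matrix.trace]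
    refine sum_mem fun i _ => ?_
    rw [Matrix.diag_apply, Matrix.mul_apply]
    exact sum_mem fun j _ => Ideal.mul_mem_right _ _ (hadj i j)
  have h2 : 2 * Groth.Agent.QuadCentre.hdA a ∈ adjIdeal (Q := Q) b := by
    let i : Fin n := ⟨0, by omega⟩
    rw [Groth.Agent.QuadCentre.two_mul_hdA hn]
    have := congrFun (congrFun (Matrix.mul_adjugate P) i) i
    rw [Matrix.mul_apply, Matrix.smul_apply, Matrix.one_apply_eq, smul_eq_mul, mul_one] at this
    rw [← this]
    exact sum_mem fun j _ => Ideal.mul_mem_left _ _ (hadj j i)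
  have := sub_mem h1 (Ideal.mul_mem_left _ (m : S) h2)
  have hc : ((n : ℕ) : S) = 2 * (m : S) + 1 := by exact_mod_cast congrArg (Nat.cast (R := S)) hm
  rw [hc] at this
  convert this using 1
  ring

/-- The almost dual system of a cofactor. -/
theorem exists_frame (k l : Fin n) : ∃ f : Fin n → M, ∀ a r, a ≠ k → r ≠ k →
    QuadraticMap.polar Q (f a) (b r) =
      if r = a then (Groth.Agent.QuadCentre.polA (tableOf (Q := Q) b)).adjugate k l else 0 := by
  classical
  set P := Groth.Agent.QuadCentre.polA (tableOf (Q := Q) b) with hP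
  choose w hw using fun a => Groth.Agent.QuadSm.cofactor_column (tableOf (Q := Q) b) a k l
  refine ⟨fun a => ∑ c, w a c • b c, fun a r _ hr => ?_⟩
  rw [← QuadraticMap.polarBilin_apply_apply, map_sum, LinearMap.sum_apply]
  have : ∀ c, QuadraticMap.polarBilin Q (w a c • b c) (b r) = P r c * w a c := fun c => by
    rw [map_smul, LinearMap.smul_apply, QuadraticMap.polarBilin_apply_apply, smul_eq_mul,
      QuadraticMap.polar_comm, ← polA_tableOf, mul_comm]
  rw [Finset.sum_congr rfl fun c _ => this c]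
  have h := congrFun (hw a) r
  rw [Matrix.mulVec, dotProduct] at h
  rw [h, Pi.sub_apply, Pi.single_apply, Pi.single_apply, if_neg hr, sub_zero]

variable [Module.Free S M]

/-- The even elements killed by contraction are, locally, scalars. -/
theorem exists_scalar_of_killed (hadj : adjIdeal (Q := Q) b = ⊤) {z : CliffordAlgebra Q}
    (hev : z ∈ evenOdd Q 0) (hz : ∀ x, contractLeft (QuadraticMap.polarBilin Q x) z = 0) :
    ∃ r : S, z = algebraMap S _ r := by
  let T : Ideal S := (1 : Submodule S (CliffordAlgebra Q)).comap (LinearMap.toSpanSingleton S _ z)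
  have hT : adjIdeal (Q := Q) b ≤ T.radical := by
    rw [adjIdeal, Ideal.span_le]
    rintro _ ⟨⟨k, l⟩, rfl⟩
    obtain ⟨f, hf⟩ := exists_frame (Q := Q) b k l
    obtain ⟨N, hN⟩ := pow_smul_mem_of_killed b k _ (fun a => QuadraticMap.polarBilin Q (f a))
      (fun a r ha hr => hf a r ha hr) Q
    refine ⟨N, ?_⟩
    obtain ⟨r, s, hrs⟩ := Submodule.mem_span_pair.1 (hN z fun a _ => hz _)
    show (Groth.Agent.QuadCentre.polA (tableOf (Q := Q) b)).adjugate k l ^ N • z ∈
      (1 : Submodule S (CliffordAlgebra Q))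
    have h := congrArg (part Q 0) hrs
    rw [map_add, map_smul, map_smul, part_of_mem Q (SetLike.one_mem_graded _),
      part_of_mem_ne Q (ι_mem_evenOdd_one Q _) one_ne_zero, smul_zero, add_zero, map_smul,
      part_of_mem Q hev] at h
    exact Submodule.mem_one.2 ⟨r, (Algebra.algebraMap_eq_smul_one r).trans h⟩
  rw [hadj, top_le_iff, Ideal.radical_eq_top] at hT
  have : (1 : S) ∈ T := by rw [hT]; trivial
  have h1 : (1 : S) • z ∈ (1 : Submodule S (CliffordAlgebra Q)) := this
  rw [one_smul] at h1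
  obtain ⟨r, hr⟩ := Submodule.mem_one.1 h1
  exact ⟨r, hr.symm⟩

variable [Module.Finite S M]

theorem polar_mem_of_forall {I : Ideal S} (q : QuadraticForm S M) (h : ∀ x, q x ∈ I) (x y : M) :
    QuadraticMap.polar q x y ∈ I := sub_mem (sub_mem (h _) (h _)) (h _)

theorem algebraMap_mem_smul_top {I : Ideal S} {r : S} (h : r ∈ I) :
    algebraMap S (CliffordAlgebra Q) r ∈ I • (⊤ : Submodule S (CliffordAlgebra Q)) := by
  rw [Algebra.algebraMap_eq_smul_one]
  exact Submodule.smul_mem_smul h trivial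

set_option maxHeartbeats 800000 in
/-- The equation is solvable up to a power of each cofactor. -/
theorem exists_inner_weighted (k l : Fin n) {I : Ideal S} (D : M →ₗ[S] CliffordAlgebra Q)
    (hJ : ∀ x, D x ∈ I • (⊤ : Submodule S (CliffordAlgebra Q))) (hodd : ∀ x, D x ∈ evenOdd Q 1)
    (q : QuadraticForm S M) (hqI : ∀ x, q x ∈ I)
    (hq : ∀ x, contractLeft (QuadraticMap.polarBilin Q x) (D x) = algebraMap S _ (q x)) :
    ∃ N : ℕ, ∃ X ∈ I • (⊤ : Submodule S (CliffordAlgebra Q)), X ∈ evenOdd Q 0 ∧ ∀ x,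
      (Groth.Agent.QuadCentre.polA (tableOf (Q := Q) b)).adjugate k l ^ N • D x -
        contractLeft (QuadraticMap.polarBilin Q x) X ∈ LinearMap.range (ι Q) := by
  classical
  obtain ⟨f, hf⟩ := exists_frame (Q := Q) b k l
  set g := (Groth.Agent.QuadCentre.polA (tableOf (Q := Q) b)).adjugate k l
  let δ : M → CliffordAlgebra Q →ₗ[S] CliffordAlgebra Q := fun x =>
    contractLeft (QuadraticMap.polarBilin Q x)
  have hpol : ∀ x y, δ x (D y) + δ y (D x) = algebraMap S _ (QuadraticMap.polar q x y) := by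
    intro x y
    have h := hq (x + y)
    simp only [map_add, LinearMap.add_apply, hq] at h
    simp only [δ, QuadraticMap.polar, map_sub]
    rw [← h]
    abel
  let κ := {a : Fin n // a ≠ k}
  -- the triangular correction
  let t : κ → κ → S := fun a c =>
    if a = c then q (f c) else if a.1 < c.1 then QuadraticMap.polar q (f a) (f c) else 0
  have htI : ∀ a c, t a c ∈ I := fun a c => by
    simp only [t]
    split_ifs
    · exact hqI _
    · exact polar_mem_of_forall q hqI _ _
    · exact zero_mem _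
  let e : κ → M := fun c => ∑ a : κ, t a c • b a.1
  have he : ∀ a c : κ, δ (f a) (ι Q (e c)) = algebraMap S _ (g * t a c) := by
    intro a c
    simp only [δ, contractLeft_ι]
    congr 1
    simp only [e, map_sum, map_smul]
    rw [Finset.sum_eq_single a]
    · rw [QuadraticMap.polarBilin_apply_apply, hf a a a.2 a.2, if_pos rfl, smul_eq_mul, mul_comm]
    · intro r _ hr
      rw [QuadraticMap.polarBilin_apply_apply, hf a r a.2 r.2, if_neg fun h => hr (Subtype.ext h),
        smul_zero]
    · exact fun h => absurd (Finset.mem_univ a) h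
  let G : κ → CliffordAlgebra Q := fun c => g • D (f c) - ι Q (e c)
  have hG0 : ∀ a : κ, δ (f a) (G a) = 0 := by
    intro a
    simp only [G]
    rw [map_sub, map_smul, hq, he, show t a a = q (f a) from if_pos rfl, Algebra.smul_def, map_mul,
      sub_self]
  have hGs : ∀ a c : κ, δ (f a) (G c) + δ (f c) (G a) = 0 := by
    intro a c
    by_cases hac : a = c
    · subst hac; rw [hG0, add_zero]
    have ht : t a c + t c a = QuadraticMap.polar q (f a) (f c) := by
      simp only [t, if_neg hac, if_neg (Ne.symm hac)]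
      rcases lt_or_gt_of_ne (fun h => hac (Subtype.ext h)) with h | h
      · rw [if_pos h, if_neg h.le.not_gt, add_zero]
      · rw [if_neg h.le.not_gt, if_pos h, zero_add, QuadraticMap.polar_comm]
    simp only [G, map_sub, map_smul, he]
    rw [sub_add_sub_comm, ← smul_add, hpol, ← map_add, ← mul_add, ht, map_mul, Algebra.smul_def,
      sub_self]
  have hGW : ∀ a, G a ∈ I • (⊤ : Submodule S (CliffordAlgebra Q)) ⊓ evenOdd Q 1 := fun a =>
    ⟨sub_mem (Submodule.smul_mem _ _ (hJ _)) (map_mem_smul_top (ι Q)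
      (Submodule.sum_mem _ fun c _ => Submodule.smul_mem_smul (htI c a) trivial)),
     sub_mem (Submodule.smul_mem _ _ (hodd _)) (ι_mem_evenOdd_one Q _)⟩
  let L : κ → CliffordAlgebra Q →ₗ[S] CliffordAlgebra Q := fun a => LinearMap.mulLeft S (ι Q (b a.1))
  have hL : ∀ (a c : κ) x, δ (f a) (L c x) = (if a = c then g • x else 0) - L c (δ (f a) x) := by
    intro a c x
    show contractLeft _ (ι Q (b c.1) * x) = _ - ι Q (b c.1) * contractLeft _ x
    rw [contractLeft_ι_mul, QuadraticMap.polarBilin_apply_apply, hf a c a.2 c.2]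
    by_cases hac : a = c
    · rw [if_pos hac, if_pos (congrArg Subtype.val hac.symm)]
    · rw [if_neg hac, if_neg fun h => hac (Subtype.ext h.symm), zero_smul]
  have hd' : ∀ (a : κ) x, x ∈ I • (⊤ : Submodule S (CliffordAlgebra Q)) ⊓ evenOdd Q 0 →
      δ (f a) x ∈ I • (⊤ : Submodule S (CliffordAlgebra Q)) ⊓ evenOdd Q 1 := fun a x hx =>
    ⟨map_mem_smul_top (δ (f a)) hx.1, zero_add (1 : ZMod 2) ▸ contractLeft_polar_mem Q hx.2 (f a)⟩
  have hL₁ : ∀ (a : κ) x, x ∈ I • (⊤ : Submodule S (CliffordAlgebra Q)) ⊓ evenOdd Q 1 →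
      L a x ∈ I • (⊤ : Submodule S (CliffordAlgebra Q)) ⊓ evenOdd Q 0 := fun a x hx =>
    ⟨map_mem_smul_top (L a) hx.1,
      (show (1 + 1 : ZMod 2) = 0 from rfl) ▸ SetLike.mul_mem_graded (ι_mem_evenOdd_one Q (b a.1)) hx.2⟩
  obtain ⟨N, X, hX0, hX⟩ := exists_primitive_weighted g (fun a : κ => δ (f a)) L _ _
    (fun a x => contractLeft_contractLeft _ x) (fun a c x => contractLeft_comm _ _ x) hL hd' hL₁
    Finset.univ G (fun a h => absurd (Finset.mem_univ a) h) hG0 hGs hGW
  obtain ⟨N', hN'⟩ := pow_smul_mem_of_killed b k g (fun a => QuadraticMap.polarBilin Q (f a))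
    (fun a r ha hr => hf a r ha hr) Q
  refine ⟨N' + 1 + (N + 1), g ^ (N' + 1) • X, Submodule.smul_mem _ _ hX0.1,
    Submodule.smul_mem _ _ hX0.2, fun x => ?_⟩
  set z := g ^ (N + 1) • D x - δ x X with hz
  -- the contractions of the remainder are scalars
  let s : κ → S := fun a =>
    g ^ (N + 1) * QuadraticMap.polar q (f a) x - g ^ N * QuadraticMap.polarBilin Q x (e a)
  have hzs : ∀ a : κ, δ (f a) z = algebraMap S _ (s a) := by
    intro a
    have h1 : δ (f a) (δ x X) = -δ x (δ (f a) X) := contractLeft_comm _ _ X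
    rw [hz, map_sub, map_smul, h1, hX a]
    simp only [G, map_smul, map_sub]
    rw [show δ x (ι Q (e a)) = algebraMap S _ (QuadraticMap.polarBilin Q x (e a)) by
        simp only [δ, contractLeft_ι],
      smul_sub, smul_smul, ← pow_succ, sub_neg_eq_add, ← add_sub_assoc, ← smul_add, hpol]
    simp only [s, map_sub, map_mul, Algebra.smul_def]
  let z' := g • z - ι Q (∑ a : κ, s a • b a.1)
  have hz' : ∀ a, a ≠ k → contractLeft (QuadraticMap.polarBilin Q (f a)) z' = 0 := by
    intro a ha
    simp only [z']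
    rw [map_sub, map_smul, contractLeft_ι, show contractLeft _ z = _ from hzs ⟨a, ha⟩, map_sum,
      Finset.sum_eq_single (⟨a, ha⟩ : κ)]
    · rw [map_smul, QuadraticMap.polarBilin_apply_apply, hf a a ha ha, if_pos rfl, Algebra.smul_def,
        ← map_mul, smul_eq_mul, mul_comm, sub_self]
    · intro r _ hr
      rw [map_smul, QuadraticMap.polarBilin_apply_apply, hf a r.1 ha r.2,
        if_neg fun h => hr (Subtype.ext h), smul_zero]
    · exact fun h => absurd (Finset.mem_univ _) h
  obtain ⟨c₁, c₂, hc⟩ := Submodule.mem_span_pair.1 (hN' z' hz')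
  have hzodd : z ∈ evenOdd Q 1 :=
    sub_mem (Submodule.smul_mem _ _ (hodd x)) (zero_add (1 : ZMod 2) ▸ contractLeft_polar_mem Q hX0.2 x)
  have h1 := congrArg (part Q 1) hc
  rw [map_add, map_smul, map_smul, part_of_mem_ne Q (SetLike.one_mem_graded _) zero_ne_one,
    part_of_mem Q (ι_mem_evenOdd_one Q _), smul_zero, zero_add, map_smul,
    part_of_mem Q (sub_mem (Submodule.smul_mem _ _ hzodd) (ι_mem_evenOdd_one Q _))] at h1
  have h2 : g ^ (N' + 1) • z ∈ LinearMap.range (ι Q) := by
    have h3 : g ^ N' • z' ∈ LinearMap.range (ι Q) := ⟨c₂ • eVec b k g _, (map_smul (ι Q) _ _).trans h1⟩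
    have h4 : g ^ N' • ι Q (∑ a : κ, s a • b a.1) ∈ LinearMap.range (ι Q) :=
      Submodule.smul_mem _ _ ⟨_, rfl⟩
    have := add_mem h3 h4
    rwa [← smul_add, sub_add_cancel, smul_smul, ← pow_succ] at this
  rw [hz, smul_sub, smul_smul, ← pow_add] at h2
  rw [map_smul]
  exact h2

set_option maxHeartbeats 400000 in
/-- The infinitesimal equation for a semiregular form. -/
theorem exists_inner_semiregular (hadj : adjIdeal (Q := Q) b = ⊤) {I : Ideal S}
    (D : M →ₗ[S] CliffordAlgebra Q)
    (hJ : ∀ x, D x ∈ I • (⊤ : Submodule S (CliffordAlgebra Q))) (hodd : ∀ x, D x ∈ evenOdd Q 1)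
    (q : QuadraticForm S M) (hqI : ∀ x, q x ∈ I)
    (hq : ∀ x, contractLeft (QuadraticMap.polarBilin Q x) (D x) = algebraMap S _ (q x)) :
    ∃ η : M →ₗ[S] M, (∀ x, η x ∈ I • (⊤ : Submodule S M)) ∧
      ∃ X ∈ I • (⊤ : Submodule S (CliffordAlgebra Q)), X ∈ evenOdd Q 0 ∧
        ∀ x, ι Q x * X - X * ι Q x = D x - ι Q (η x) := by
  let T : Ideal S :=
    { carrier := {r | ∃ X ∈ I • (⊤ : Submodule S (CliffordAlgebra Q)), X ∈ evenOdd Q 0 ∧ ∀ x,
        r • D x - contractLeft (QuadraticMap.polarBilin Q x) X ∈ LinearMap.range (ι Q)}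
      add_mem' := by
        rintro r r' ⟨X, hX, hX0, h⟩ ⟨X', hX', hX0', h'⟩
        refine ⟨X + X', add_mem hX hX', add_mem hX0 hX0', fun x => ?_⟩
        rw [add_smul, map_add, add_sub_add_comm]
        exact add_mem (h x) (h' x)
      zero_mem' := ⟨0, zero_mem _, zero_mem _, fun x => by simp⟩
      smul_mem' := by
        rintro c r ⟨X, hX, hX0, h⟩
        refine ⟨c • X, Submodule.smul_mem _ _ hX, Submodule.smul_mem _ _ hX0, fun x => ?_⟩
        rw [map_smul, smul_assoc, ← smul_sub]
        exact Submodule.smul_mem _ _ (h x) }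
  have hT : adjIdeal (Q := Q) b ≤ T.radical := by
    rw [adjIdeal, Ideal.span_le]
    rintro _ ⟨⟨k, l⟩, rfl⟩
    obtain ⟨N, hN⟩ := exists_inner_weighted b k l D hJ hodd q hqI hq
    exact ⟨N, hN⟩
  rw [hadj, top_le_iff, Ideal.radical_eq_top] at hT
  obtain ⟨X, hXJ, hX0, hX⟩ := (show (1 : S) ∈ T by rw [hT]; trivial)
  simp only [one_smul] at hX
  let r : CliffordAlgebra Q →ₗ[S] M := ExteriorAlgebra.ιInv ∘ₗ (toExt Q).toLinearMap
  have hr : ∀ y, r (ι Q y) = y := fun y => by
    show ExteriorAlgebra.ιInv (toExt Q (ι Q y)) = y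
    rw [toExt_ι]
    exact ExteriorAlgebra.ι_leftInverse y
  let E : M →ₗ[S] CliffordAlgebra Q :=
    D - (contractLeft (Q := Q)).flip X ∘ₗ QuadraticMap.polarBilin Q
  have hE : ∀ x, E x = D x - contractLeft (QuadraticMap.polarBilin Q x) X := fun x => rfl
  refine ⟨r ∘ₗ E, fun x => map_mem_smul_top r ?_, X, hXJ, hX0, fun x => ?_⟩
  · rw [hE]
    exact sub_mem (hJ x) (map_mem_smul_top _ hXJ)
  · obtain ⟨y, hy⟩ := hX x
    rw [← contractLeft_polar_even Q hX0, LinearMap.comp_apply, hE, ← hy, hr, hy]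
    abel

end Groth.Agent.CliffSm
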