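import Groth.Prelude.Def_QuadGrp
import Mathlib.LinearAlgebra.QuadraticForm.Basic

/-!
# Relations in the Clifford algebra of the split form
-/

set_option autoImplicit false
noncomputable section

universe u

open CliffordAlgebra

namespace Groth.Agent.CliffSm

variable {R : Type u} [CommRing R] {M : Type*} [AddCommGroup M] [Module R M] (Q : QuadraticForm R M)

theorem ι_swap_orth {x y : M} (h : QuadraticMap.polar Q x y = 0) : ι Q y * ι Q x = -(ι Q x * ι Q y) := by
  rw [ι_mul_ι_comm, QuadraticMap.polar_comm, h, map_zero, zero_sub]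

theorem ι_swap_one {x y : M} (h : QuadraticMap.polar Q x y = 1) : ι Q y * ι Q x = 1 - ι Q x * ι Q y := by
  rw [ι_mul_ι_comm, QuadraticMap.polar_comm, h, map_one]

theorem ι_sq_zero {x : M} (h : Q x = 0) : ι Q x * ι Q x = 0 := by
  rw [ι_sq_scalar, h, map_zero]

section Pair

variable {A : Type*} [Ring A] {a b : A}

theorem pair_sq (ha : a * a = 0) (hb : b * b = 0) (h : b * a = 1 - a * b) :
    (1 - 2 * (a * b)) * (1 - 2 * (a * b)) = 1 := by
  have hab : a * b * (a * b) = a * b := by
    rw [mul_assoc, ← mul_assoc b, h, sub_mul, one_mul, mul_assoc a, hb, mul_zero, sub_zero]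
  simp only [two_mul, mul_sub, sub_mul, add_mul, mul_add, mul_one, one_mul, hab]
  abel

theorem pair_left (ha : a * a = 0) (h : b * a = 1 - a * b) :
    a * (1 - 2 * (a * b)) = -((1 - 2 * (a * b)) * a) := by
  have h1 : a * (a * b) = 0 := by rw [← mul_assoc, ha, zero_mul]
  have h2 : a * b * a = a := by rw [mul_assoc, h, mul_sub, mul_one, h1, sub_zero]
  simp only [two_mul, mul_sub, sub_mul, add_mul, mul_add, mul_one, one_mul, h1, h2]
  abel

theorem pair_right (hb : b * b = 0) (h : b * a = 1 - a * b) :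
    b * (1 - 2 * (a * b)) = -((1 - 2 * (a * b)) * b) := by
  have h1 : a * b * b = 0 := by rw [mul_assoc, hb, mul_zero]
  have h2 : b * (a * b) = b := by rw [← mul_assoc, h, sub_mul, one_mul, h1, sub_zero]
  simp only [two_mul, mul_sub, sub_mul, add_mul, mul_add, mul_one, one_mul, h1, h2]
  abel

theorem pair_other {c : A} (ha : a * c = -(c * a)) (hb : b * c = -(c * b)) :
    c * (1 - 2 * (a * b)) = (1 - 2 * (a * b)) * c := by
  have : a * b * c = c * (a * b) := by rw [mul_assoc, hb, mul_neg, ← mul_assoc, ha, neg_mul, neg_neg, mul_assoc]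
  simp only [two_mul, mul_sub, sub_mul, add_mul, mul_add, mul_one, one_mul, this]

variable {ι' : Type*} [DecidableEq ι'] {c : A}

theorem prod_anticomm (f : ι' → A) (i : ι') (hi : c * f i = -(f i * c))
    (hne : ∀ j, j ≠ i → c * f j = f j * c) :
    ∀ l : List ι', l.Nodup → c * (l.map f).prod = if i ∈ l then -((l.map f).prod * c) else (l.map f).prod * c
  | [], _ => by simp
  | j :: l, hl => by
    obtain ⟨hjl, hl'⟩ := List.nodup_cons.1 hl
    have ih := prod_anticomm f i hi hne l hl'
    rw [List.map_cons, List.prod_cons, ← mul_assoc]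
    rcases eq_or_ne j i with rfl | hji
    · rw [hi, neg_mul, mul_assoc, ih, if_neg hjl, if_pos (List.mem_cons_self), mul_assoc]
    · rw [hne j hji, mul_assoc, ih]
      by_cases hm : i ∈ l
      · rw [if_pos hm, if_pos (List.mem_cons_of_mem _ hm), mul_neg, mul_assoc]
      · rw [if_neg hm, if_neg (by simp [List.mem_cons, hm, Ne.symm hji]), mul_assoc]

theorem prod_sq (f : ι' → A) (hsq : ∀ i, f i * f i = 1) (hc : ∀ i j, Commute (f i) (f j)) :
    ∀ l : List ι', (l.map f).prod * (l.map f).prod = 1
  | [] => by simp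
  | j :: l => by
    have hcomm : Commute (f j) (l.map f).prod := by
      refine Commute.list_prod_right _ _ fun x hx => ?_
      obtain ⟨k, _, rfl⟩ := List.mem_map.1 hx
      exact hc j k
    rw [List.map_cons, List.prod_cons, hcomm.symm.mul_mul_mul_comm, hsq, one_mul, prod_sq f hsq hc l]

end Pair

section Split

theorem splitForm_apply_even (R : Type u) [CommRing R] (m : ℕ) (x : Fin (m * 2) → R) :
    QuadGrp.splitForm R (m * 2) x =
      ∑ i : Fin m, x (finProdFinEquiv (i, 0)) * x (finProdFinEquiv (i, 1)) := by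
  have h0 : m * 2 % 2 = 0 := by omega
  rw [QuadGrp.splitForm, dif_neg (by omega), add_zero, QuadraticMap.sum_apply]
  refine Fintype.sum_equiv (finCongr (by omega)) _ _ fun i => ?_
  simp only [QuadraticMap.linMulLin_apply, LinearMap.proj_apply]
  congr 2 <;> ext <;> simp [h0] <;> omega

theorem split_single (R : Type u) [CommRing R] (m : ℕ) (i : Fin m) (s : Fin 2) :
    QuadGrp.splitForm R (m * 2) (Pi.single (finProdFinEquiv (i, s)) 1) = 0 := by
  rw [splitForm_apply_even]
  refine Finset.sum_eq_zero fun j _ => ?_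
  simp only [Pi.single_apply, EmbeddingLike.apply_eq_iff_eq, Prod.mk.injEq]
  fin_cases s <;> simp

theorem split_polar (R : Type u) [CommRing R] (m : ℕ) (i j : Fin m) (s t : Fin 2) :
    QuadraticMap.polar (QuadGrp.splitForm R (m * 2)) (Pi.single (finProdFinEquiv (i, s)) 1)
      (Pi.single (finProdFinEquiv (j, t)) 1) = if i = j ∧ s ≠ t then 1 else 0 := by
  rw [QuadraticMap.polar, split_single, split_single, splitForm_apply_even]
  simp only [sub_zero, Pi.add_apply, Pi.single_apply, EmbeddingLike.apply_eq_iff_eq, Prod.mk.injEq]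
  rcases eq_or_ne i j with rfl | hij
  · fin_cases s <;> fin_cases t <;> simp
  · fin_cases s <;> fin_cases t <;> simp [hij, Ne.symm hij]

theorem split_main (R : Type u) [CommRing R] (m : ℕ) :
    let Q := QuadGrp.splitForm R (m * 2)
    let e : Fin (m * 2) → CliffordAlgebra Q := fun j => CliffordAlgebra.ι Q (Pi.single j 1)
    let w : CliffordAlgebra Q :=
      ((List.finRange m).map fun i => 1 - 2 * (e (finProdFinEquiv (i, 0)) * e (finProdFinEquiv (i, 1)))).prod
    w * w = 1 ∧ ∀ j : Fin (m * 2), e j * w = -(w * e j) := by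
  intro Q e w
  have hs : ∀ i s, e (finProdFinEquiv (i, s)) * e (finProdFinEquiv (i, s)) = 0 :=
    fun i s => ι_sq_zero Q (split_single R m i s)
  have h1 : ∀ i, e (finProdFinEquiv (i, 1)) * e (finProdFinEquiv (i, 0)) =
      1 - e (finProdFinEquiv (i, 0)) * e (finProdFinEquiv (i, 1)) :=
    fun i => ι_swap_one Q (by rw [split_polar, if_pos ⟨rfl, by decide⟩])
  have ho : ∀ i j s t, i ≠ j → e (finProdFinEquiv (j, t)) * e (finProdFinEquiv (i, s)) =
      -(e (finProdFinEquiv (i, s)) * e (finProdFinEquiv (j, t))) :=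
    fun i j s t hij => ι_swap_orth Q (by rw [split_polar, if_neg (fun h => hij h.1)])
  set f : Fin m → CliffordAlgebra Q :=
    fun i => 1 - 2 * (e (finProdFinEquiv (i, 0)) * e (finProdFinEquiv (i, 1))) with hf
  have hcross : ∀ i s j, j ≠ i →
      e (finProdFinEquiv (i, s)) * f j = f j * e (finProdFinEquiv (i, s)) :=
    fun i s j hji => pair_other (ho i j s 0 (Ne.symm hji)) (ho i j s 1 (Ne.symm hji))
  refine ⟨prod_sq f (fun i => pair_sq (hs i 0) (hs i 1) (h1 i)) (fun i j => ?_) _, fun k => ?_⟩
  · rcases eq_or_ne i j with rfl | hij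
    · exact Commute.refl _
    · refine Commute.sub_left (Commute.one_left _) (Commute.mul_left ?_ (Commute.mul_left ?_ ?_))
      · exact (Commute.ofNat_left 2 _)
      · exact hcross i 0 j (Ne.symm hij)
      · exact hcross i 1 j (Ne.symm hij)
  · obtain ⟨⟨i, s⟩, rfl⟩ := finProdFinEquiv.surjective k
    rw [prod_anticomm f i ?_ (hcross i s) _ (List.nodup_finRange m), if_pos (List.mem_finRange i)]
    fin_cases s
    · exact pair_left (hs i 0) (h1 i)
    · exact pair_right (hs i 1) (h1 i)

end Split

end Groth.Agent.CliffSm
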