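import Groth.Agent.CliffSm.Frame
import Groth.Agent.CliffSm.OddSolve
import Groth.Agent.CliffSm.SplitRel
import Mathlib.LinearAlgebra.ExteriorAlgebra.Basic
import Mathlib.LinearAlgebra.CliffordAlgebra.Conjugation
import Mathlib.RingTheory.LocalRing.MaximalIdeal.Basic
import Mathlib.Algebra.Algebra.Subalgebra.Lattice
import Mathlib.LinearAlgebra.TensorProduct.Basic

/-!
# The centre of the Clifford algebra of a semiregular form of odd rank
-/

set_option autoImplicit false
noncomputable section

universe u v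

open CliffordAlgebra QuadraticMap TensorProduct

namespace Groth.Agent.CliffSm

variable {R : Type u} [CommRing R] {M : Type v} [AddCommGroup M] [Module R M] {Q : QuadraticForm R M}

/-- The element of a plane anticommuting with it. -/
def plElt (Q : QuadraticForm R M) (x y : M) : CliffordAlgebra Q := ι Q x * ι Q y - ι Q y * ι Q x

theorem plElt_mem (x y : M) : plElt Q x y ∈ evenOdd Q 0 :=
  sub_mem (ι_mul_ι_mem_evenOdd_zero Q x y) (ι_mul_ι_mem_evenOdd_zero Q y x)

theorem plElt_left (x y : M) : ι Q x * plElt Q x y = -(plElt Q x y * ι Q x) := by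
  simp only [plElt, mul_sub, sub_mul, mul_assoc, ι_sq_scalar]
  rw [← mul_assoc (ι Q x) (ι Q x) (ι Q y), ι_sq_scalar, Algebra.commutes]
  abel

theorem plElt_right (x y : M) : ι Q y * plElt Q x y = -(plElt Q x y * ι Q y) := by
  simp only [plElt, mul_sub, sub_mul, mul_assoc, ι_sq_scalar]
  rw [← mul_assoc (ι Q y) (ι Q y) (ι Q x), ι_sq_scalar, Algebra.commutes]
  abel

theorem plElt_comm {x y z : M} (hx : polar Q x z = 0) (hy : polar Q y z = 0) :
    ι Q z * plElt Q x y = plElt Q x y * ι Q z := by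
  have e : ∀ a c : M, polar Q a z = 0 → polar Q c z = 0 → ι Q z * (ι Q a * ι Q c) = ι Q a * ι Q c * ι Q z := by
    intro a c ha hc
    rw [← mul_assoc, ι_swap_orth Q ha, neg_mul, mul_assoc, ι_swap_orth Q hc, mul_neg, neg_neg, mul_assoc]
  simp only [plElt, mul_sub, sub_mul, e x y hx hy, e y x hy hx]

theorem plElt_sq (x y : M) : plElt Q x y * plElt Q x y = algebraMap R _ (plDisc Q x y) := by
  have h1 : plElt Q x y = 2 • (ι Q x * ι Q y) - algebraMap R _ (polar Q x y) := by
    rw [plElt, ι_mul_ι_comm (Q := Q) y x, QuadraticMap.polar_comm Q y x, two_nsmul]; abel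
  have hyx : ∀ t, ι Q y * (ι Q x * t) = polar Q x y • t - ι Q x * (ι Q y * t) := fun t => by
    rw [← mul_assoc, ι_mul_ι_comm (Q := Q) y x, QuadraticMap.polar_comm Q y x, sub_mul, ← Algebra.smul_def,
      mul_assoc]
  have hxx : ∀ t, ι Q x * (ι Q x * t) = Q x • t := fun t => by
    rw [← mul_assoc, ι_sq_scalar, ← Algebra.smul_def]
  have hyy : ι Q y * ι Q y = Q y • 1 := by rw [ι_sq_scalar, Algebra.algebraMap_eq_smul_one]
  have hxx1 : ι Q x * ι Q x = Q x • 1 := by rw [ι_sq_scalar, Algebra.algebraMap_eq_smul_one]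
  simp only [h1, Algebra.algebraMap_eq_smul_one, sub_mul, mul_sub, smul_mul_assoc, mul_smul_comm, one_mul,
    mul_one, mul_assoc, hyx, hxx, hxx1, hyy, plDisc]
  module

variable {m : ℕ}

/-- The central element of a frame. -/
def frameElt (Q : QuadraticForm R M) (u v : Fin m → M) (w : M) : CliffordAlgebra Q :=
  ι Q w * ((List.finRange m).map fun i => plElt Q (u i) (v i)).prod

variable {u v : Fin m → M} {w : M}

theorem plProd_mem (l : List (Fin m)) : (l.map fun i => plElt Q (u i) (v i)).prod ∈ evenOdd Q 0 := by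
  induction l with
  | nil => simpa using SetLike.one_mem_graded (evenOdd Q)
  | cons i l ih =>
    rw [List.map_cons, List.prod_cons]
    simpa using SetLike.mul_mem_graded (plElt_mem (Q := Q) (u i) (v i)) ih

theorem frameElt_mem (u v : Fin m → M) (w : M) : frameElt Q u v w ∈ evenOdd Q 1 := by
  simpa [frameElt] using SetLike.mul_mem_graded (ι_mem_evenOdd_one Q w) (plProd_mem (u := u) (v := v) _)

theorem plProd_comm_w (h : IsFrame Q u v w) :
    Commute (ι Q w) ((List.finRange m).map fun i => plElt Q (u i) (v i)).prod := by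
  refine Commute.list_prod_right _ _ fun x hx => ?_
  obtain ⟨i, _, rfl⟩ := List.mem_map.1 hx
  exact plElt_comm (h.uw i) (h.vw i)

theorem frameElt_commute (h : IsFrame Q u v w) (k : (Fin m ⊕ Fin m) ⊕ Unit) :
    ι Q (fam u v w k) * frameElt Q u v w = frameElt Q u v w * ι Q (fam u v w k) := by
  have key : ∀ (i : Fin m) (x : M), polar Q w x = 0 → ι Q x * plElt Q (u i) (v i) = -(plElt Q (u i) (v i) * ι Q x) →
      (∀ j, j ≠ i → polar Q (u j) x = 0 ∧ polar Q (v j) x = 0) →
      ι Q x * frameElt Q u v w = frameElt Q u v w * ι Q x := by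
    intro i x hw hi hne
    rw [frameElt, ← mul_assoc, ι_swap_orth Q hw, neg_mul, mul_assoc,
      prod_anticomm (fun i => plElt Q (u i) (v i)) i hi (fun j hj => plElt_comm (hne j hj).1 (hne j hj).2)
        _ (List.nodup_finRange m), if_pos (List.mem_finRange i), mul_neg, neg_neg, ← mul_assoc]
  rcases k with (i | i) | ⟨⟩
  · exact key i (u i) (by rw [QuadraticMap.polar_comm]; exact h.uw i) (plElt_left _ _)
      fun j hj => ⟨h.uu j i hj, h.vu _ j i hj⟩
  · exact key i (v i) (by rw [QuadraticMap.polar_comm]; exact h.vw i) (plElt_right _ _)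
      fun j hj => ⟨h.uv j i hj, h.vv j i hj⟩
  · show ι Q w * (ι Q w * _) = ι Q w * _ * ι Q w
    rw [mul_assoc (ι Q w), (plProd_comm_w h).eq]

theorem plProd_sq (h : IsFrame Q u v w) : ∀ l : List (Fin m),
    (l.map fun i => plElt Q (u i) (v i)).prod * (l.map fun i => plElt Q (u i) (v i)).prod =
      algebraMap R _ (l.map fun i => plDisc Q (u i) (v i)).prod
  | [] => by simp
  | i :: l => by
    have hc : Commute (plElt Q (u i) (v i)) (l.map fun j => plElt Q (u j) (v j)).prod := by
      refine Commute.list_prod_right _ _ fun x hx => ?_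
      obtain ⟨j, _, rfl⟩ := List.mem_map.1 hx
      rcases eq_or_ne i j with rfl | hij
      · exact Commute.refl _
      · exact Commute.sub_left
          (Commute.mul_left (plElt_comm (h.uu j i (Ne.symm hij)) (h.vu _ j i (Ne.symm hij)))
            (plElt_comm (h.uv j i (Ne.symm hij)) (h.vv j i (Ne.symm hij))))
          (Commute.mul_left (plElt_comm (h.uv j i (Ne.symm hij)) (h.vv j i (Ne.symm hij)))
            (plElt_comm (h.uu j i (Ne.symm hij)) (h.vu _ j i (Ne.symm hij))))
    simp only [List.map_cons, List.prod_cons]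
    rw [hc.symm.mul_mul_mul_comm, plElt_sq, plProd_sq h l, ← map_mul]

theorem frameElt_sq (h : IsFrame Q u v w) :
    frameElt Q u v w * frameElt Q u v w =
      algebraMap R _ (Q w * ∏ i, plDisc Q (u i) (v i)) := by
  rw [frameElt, (plProd_comm_w h).symm.mul_mul_mul_comm, ι_sq_scalar, plProd_sq h, ← map_mul,
    ← List.ofFn_eq_map, List.prod_ofFn]

theorem mem_center_of_commute {z : CliffordAlgebra Q} (hz : ∀ x, ι Q x * z = z * ι Q x) :
    z ∈ Subalgebra.center R (CliffordAlgebra Q) := by
  rw [Subalgebra.mem_center_iff]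
  intro y
  induction y using CliffordAlgebra.induction with
  | algebraMap r => exact Algebra.commutes r z
  | ι x => exact hz x
  | mul a c ha hc => rw [mul_assoc, hc, ← mul_assoc, ha, mul_assoc]
  | add a c ha hc => rw [add_mul, mul_add, ha, hc]

/-- Over any base, a scaled central element of a frame. -/
theorem det_smul_frameElt (c : Module.Basis ((Fin m ⊕ Fin m) ⊕ Unit) R M) (h : IsFrame Q u v w) :
    (c.toMatrix (fam u v w)).det • frameElt Q u v w ∈ Subalgebra.center R (CliffordAlgebra Q) := by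
  refine mem_center_of_commute fun x => ?_
  have hx : (c.toMatrix (fam u v w)).det • x ∈ LinearMap.ker
      ((LinearMap.mulRight R (frameElt Q u v w)) ∘ₗ ι Q - (LinearMap.mulLeft R (frameElt Q u v w)) ∘ₗ ι Q) := by
    refine (Submodule.span_le.2 ?_) (det_smul_mem c x)
    rintro _ ⟨k, rfl⟩
    simp [frameElt_commute h k]
  simp only [LinearMap.mem_ker, LinearMap.sub_apply, LinearMap.comp_apply, LinearMap.mulRight_apply,
    LinearMap.mulLeft_apply, map_smul, sub_eq_zero, smul_mul_assoc, mul_smul_comm] at hx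
  rw [mul_smul_comm, smul_mul_assoc, ← sub_eq_zero, ← smul_sub]
  exact hx

section Semiregular

variable [Module.Free R M] (b : Module.Basis (Fin (2 * m + 1)) R M) (Q)
  (hu : IsUnit (QuadGrp.halfDisc b (LinearEquiv.refl R R) Q))

theorem card_famIdx : Fintype.card ((Fin m ⊕ Fin m) ⊕ Unit) = 2 * m + 1 := by
  simp; omega

/-- The basis reindexed by the frame indices. -/
def famBasis : Module.Basis ((Fin m ⊕ Fin m) ⊕ Unit) R M :=
  b.reindex (Fintype.equivFinOfCardEq (card_famIdx (m := m))).symm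

include hu in
theorem exists_central_at (p : Ideal R) [p.IsPrime] :
    ∃ z ∈ Subalgebra.center R (CliffordAlgebra Q), z ∈ evenOdd Q 1 ∧
      ∃ r ∉ p, z * z = algebraMap R _ r := by
  obtain ⟨u, v, w, h, hd, _, hw⟩ := exists_frame_at Q m b hu p
  set c := famBasis b
  set d := (c.toMatrix (fam u v w)).det
  refine ⟨d • frameElt Q u v w, det_smul_frameElt c h, Submodule.smul_mem _ _ (frameElt_mem u v w),
    d * d * (Q w * ∏ i, plDisc Q (u i) (v i)), fun hm => ?_, ?_⟩
  · have hdp := det_fam_notMem Q c h p hd hw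
    rcases Ideal.IsPrime.mem_or_mem inferInstance hm with hm | hm
    · exact (Ideal.IsPrime.mem_or_mem inferInstance hm).elim hdp hdp
    · rcases Ideal.IsPrime.mem_or_mem inferInstance hm with hm | hm
      · exact hw hm
      · obtain ⟨i, _, hi⟩ := (Ideal.IsPrime.prod_mem_iff (p := p)).1 hm
        exact hd i hi
  · rw [smul_mul_assoc, mul_smul_comm, smul_smul, frameElt_sq h, Algebra.smul_def, ← map_mul]

include hu in
theorem exists_central_partition : ∃ (N : ℕ) (a : Fin N → R) (z : Fin N → CliffordAlgebra Q),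
    (∀ i, z i ∈ Subalgebra.center R (CliffordAlgebra Q) ∧ z i ∈ evenOdd Q 1) ∧
      ∑ i, a i • (z i * z i) = 1 := by
  classical
  let S : Set R := {r | ∃ z ∈ Subalgebra.center R (CliffordAlgebra Q), z ∈ evenOdd Q 1 ∧
    z * z = algebraMap R _ r}
  have h1 : (1 : R) ∈ Submodule.span R S := by
    by_contra h
    obtain ⟨p, hp, hle⟩ := Ideal.exists_le_maximal (Submodule.span R S)
      (fun ht => h (by rw [ht]; trivial))
    have : p.IsPrime := hp.isPrime
    obtain ⟨z, hz, hz1, r, hr, hzr⟩ := exists_central_at Q b hu p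
    exact hr (hle (Submodule.subset_span ⟨z, hz, hz1, hzr⟩))
  obtain ⟨N, a, g, hag⟩ := Submodule.mem_span_set'.1 h1
  choose z hz hz1 hzr using fun i => (g i).2
  refine ⟨N, a, z, fun i => ⟨hz i, hz1 i⟩, ?_⟩
  rw [← map_one (algebraMap R (CliffordAlgebra Q)), ← hag, map_sum]
  exact Finset.sum_congr rfl fun i _ => by rw [hzr, Algebra.smul_def, smul_eq_mul, map_mul]

theorem part_ι_mul (i : ZMod 2) (x : M) (z : CliffordAlgebra Q) :
    part Q (i + 1) (ι Q x * z) = ι Q x * part Q i z ∧ part Q (i + 1) (z * ι Q x) = part Q i z * ι Q x := by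
  have hz := part_add Q z
  have hi : i = 0 ∨ i = 1 := by revert i; decide
  have key : ∀ (j : ZMod 2) (y : CliffordAlgebra Q), y ∈ evenOdd Q j →
      part Q (i + 1) (ι Q x * y) = (if j = i then ι Q x * y else 0) ∧
      part Q (i + 1) (y * ι Q x) = (if j = i then y * ι Q x else 0) := by
    intro j y hy
    have h1 : ι Q x * y ∈ evenOdd Q (j + 1) := by
      rw [add_comm]; exact SetLike.mul_mem_graded (ι_mem_evenOdd_one Q x) hy
    have h2 : y * ι Q x ∈ evenOdd Q (j + 1) := SetLike.mul_mem_graded hy (ι_mem_evenOdd_one Q x)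
    split_ifs with hji
    · subst hji; exact ⟨part_of_mem Q h1, part_of_mem Q h2⟩
    · have : j + 1 ≠ i + 1 := fun e => hji (add_right_cancel e)
      exact ⟨part_of_mem_ne Q h1 this, part_of_mem_ne Q h2 this⟩
  have h0 := key 0 _ (part_mem Q 0 z)
  have h1 := key 1 _ (part_mem Q 1 z)
  constructor <;> nth_rewrite 1 [← hz]
  · rw [mul_add, map_add, h0.1, h1.1]; rcases hi with rfl | rfl <;> simp
  · rw [add_mul, map_add, h0.2, h1.2]; rcases hi with rfl | rfl <;> simp

theorem part_mem_center {z : CliffordAlgebra Q} (hz : z ∈ Subalgebra.center R (CliffordAlgebra Q)) (i : ZMod 2) :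
    part Q i z ∈ Subalgebra.center R (CliffordAlgebra Q) :=
  mem_center_of_commute fun x => by
    rw [← (part_ι_mul Q i x z).1, ← (part_ι_mul Q i x z).2, Subalgebra.mem_center_iff.1 hz]

variable [Module.Finite R M]

include hu in
theorem even_center_scalar : ∀ z ∈ Subalgebra.center R (CliffordAlgebra Q), z ∈ evenOdd Q 0 →
    z ∈ (algebraMap R (CliffordAlgebra Q)).range := by
  intro z hz hev
  obtain ⟨r, hr⟩ := exists_scalar_of_killed b (adjIdeal_eq_top b ⟨m, rfl⟩ hu) hev fun x => by
    rw [contractLeft_polar_even Q hev, Subalgebra.mem_center_iff.1 hz, sub_self]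
  exact ⟨r, hr.symm⟩

include hu in
theorem mul_center_scalar {z z' : CliffordAlgebra Q}
    (hz : z ∈ Subalgebra.center R (CliffordAlgebra Q)) (hz1 : z ∈ evenOdd Q 1)
    (hz' : z' ∈ Subalgebra.center R (CliffordAlgebra Q)) (hz'1 : z' ∈ evenOdd Q 1) :
    ∃ r : R, z * z' = algebraMap R _ r := by
  obtain ⟨r, hr⟩ := even_center_scalar Q b hu _ (mul_mem hz hz') (by
    simpa [show (1 : ZMod 2) + 1 = 0 by rfl] using SetLike.mul_mem_graded hz1 hz'1)
  exact ⟨r, hr.symm⟩

include hu in
theorem mul_even_bijective : Function.Bijective (TensorProduct.lift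
    (((LinearMap.mul R (CliffordAlgebra Q)).comp
      (Subalgebra.center R (CliffordAlgebra Q)).val.toLinearMap).compl₂
        (CliffordAlgebra.even Q).val.toLinearMap)) := by
  obtain ⟨N, a, z, hz, hsum⟩ := exists_central_partition Q b hu
  set μ := TensorProduct.lift
    (((LinearMap.mul R (CliffordAlgebra Q)).comp
      (Subalgebra.center R (CliffordAlgebra Q)).val.toLinearMap).compl₂
        (CliffordAlgebra.even Q).val.toLinearMap)
  have hμ : ∀ c e, μ (c ⊗ₜ[R] e) = (c : CliffordAlgebra Q) * (e : CliffordAlgebra Q) := fun c e => rfl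
  let p0 : CliffordAlgebra Q →ₗ[R] CliffordAlgebra.even Q :=
    (part Q 0).codRestrict (CliffordAlgebra.even Q).toSubmodule (fun x => part_mem Q 0 x)
  let ν : CliffordAlgebra Q →ₗ[R] Subalgebra.center R (CliffordAlgebra Q) ⊗[R] CliffordAlgebra.even Q :=
    (TensorProduct.mk R _ _ 1) ∘ₗ p0 +
      ∑ i, a i • ((TensorProduct.mk R _ _ ⟨z i, (hz i).1⟩) ∘ₗ p0 ∘ₗ LinearMap.mulLeft R (z i) ∘ₗ part Q 1)
  have hν : ∀ x, ν x = 1 ⊗ₜ p0 x + ∑ i, a i • ((⟨z i, (hz i).1⟩ : Subalgebra.center R _) ⊗ₜ[R]
      p0 (z i * part Q 1 x)) := fun x => by simp [ν]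
  have heven : ∀ i x, z i * part Q 1 x ∈ evenOdd Q 0 := fun i x => by
    simpa [show (1 : ZMod 2) + 1 = 0 by rfl] using SetLike.mul_mem_graded (hz i).2 (part_mem Q 1 x)
  have hp0 : ∀ x, (p0 x : CliffordAlgebra Q) = part Q 0 x := fun _ => rfl
  refine ⟨Function.LeftInverse.injective (g := ν) fun t => ?_, fun x => ⟨ν x, ?_⟩⟩
  · suffices ν ∘ₗ μ = LinearMap.id from congr($this t)
    refine TensorProduct.ext' fun c e => ?_
    rw [LinearMap.comp_apply, LinearMap.id_apply, hμ, hν]
    have hc0 := part_mem_center Q c.2 0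
    have hc1 := part_mem_center Q c.2 1
    obtain ⟨r, hr⟩ := even_center_scalar Q b hu _ hc0 (part_mem Q 0 _)
    choose s hs using fun i => mul_center_scalar Q b hu (hz i).1 (hz i).2 hc1 (part_mem Q 1 _)
    have he : (e : CliffordAlgebra Q) ∈ evenOdd Q 0 := e.2
    have hsplit : (c : CliffordAlgebra Q) * e =
        part Q 0 (c : CliffordAlgebra Q) * e + part Q 1 (c : CliffordAlgebra Q) * e := by
      rw [← add_mul, part_add]
    have hm0 : part Q 0 (c : CliffordAlgebra Q) * e ∈ evenOdd Q 0 := by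
      simpa using SetLike.mul_mem_graded (part_mem Q 0 (c : CliffordAlgebra Q)) he
    have hm1 : part Q 1 (c : CliffordAlgebra Q) * e ∈ evenOdd Q 1 := by
      simpa using SetLike.mul_mem_graded (part_mem Q 1 (c : CliffordAlgebra Q)) he
    have e0 : p0 ((c : CliffordAlgebra Q) * e) = r • e := by
      refine Subtype.ext ?_
      rw [hp0, hsplit, map_add, part_of_mem Q hm0, part_of_mem_ne Q hm1 (by decide), add_zero, ← hr]
      exact (Algebra.smul_def r _).symm
    have e1 : ∀ i, p0 (z i * part Q 1 ((c : CliffordAlgebra Q) * e)) = s i • e := fun i => by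
      refine Subtype.ext ?_
      rw [hp0, part_of_mem Q (heven i _), hsplit, map_add, part_of_mem_ne Q hm0 (by decide),
        part_of_mem Q hm1, zero_add, ← mul_assoc, hs i]
      exact (Algebra.smul_def (s i) _).symm
    simp only [e0, e1, TensorProduct.tmul_smul, TensorProduct.smul_tmul', ← smul_assoc,
      ← TensorProduct.sum_tmul, ← TensorProduct.add_tmul]
    congr 1
    refine Subtype.ext ?_
    simp only [AddMemClass.coe_add, SetLike.val_smul, OneMemClass.coe_one,
      AddSubmonoidClass.coe_finsetSum, smul_eq_mul]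
    conv_rhs => rw [← part_add Q (c : CliffordAlgebra Q)]
    rw [← hr, Algebra.algebraMap_eq_smul_one]
    congr 1
    conv_rhs => rw [← one_mul (part Q 1 (c : CliffordAlgebra Q)), ← hsum, Finset.sum_mul]
    refine Finset.sum_congr rfl fun i _ => ?_
    rw [smul_mul_assoc, mul_assoc, hs i, ← Algebra.commutes, ← Algebra.smul_def, smul_smul, mul_comm (a i)]
  · simp only [hν, map_add, map_sum, map_smul, hμ, hp0, OneMemClass.coe_one, one_mul]
    conv_rhs => rw [← part_add Q x, ← one_mul (part Q 1 x), ← hsum, Finset.sum_mul]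
    congr 1
    refine Finset.sum_congr rfl fun i _ => ?_
    rw [part_of_mem Q (heven i _), smul_mul_assoc, mul_assoc]

omit [Module.Finite R M] in
theorem ι_isCompl : Function.Injective (ι Q) ∧
    ∃ W : Submodule R (CliffordAlgebra Q), IsCompl (LinearMap.range (ι Q)) W := by
  refine ⟨ι_injective Q, LinearMap.ker (ExteriorAlgebra.ιInv ∘ₗ (toExt Q).toLinearMap), ?_⟩
  have h : ∀ x, (ExteriorAlgebra.ιInv ∘ₗ (toExt Q).toLinearMap) (ι Q x) = x := fun x => by
    show ExteriorAlgebra.ιInv (toExt Q (ι Q x)) = x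
    rw [toExt_ι]; exact ExteriorAlgebra.ι_leftInverse x
  refine IsCompl.of_eq ?_ ?_
  · rw [Submodule.eq_bot_iff]
    rintro _ ⟨⟨x, rfl⟩, hx⟩
    have : x = 0 := (h x).symm.trans (LinearMap.mem_ker.1 hx)
    rw [this, map_zero]
  · rw [eq_top_iff]
    intro y _
    rw [← add_sub_cancel (ι Q ((ExteriorAlgebra.ιInv ∘ₗ (toExt Q).toLinearMap) y)) y]
    exact Submodule.add_mem_sup ⟨_, rfl⟩ (by rw [LinearMap.mem_ker, map_sub, h, sub_self])

include hu in
theorem centre_local [IsLocalRing R] : ∃ z : CliffordAlgebra Q,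
    z ∈ Subalgebra.center R (CliffordAlgebra Q) ∧ z ∈ evenOdd Q 1 ∧ IsUnit z ∧
      z * z ∈ (algebraMap R (CliffordAlgebra Q)).range ∧
      LinearIndependent R ![(1 : CliffordAlgebra Q), z] ∧
      Subalgebra.toSubmodule (Subalgebra.center R (CliffordAlgebra Q)) = Submodule.span R {1, z} := by
  obtain ⟨z, hz, hz1, r, hr, hzr⟩ := exists_central_at Q b hu (IsLocalRing.maximalIdeal R)
  have hru : IsUnit r := by simpa [IsLocalRing.mem_maximalIdeal] using hr
  obtain ⟨ru, rfl⟩ := hru
  have hzinv : (↑ru⁻¹ : R) • (z * z) = 1 := by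
    rw [hzr, Algebra.smul_def, ← map_mul, Units.inv_mul, map_one]
  have hzu : IsUnit z :=
    ⟨⟨z, (↑ru⁻¹ : R) • z, by rw [mul_smul_comm, hzinv], by rw [smul_mul_assoc, hzinv]⟩, rfl⟩
  refine ⟨z, hz, hz1, hzu, ⟨_, hzr.symm⟩, ?_, le_antisymm (fun c hc => ?_) ?_⟩
  · rw [LinearIndependent.pair_iff]
    intro s t hst
    have h1 := congrArg (part Q 1) hst
    rw [map_add, map_smul, map_smul, part_of_mem Q hz1,
      part_of_mem_ne Q (SetLike.one_mem_graded (evenOdd Q)) zero_ne_one, smul_zero, zero_add, map_zero] at h1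
    have ht : t = 0 := by
      have h2 := congrArg (fun y => (↑ru⁻¹ : R) • (y * z)) h1
      simp only [smul_mul_assoc, zero_mul, smul_zero] at h2
      rw [smul_comm, hzinv, ← Algebra.algebraMap_eq_smul_one] at h2
      exact algebraMap_injective Q (h2.trans (map_zero _).symm)
    rw [ht, zero_smul, add_zero, ← Algebra.algebraMap_eq_smul_one] at hst
    exact ⟨algebraMap_injective Q (hst.trans (map_zero _).symm), ht⟩
  · obtain ⟨s, hs⟩ := even_center_scalar Q b hu _ (part_mem_center Q hc 0) (part_mem Q 0 c)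
    obtain ⟨t, ht⟩ := mul_center_scalar Q b hu hz hz1 (part_mem_center Q hc 1) (part_mem Q 1 c)
    have h1 : part Q 1 c = ((↑ru⁻¹ : R) * t) • z := by
      rw [← one_mul (part Q 1 c), ← hzinv, smul_mul_assoc, mul_assoc, ht, ← Algebra.commutes, ← Algebra.smul_def,
        smul_smul]
    rw [← part_add Q c, h1, ← hs, Algebra.algebraMap_eq_smul_one]
    exact Submodule.mem_span_pair.2 ⟨_, _, rfl⟩
  · rw [Submodule.span_le]
    rintro _ (rfl | rfl)
    exacts [one_mem (Subalgebra.center R (CliffordAlgebra Q)), hz]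

end Semiregular

end Groth.Agent.CliffSm
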