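import Groth.Agent.CliffSm.Basic
import Groth.Agent.CliffSm.AzumayaInner
import Mathlib.LinearAlgebra.Dual.Lemmas
import Mathlib.RingTheory.FiniteType
import Mathlib.LinearAlgebra.FreeModule.Finite.Matrix

/-!
# Clifford algebras of regular forms are Azumaya
-/

set_option autoImplicit false
noncomputable section

universe u v

open CliffordAlgebra QuadraticMap
open scoped TensorProduct
open MulOpposite

namespace Groth.Agent.CliffSm

variable {R : Type u} [CommRing R] {M : Type v} [AddCommGroup M] [Module R M] {n : ℕ}

section Exterior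

variable (b : Module.Basis (Fin n) R M) (S : Subalgebra R (Module.End R (ExteriorAlgebra R M)))

local notation "Λ" => ExteriorAlgebra R M

/-- Creation. -/
abbrev creat (x : M) : Module.End R Λ := LinearMap.mulLeft R (ExteriorAlgebra.ι R x)

/-- Annihilation. -/
abbrev annih (d : Module.Dual R M) : Module.End R Λ := contractLeft d

theorem annih_creat (d : Module.Dual R M) (x : M) :
    annih d * creat x = d x • 1 - creat x * annih d := by
  refine LinearMap.ext fun z => ?_
  simp only [Module.End.mul_apply, LinearMap.mulLeft_apply, LinearMap.sub_apply, LinearMap.smul_apply,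
    Module.End.one_apply]
  exact contractLeft_ι_mul d x z

/-- The projector of one index. -/
def proj0 (a : Fin n) : Module.End R Λ := annih (b.coord a) * creat (b a)

/-- The projector of a list. -/
def projs (l : List (Fin n)) : Module.End R Λ := (l.map (proj0 b)).prod

theorem annih_annih (d d' : Module.Dual R M) : annih d * annih d' = -(annih d' * annih d) :=
  LinearMap.ext fun z => contractLeft_comm _ _ z

theorem creat_creat (x y : M) : creat (R := R) x * creat y = -(creat y * creat x) := by
  refine LinearMap.ext fun z => ?_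
  simp only [Module.End.mul_apply, LinearMap.mulLeft_apply, LinearMap.neg_apply]
  rw [← mul_assoc, ← mul_assoc, ← neg_mul]
  congr 1
  exact eq_neg_of_add_eq_zero_left (ExteriorAlgebra.ι_add_mul_swap x y)

theorem creat_sq (x : M) : creat (R := R) x * creat x = 0 := by
  refine LinearMap.ext fun z => ?_
  simp only [Module.End.mul_apply, LinearMap.mulLeft_apply, LinearMap.zero_apply, ← mul_assoc,
    ExteriorAlgebra.ι_sq_zero, zero_mul]

theorem annih_sq (d : Module.Dual R M) : annih d * annih d = 0 :=
  LinearMap.ext fun z => contractLeft_contractLeft d z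

theorem commute_proj0 {a c : Fin n} (h : c ≠ a) :
    Commute (proj0 b c) (annih (b.coord a)) ∧ Commute (proj0 b c) (creat (b a)) := by
  have h1 : annih (b.coord a) * creat (b c) = -(creat (b c) * annih (b.coord a)) := by
    rw [annih_creat, Module.Basis.coord_apply, b.repr_self, Finsupp.single_apply, if_neg h, zero_smul, zero_sub]
  have h2 : annih (b.coord c) * creat (b a) = -(creat (b a) * annih (b.coord c)) := by
    rw [annih_creat, Module.Basis.coord_apply, b.repr_self, Finsupp.single_apply, if_neg (Ne.symm h), zero_smul,
      zero_sub]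
  have e1 : ∀ z, annih (b.coord a) (creat (b c) z) = -creat (b c) (annih (b.coord a) z) := fun z =>
    LinearMap.congr_fun h1 z
  have e2 : ∀ z, annih (b.coord c) (creat (b a) z) = -creat (b a) (annih (b.coord c) z) := fun z =>
    LinearMap.congr_fun h2 z
  constructor
  · refine LinearMap.ext fun z => ?_
    show annih (b.coord c) (creat (b c) (annih (b.coord a) z)) =
      annih (b.coord a) (annih (b.coord c) (creat (b c) z))
    rw [show annih (b.coord a) (annih (b.coord c) (creat (b c) z)) =
      -annih (b.coord c) (annih (b.coord a) (creat (b c) z)) from contractLeft_comm _ _ _, e1, map_neg, neg_neg]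
  · refine LinearMap.ext fun z => ?_
    show annih (b.coord c) (creat (b c) (creat (b a) z)) =
      creat (b a) (annih (b.coord c) (creat (b c) z))
    rw [show creat (b c) (creat (b a) z) = -creat (b a) (creat (b c) z) from
      LinearMap.congr_fun (creat_creat (b c) (b a)) z, map_neg, e2, neg_neg]

theorem commute_projs {a : Fin n} (l : List (Fin n)) (h : a ∉ l) :
    Commute (projs b l) (annih (b.coord a)) ∧ Commute (projs b l) (creat (b a)) := by
  induction l with
  | nil => exact ⟨Commute.one_left _, Commute.one_left _⟩
  | cons c l ih =>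
    rw [List.mem_cons, not_or] at h
    obtain ⟨i1, i2⟩ := ih h.2
    obtain ⟨j1, j2⟩ := commute_proj0 b (Ne.symm h.1)
    rw [projs, List.map_cons, List.prod_cons]
    exact ⟨j1.mul_left i1, j2.mul_left i2⟩

theorem projs_algebraMap (l : List (Fin n)) (r : R) :
    projs b l (algebraMap R Λ r) = algebraMap R Λ r := by
  induction l with
  | nil => rfl
  | cons c l ih =>
    rw [projs, List.map_cons, List.prod_cons, ← projs, Module.End.mul_apply, ih, proj0, annih_creat]
    simp [contractLeft_algebraMap]

theorem projs_all (l : List (Fin n)) (hl : l.Nodup) (hall : ∀ a, a ∈ l) (z : Λ) :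
    ∃ r : R, projs b l z = algebraMap R Λ r := by
  have hkill : ∀ c, projs b l * creat (b c) = 0 := by
    intro c
    obtain ⟨l₁, l₂, rfl⟩ := List.append_of_mem (hall c)
    have hc : c ∉ l₂ := fun h => by
      have := (List.nodup_append.1 hl).2.1
      exact (List.nodup_cons.1 this).1 h
    rw [projs, List.map_append, List.map_cons, List.prod_append, List.prod_cons, mul_assoc, mul_assoc,
      show (List.map (proj0 b) l₂).prod = projs b l₂ from rfl,
      (commute_projs b l₂ hc).2.eq, ← mul_assoc (proj0 b c), proj0, mul_assoc (annih _), creat_sq, mul_zero,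
      zero_mul, mul_zero]
  induction z using CliffordAlgebra.left_induction with
  | algebraMap r => exact ⟨r, projs_algebraMap b l r⟩
  | add x y hx hy =>
    obtain ⟨r, hr⟩ := hx
    obtain ⟨t, ht⟩ := hy
    exact ⟨r + t, by rw [map_add, hr, ht, map_add]⟩
  | ι_mul x m _ =>
    refine ⟨0, ?_⟩
    rw [map_zero]
    refine LinearMap.congr_fun (f := projs b l ∘ₗ (LinearMap.mul R Λ).flip x ∘ₗ ExteriorAlgebra.ι R) (g := 0)
      (b.ext fun c => ?_) m
    simpa using congr($(hkill c) x)

variable {S}

theorem projs_span_one (hE : ∀ x, creat x ∈ S) (hD : ∀ d, annih d ∈ S) :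
    ∀ l : List (Fin n), l.Nodup →
      (1 : Module.End R Λ) ∈ Submodule.span R {φ | ∃ s ∈ S, ∃ t ∈ S, φ = s * projs b l * t}
  | [], _ => Submodule.subset_span ⟨1, one_mem S, 1, one_mem S, by simp [projs]⟩
  | a :: l, hl => by
    obtain ⟨hal, hl'⟩ := List.nodup_cons.1 hl
    refine (Submodule.span_le.2 ?_) (projs_span_one hE hD l hl')
    rintro _ ⟨s, hs, t, ht, rfl⟩
    obtain ⟨hcD, hcE⟩ := commute_projs b l hal
    have hsum : proj0 b a + creat (b a) * annih (b.coord a) = 1 := by
      rw [proj0, annih_creat, Module.Basis.coord_apply, b.repr_self, Finsupp.single_eq_same, one_smul,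
        sub_add_cancel]
    have hede : creat (b a) * proj0 b a = creat (b a) := by
      rw [proj0, annih_creat, Module.Basis.coord_apply, b.repr_self, Finsupp.single_eq_same, one_smul, mul_sub,
        mul_one, ← mul_assoc, creat_sq, zero_mul, sub_zero]
    have hsplit : projs b l = projs b (a :: l) + creat (b a) * projs b (a :: l) * annih (b.coord a) := by
      show _ = (List.map (proj0 b) (a :: l)).prod + creat (b a) * (List.map (proj0 b) (a :: l)).prod * _
      rw [List.map_cons, List.prod_cons, ← projs, ← mul_assoc (creat (b a)), hede, mul_assoc (creat (b a)),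
        hcD.eq, ← mul_assoc, ← add_mul, hsum, one_mul]
    rw [hsplit, mul_add, add_mul]
    refine add_mem (Submodule.subset_span ⟨s, hs, t, ht, rfl⟩) (Submodule.subset_span
      ⟨s * creat (b a), mul_mem hs (hE _), annih (b.coord a) * t, mul_mem (hD _) ht, ?_⟩)
    simp only [mul_assoc]

include b in
theorem exterior_end_eq_top (hE : ∀ x, creat x ∈ S) (hD : ∀ d, annih d ∈ S) : S = ⊤ := by
  have hL : ∀ y : Λ, LinearMap.mulLeft R y ∈ S := fun y => by
    induction y using CliffordAlgebra.induction with
    | algebraMap r =>
      have : LinearMap.mulLeft R (algebraMap R Λ r) = algebraMap R (Module.End R Λ) r :=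
        LinearMap.ext fun z => by simp [Algebra.smul_def]
      rw [this]; exact S.algebraMap_mem r
    | ι m => exact hE m
    | mul x y hx hy => rw [LinearMap.mulLeft_mul]; exact mul_mem hx hy
    | add x y hx hy =>
      have : LinearMap.mulLeft R (x + y) = LinearMap.mulLeft R x + LinearMap.mulLeft R y :=
        LinearMap.ext fun z => by simp [add_mul]
      rw [this]; exact add_mem hx hy
  have hP : ∀ l : List (Fin n), projs b l ∈ S := fun l => by
    induction l with
    | nil => exact one_mem S
    | cons a l ih =>
      rw [projs, List.map_cons, List.prod_cons]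
      exact mul_mem (mul_mem (hD _) (hE _)) ih
  rw [eq_top_iff]
  rintro φ -
  have key : ∀ ψ ∈ Submodule.span R {χ | ∃ s ∈ S, ∃ t ∈ S, χ = s * projs b (List.finRange n) * t}, φ * ψ ∈ S := by
    intro ψ hψ
    induction hψ using Submodule.span_induction with
    | mem χ hχ =>
      obtain ⟨s, hs, t, ht, rfl⟩ := hχ
      have : φ * (s * projs b (List.finRange n) * t) =
          LinearMap.mulLeft R (φ (s 1)) * (projs b (List.finRange n) * t) := by
        refine LinearMap.ext fun z => ?_
        obtain ⟨r, hr⟩ := projs_all b _ (List.nodup_finRange n) (List.mem_finRange) (t z)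
        simp only [Module.End.mul_apply, LinearMap.mulLeft_apply, hr]
        rw [Algebra.algebraMap_eq_smul_one, map_smul, map_smul, mul_smul_comm, mul_one]
      rw [this]
      exact mul_mem (hL _) (mul_mem (hP _) ht)
    | zero => simp
    | add x y _ _ hx hy => rw [mul_add]; exact add_mem hx hy
    | smul r x _ hx => rw [mul_smul_comm]; exact Subalgebra.smul_mem S hx r
  have := key 1 (projs_span_one b hE hD _ (List.nodup_finRange n))
  rwa [mul_one] at this

end Exterior

variable [Module.Free R M] [Module.Finite R M] (Q : QuadraticForm R M) (b : Module.Basis (Fin n) R M)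

include b in
/-- The Clifford algebra of a regular form with inner grading is Azumaya. -/
theorem sandwich_bijective (hQ : QuadGrp.IsRegular Q)
    (hinv : (involute : CliffordAlgebra Q →ₐ[R] CliffordAlgebra Q).toLinearMap ∈
      (AlgHom.mulLeftRight R (CliffordAlgebra Q)).range) :
    Function.Bijective (AlgHom.mulLeftRight R (CliffordAlgebra Q)) := by
  set P := AlgHom.mulLeftRight R (CliffordAlgebra Q)
  have hl : ∀ c, LinearMap.mulLeft R c ∈ P.range := fun c =>
    ⟨c ⊗ₜ op 1, LinearMap.ext fun z => by
      show P (c ⊗ₜ op 1) z = _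
      simp [P]⟩
  have hr : ∀ c, LinearMap.mulRight R c ∈ P.range := fun c =>
    ⟨1 ⊗ₜ op c, LinearMap.ext fun z => by
      show P (1 ⊗ₜ op c) z = _
      simp [P]⟩
  have hD : ∀ d, contractLeft (Q := Q) d ∈ P.range := fun d => by
    obtain ⟨x, rfl⟩ := hQ.2 d
    have : contractLeft (Q := Q) (polarBilin Q x) = LinearMap.mulLeft R (ι Q x) -
        LinearMap.mulRight R (ι Q x) * (involute : CliffordAlgebra Q →ₐ[R] CliffordAlgebra Q).toLinearMap :=
      LinearMap.ext fun z => contractLeft_polar Q x z
    rw [this]
    exact sub_mem (hl _) (mul_mem (hr _) hinv)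
  let κ := (toExt Q).conjAlgEquiv R
  have htop : P.range.map κ.toAlgHom = ⊤ := by
    refine exterior_end_eq_top b (fun x => ?_) fun d => ?_
    · refine ⟨LinearMap.mulLeft R (ι Q x) + contractLeft (negLift Q x), add_mem (hl _) (hD _),
        LinearMap.ext fun z => ?_⟩
      show toExt Q (ι Q x * (toExt Q).symm z + contractLeft (negLift Q x) ((toExt Q).symm z)) =
        ExteriorAlgebra.ι R x * z
      rw [map_add]
      have h1 : toExt Q (ι Q x * (toExt Q).symm z) =
          ExteriorAlgebra.ι R x * z - contractLeft (negLift Q x) z := by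
        conv_rhs => rw [← (toExt Q).apply_symm_apply z]
        exact changeForm_ι_mul (negLift_spec Q) x _
      have h2 : toExt Q (contractLeft (negLift Q x) ((toExt Q).symm z)) = contractLeft (negLift Q x) z := by
        conv_rhs => rw [← (toExt Q).apply_symm_apply z]
        exact changeForm_contractLeft (negLift_spec Q) _ _
      rw [h1, h2, sub_add_cancel]
    · refine ⟨contractLeft d, hD d, LinearMap.ext fun z => ?_⟩
      show toExt Q (contractLeft d ((toExt Q).symm z)) = contractLeft d z
      conv_rhs => rw [← (toExt Q).apply_symm_apply z]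
      exact changeForm_contractLeft (negLift_spec Q) _ _
  have hsurj : Function.Surjective P := fun φ => by
    have : κ φ ∈ P.range.map κ.toAlgHom := by rw [htop]; trivial
    obtain ⟨ψ, ⟨t, ht⟩, hψ⟩ := this
    exact ⟨t, (show P t = ψ from ht).trans (κ.injective hψ)⟩
  refine ⟨?_, hsurj⟩
  -- equal ranks
  haveI : Module.Finite R (CliffordAlgebra Q) := inferInstance
  let bC := Module.Free.chooseBasis R (CliffordAlgebra Q)
  let e : Module.End R (CliffordAlgebra Q) ≃ₗ[R] CliffordAlgebra Q ⊗[R] (CliffordAlgebra Q)ᵐᵒᵖ :=
    (bC.linearMap bC).equiv (bC.tensorProduct (bC.map (opLinearEquiv R))) (Equiv.refl _)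
  have hinj := OrzechProperty.injective_of_surjective_endomorphism (P.toLinearMap ∘ₗ e.toLinearMap)
    (hsurj.comp e.surjective)
  intro x y hxy
  obtain ⟨x', rfl⟩ := e.surjective x
  obtain ⟨y', rfl⟩ := e.surjective y
  rw [hinj hxy]

end Groth.Agent.CliffSm
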