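import Groth.Agent.CliffSm.Frame
import Groth.Agent.CliffSm.OddCentre
import Groth.Agent.CliffSm.Sandwich
import Groth.Agent.QuadSm.NaiveSO

/-!
# Regular forms of even rank
-/

set_option autoImplicit false
noncomputable section

universe u v

open CliffordAlgebra QuadraticMap
open Groth.Agent.QuadCentre (polA)
open scoped TensorProduct

namespace Groth.Agent.CliffSm

variable {R : Type u} [CommRing R] {M : Type v} [AddCommGroup M] [Module R M] {Q : QuadraticForm R M}

theorem nondeg_residue_regular [Module.Free R M] {n : ℕ} (b : Module.Basis (Fin n) R M) (hQ : QuadGrp.IsRegular Q)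
    (p : Ideal R) [p.IsPrime] : Nondegenerate (Q := QuadGrp.baseChangeForm p.ResidueField Q) := by
  classical
  set K := p.ResidueField
  set QK := QuadGrp.baseChangeForm K Q
  have hdet : (polA (tableOf (Q := QK) (b.baseChange K))).det ≠ 0 := by
    have hmap : polA (tableOf (Q := QK) (b.baseChange K)) = (polA (tableOf (Q := Q) b)).map (algebraMap R K) := by
      ext i j
      simp only [QK, tableOf_baseChange b Q, polA, Matrix.of_apply, Matrix.map_apply, Function.comp_apply]
      split_ifs <;> simp [map_ofNat]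
    rw [hmap, ← RingHom.mapMatrix_apply, ← RingHom.map_det]
    exact ((Groth.Agent.QuadSm.isUnit_polA_coeffs b Q hQ).map _).ne_zero
  have hker : LinearMap.ker (polarBilin QK) = ⊥ := by
    rw [eq_bot_iff]
    intro x hx
    rw [Submodule.mem_bot]
    by_contra hx0
    refine hdet (Matrix.exists_mulVec_eq_zero_iff.1 ⟨fun r => (b.baseChange K).repr x r, ?_, ?_⟩)
    · exact fun h0 => hx0 ((b.baseChange K).ext_elem fun r => by rw [congrFun h0 r, map_zero]; rfl)
    · funext r
      have h1 : polarBilin QK x (b.baseChange K r) = 0 := by rw [LinearMap.mem_ker.1 hx]; rfl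
      rw [← (b.baseChange K).sum_repr x] at h1
      simp only [map_sum, LinearMap.sum_apply, map_smul, LinearMap.smul_apply, polarBilin_apply_apply,
        smul_eq_mul] at h1
      rw [Pi.zero_apply, ← h1, Matrix.mulVec, dotProduct]
      exact Finset.sum_congr rfl fun c _ => by rw [polA_tableOf, QuadraticMap.polar_comm, mul_comm]
  refine ⟨?_, ?_⟩
  · rw [eq_bot_iff]
    intro x hx
    exact hker.le (QuadraticMap.radical_le_ker_polarBilin (Q := QK) hx)
  · rw [hker, rank_bot]; exact zero_le

section Planes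

variable {k : ℕ} {u v : Fin k → M}

theorem mem_of_planes_sum_mem (h : IsPlanes Q u v) (p : Ideal R) [p.IsPrime]
    (hd : ∀ i, plDisc Q (u i) (v i) ∉ p) {a : Fin k ⊕ Fin k → R}
    (ha : ∑ j, a j • Sum.elim u v j ∈ p • (⊤ : Submodule R M)) : ∀ j, a j ∈ p := by
  have hp : ∀ x ∈ p • (⊤ : Submodule R M), ∀ y, polar Q x y ∈ p := by
    intro x hx
    refine Submodule.smul_induction_on hx (fun r hr y _ z => ?_) (fun x y hx hy z => ?_)
    · rw [QuadraticMap.polar_smul_left, smul_eq_mul]; exact p.mul_mem_right _ hr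
    · rw [QuadraticMap.polar_add_left]; exact add_mem (hx z) (hy z)
  have hB : ∀ y, polar Q (∑ j, a j • Sum.elim u v j) y = ∑ j, a j * polar Q (Sum.elim u v j) y := fun y => by
    rw [← polarBilin_apply_apply, map_sum, LinearMap.sum_apply]
    simp
  have huv : ∀ i, a (.inl i) ∈ p ∧ a (.inr i) ∈ p := by
    intro i
    have h1 := hp _ ha (u i)
    have h2 := hp _ ha (v i)
    rw [hB, Fintype.sum_sum_type,
      Finset.sum_eq_single (s := (Finset.univ : Finset (Fin k))) i
        (fun j _ hj => by simp [h.uu j i hj]) (fun hk => absurd (Finset.mem_univ i) hk),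
      Finset.sum_eq_single (s := (Finset.univ : Finset (Fin k))) i
        (fun j _ hj => by simp [h.vu _ j i hj]) (fun hk => absurd (Finset.mem_univ i) hk)] at h1
    rw [hB, Fintype.sum_sum_type,
      Finset.sum_eq_single (s := (Finset.univ : Finset (Fin k))) i
        (fun j _ hj => by simp [h.uv j i hj]) (fun hk => absurd (Finset.mem_univ i) hk),
      Finset.sum_eq_single (s := (Finset.univ : Finset (Fin k))) i
        (fun j _ hj => by simp [h.vv j i hj]) (fun hk => absurd (Finset.mem_univ i) hk)] at h2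
    simp only [Sum.elim_inl, Sum.elim_inr, polar_self', QuadraticMap.polar_comm Q (v i) (u i)] at h1 h2
    constructor
    · refine (Ideal.IsPrime.mem_or_mem inferInstance
        (show plDisc Q (u i) (v i) * a (.inl i) ∈ p from ?_)).resolve_left (hd i)
      convert sub_mem (p.mul_mem_left (polar Q (u i) (v i)) h2) (p.mul_mem_left (2 * Q (v i)) h1) using 1
      rw [plDisc]; ring
    · refine (Ideal.IsPrime.mem_or_mem inferInstance
        (show plDisc Q (u i) (v i) * a (.inr i) ∈ p from ?_)).resolve_left (hd i)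
      convert sub_mem (p.mul_mem_left (polar Q (u i) (v i)) h1) (p.mul_mem_left (2 * Q (u i)) h2) using 1
      rw [plDisc]; ring
  rintro (i | i)
  exacts [(huv i).1, (huv i).2]

theorem det_planes_notMem (c : Module.Basis (Fin k ⊕ Fin k) R M) (h : IsPlanes Q u v) (p : Ideal R) [p.IsPrime]
    (hd : ∀ i, plDisc Q (u i) (v i) ∉ p) : (c.toMatrix (Sum.elim u v)).det ∉ p := by
  intro hdet
  have h0 : ((c.toMatrix (Sum.elim u v)).map (Ideal.Quotient.mk p)).det = 0 := by
    rw [← RingHom.mapMatrix_apply, ← RingHom.map_det, Ideal.Quotient.eq_zero_iff_mem]; exact hdet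
  obtain ⟨a, ha0, ha⟩ := Matrix.exists_mulVec_eq_zero_iff.2 h0
  choose a' ha' using fun j => Ideal.Quotient.mk_surjective (a j)
  refine ha0 (funext fun j => ?_)
  rw [← ha', Pi.zero_apply, Ideal.Quotient.eq_zero_iff_mem]
  refine mem_of_planes_sum_mem h p hd ?_ j
  rw [← c.sum_repr (∑ j, a' j • Sum.elim u v j)]
  refine Submodule.sum_mem _ fun i _ => Submodule.smul_mem_smul ?_ trivial
  rw [← Ideal.Quotient.eq_zero_iff_mem]
  have := congrFun ha i
  simp only [Matrix.mulVec, dotProduct, Matrix.map_apply, Pi.zero_apply, ← ha', ← map_mul, ← map_sum,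
    Module.Basis.toMatrix_apply] at this
  rw [← this, map_sum, Finsupp.finsetSum_apply]
  congr 1
  exact Finset.sum_congr rfl fun j _ => by simp [mul_comm]

theorem det_planes_smul_mem (c : Module.Basis (Fin k ⊕ Fin k) R M) (x : M) :
    (c.toMatrix (Sum.elim u v)).det • x ∈ Submodule.span R (Set.range (Sum.elim u v)) := by
  set G := c.toMatrix (Sum.elim u v)
  have key : ∀ r, G.det • c r = ∑ j, G.adjugate j r • Sum.elim u v j := fun r => by
    refine c.ext_elem fun s => ?_
    have := congrFun (congrFun (Matrix.mul_adjugate G) s) r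
    rw [Matrix.mul_apply, Matrix.smul_apply, Matrix.one_apply, smul_eq_mul] at this
    rw [map_smul, map_sum, Finsupp.smul_apply, Finsupp.finsetSum_apply, c.repr_self,
      Finsupp.single_apply, smul_eq_mul]
    simp only [map_smul, Finsupp.smul_apply, smul_eq_mul]
    rw [Finset.sum_congr rfl fun j _ => mul_comm (G.adjugate j r) _]
    simp only [G, Module.Basis.toMatrix_apply] at this ⊢
    rw [this]
    simp [eq_comm]
  rw [← c.sum_repr x, Finset.smul_sum]
  refine Submodule.sum_mem _ fun r _ => ?_
  rw [smul_comm, key]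
  exact Submodule.smul_mem _ _ (Submodule.sum_mem _ fun j _ =>
    Submodule.smul_mem _ _ (Submodule.subset_span ⟨j, rfl⟩))

/-- The generator of the even centre built from orthogonal planes. -/
theorem exists_omega (h : IsPlanes Q u v) : ∀ l : List (Fin k), l.Nodup →
    ∃ (ω : CliffordAlgebra Q) (c : R), ω ∈ evenOdd Q 0 ∧
      (∀ x, (∀ j ∈ l, polar Q (u j) x = 0 ∧ polar Q (v j) x = 0) → ι Q x * ω = ω * ι Q x) ∧
      (∀ j ∈ l, ι Q (u j) * ω + ω * ι Q (u j) + c • ι Q (u j) = 0 ∧
        ι Q (v j) * ω + ω * ι Q (v j) + c • ι Q (v j) = 0) ∧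
      ((2 : R) • ω + c • 1) * ((2 : R) • ω + c • 1) = algebraMap R _ (l.map fun j => plDisc Q (u j) (v j)).prod
  | [], _ => ⟨0, 1, zero_mem _, fun x _ => by simp, fun j hj => absurd hj (List.not_mem_nil), by simp⟩
  | i :: l, hl => by
    obtain ⟨hil, hl'⟩ := List.nodup_cons.1 hl
    obtain ⟨ω, c, hω, hout, hin, hsq⟩ := exists_omega h l hl'
    set t := ι Q (u i) * ι Q (v i) with htdef
    set B := polar Q (u i) (v i)
    set τ := -B
    have hti : ∀ x, polar Q (u i) x = 0 → polar Q (v i) x = 0 → ι Q x * t = t * ι Q x := fun x hx hy => by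
      rw [htdef, ← mul_assoc, ι_swap_orth Q hx, neg_mul, mul_assoc, ι_swap_orth Q hy, mul_neg, neg_neg, mul_assoc]
    have hto : ∀ j ∈ l, polar Q (u j) (u i) = 0 ∧ polar Q (v j) (u i) = 0 ∧ polar Q (u j) (v i) = 0 ∧
        polar Q (v j) (v i) = 0 := fun j hj => by
      have hji : j ≠ i := fun e => hil (e ▸ hj)
      exact ⟨h.uu j i hji, h.vu _ j i hji, h.uv j i hji, h.vv j i hji⟩
    have hωu : ι Q (u i) * ω = ω * ι Q (u i) := hout _ fun j hj => ⟨(hto j hj).1, (hto j hj).2.1⟩
    have hωv : ι Q (v i) * ω = ω * ι Q (v i) := hout _ fun j hj => ⟨(hto j hj).2.2.1, (hto j hj).2.2.2⟩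
    have hωt : t * ω = ω * t := by rw [htdef, mul_assoc, hωv, ← mul_assoc, hωu, mul_assoc]
    have hyx : ι Q (v i) * ι Q (u i) = B • 1 - t := by
      rw [htdef, ι_mul_ι_comm, QuadraticMap.polar_comm, Algebra.algebraMap_eq_smul_one]
    have hut : ι Q (u i) * t + t * ι Q (u i) + τ • ι Q (u i) = 0 := by
      rw [htdef, mul_assoc (ι Q (u i)) (ι Q (v i)), hyx, htdef, mul_sub, mul_smul_comm, mul_one]
      simp only [τ]
      module
    have hvt : ι Q (v i) * t + t * ι Q (v i) + τ • ι Q (v i) = 0 := by
      rw [htdef, ← mul_assoc (ι Q (v i)), hyx, htdef, sub_mul, smul_mul_assoc, one_mul]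
      simp only [τ]
      module
    refine ⟨(2 : R) • (t * ω) + τ • ω + c • t, τ * c, ?_, fun x hx => ?_, fun j hj => ?_, ?_⟩
    · refine add_mem (add_mem (Submodule.smul_mem _ _ ?_) (Submodule.smul_mem _ _ hω))
        (Submodule.smul_mem _ _ (ι_mul_ι_mem_evenOdd_zero Q _ _))
      simpa using SetLike.mul_mem_graded (ι_mul_ι_mem_evenOdd_zero Q (u i) (v i)) hω
    · have h1 := hti x (hx i List.mem_cons_self).1 (hx i List.mem_cons_self).2
      have h2 := hout x fun j hj => hx j (List.mem_cons_of_mem _ hj)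
      simp only [mul_add, add_mul, mul_smul_comm, smul_mul_assoc, ← mul_assoc, h1]
      simp only [mul_assoc, h2, h1]
    · rcases List.mem_cons.1 hj with rfl | hj
      · have e : ∀ y, y * t + t * y + τ • y = 0 → y * ω = ω * y →
            y * ((2 : R) • (t * ω) + τ • ω + c • t) + ((2 : R) • (t * ω) + τ • ω + c • t) * y + (τ * c) • y =
              (2 : R) • ((y * t + t * y + τ • y) * ω) + c • (y * t + t * y + τ • y) := fun y _ hy => by
          simp only [mul_add, add_mul, mul_smul_comm, smul_mul_assoc, mul_assoc, hy]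
          module
        exact ⟨by rw [e _ hut hωu, hut]; simp, by rw [e _ hvt hωv, hvt]; simp⟩
      · have hji : i ≠ j := fun e => hil (e ▸ hj)
        have e : ∀ y, y * t = t * y → y * ω + ω * y + c • y = 0 →
            y * ((2 : R) • (t * ω) + τ • ω + c • t) + ((2 : R) • (t * ω) + τ • ω + c • t) * y + (τ * c) • y =
              ((2 : R) • t + τ • 1) * (y * ω + ω * y + c • y) := fun y hy _ => by
          simp only [mul_add, add_mul, mul_smul_comm, smul_mul_assoc, ← mul_assoc, hy, one_mul]
          module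
        obtain ⟨ha, hb⟩ := hin j hj
        exact ⟨by rw [e _ (hti _ (h.uu i j hji) (h.vu _ i j hji)) ha, ha, mul_zero],
          by rw [e _ (hti _ (h.uv i j hji) (h.vv i j hji)) hb, hb, mul_zero]⟩
    · have hpl : (2 : R) • t + τ • 1 = plElt Q (u i) (v i) := by
        rw [plElt, hyx, htdef]; simp only [τ]; module
      have hw : (2 : R) • ((2 : R) • (t * ω) + τ • ω + c • t) + (τ * c) • (1 : CliffordAlgebra Q) =
          ((2 : R) • t + τ • 1) * ((2 : R) • ω + c • 1) := by
        simp only [mul_add, add_mul, mul_smul_comm, smul_mul_assoc, one_mul, mul_one]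
        module
      have hc : Commute ((2 : R) • t + τ • (1 : CliffordAlgebra Q)) ((2 : R) • ω + c • 1) :=
        ((Commute.smul_left (Commute.add_right (Commute.smul_right hωt _) (Commute.smul_right (Commute.one_right _) _)) _).add_left
          (Commute.smul_left (Commute.one_left _) _))
      rw [hw, hc.symm.mul_mul_mul_comm, hsq, hpl, plElt_sq, List.map_cons, List.prod_cons, map_mul]

end Planes

variable [Module.Free R M] {k : ℕ} (b : Module.Basis (Fin (2 * k)) R M) (hQ : QuadGrp.IsRegular Q)

include b hQ in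
/-- Near every prime, a generator of the even centre. -/
theorem exists_omega_at (p : Ideal R) [p.IsPrime] :
    ∃ (ω : CliffordAlgebra Q) (c r : R), r ∉ p ∧ ω ∈ evenOdd Q 0 ∧
      (∀ x, ι Q x * ω + ω * ι Q x + c • ι Q x = 0) ∧
      ((2 : R) • ω + c • 1) * ((2 : R) • ω + c • 1) = algebraMap R _ r := by
  obtain ⟨u, v, hpl, hd, -⟩ := exists_good Q b p (nondeg_residue_regular b hQ p) k le_rfl
  let cB : Module.Basis (Fin k ⊕ Fin k) R M := b.reindex ((finCongr (two_mul k)).trans finSumFinEquiv.symm)
  set d := (cB.toMatrix (Sum.elim u v)).det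
  have hdp := det_planes_notMem cB hpl p hd
  obtain ⟨ω, c, hω, -, hin, hsq⟩ := exists_omega hpl (List.finRange k) (List.nodup_finRange k)
  refine ⟨d • ω, d * c, d * d * ((List.finRange k).map fun j => plDisc Q (u j) (v j)).prod, fun hm => ?_,
    Submodule.smul_mem _ _ hω, fun x => ?_, ?_⟩
  · rcases Ideal.IsPrime.mem_or_mem inferInstance hm with hm | hm
    · exact (Ideal.IsPrime.mem_or_mem inferInstance hm).elim hdp hdp
    · rw [← List.ofFn_eq_map, List.prod_ofFn] at hm
      obtain ⟨i, _, hi⟩ := (Ideal.IsPrime.prod_mem_iff (p := p)).1 hm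
      exact hd i hi
  · have hmem : d • x ∈ LinearMap.ker ((LinearMap.mulRight R ω) ∘ₗ ι Q + (LinearMap.mulLeft R ω) ∘ₗ ι Q + c • ι Q) := by
      refine (Submodule.span_le.2 ?_) (det_planes_smul_mem cB x)
      rintro _ ⟨j | j, rfl⟩
      · simpa using (hin j (List.mem_finRange j)).1
      · simpa using (hin j (List.mem_finRange j)).2
    simp only [LinearMap.mem_ker, LinearMap.add_apply, LinearMap.comp_apply, LinearMap.mulRight_apply,
      LinearMap.mulLeft_apply, LinearMap.smul_apply, map_smul, smul_mul_assoc, mul_smul_comm] at hmem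
    rw [mul_smul_comm, smul_mul_assoc, ← hmem]
    module
  · have e : (2 : R) • d • ω + (d * c) • (1 : CliffordAlgebra Q) = d • ((2 : R) • ω + c • 1) := by module
    rw [e, smul_mul_assoc, mul_smul_comm, smul_smul, hsq, Algebra.smul_def, ← map_mul]

include b hQ in
theorem involute_mem_range [Module.Finite R M] :
    (involute : CliffordAlgebra Q →ₐ[R] CliffordAlgebra Q).toLinearMap ∈
      (AlgHom.mulLeftRight R (CliffordAlgebra Q)).range := by
  set P := AlgHom.mulLeftRight R (CliffordAlgebra Q)
  by_contra hne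
  let J : Ideal R := (Subalgebra.toSubmodule P.range).comap
    (LinearMap.toSpanSingleton R _ (involute : CliffordAlgebra Q →ₐ[R] CliffordAlgebra Q).toLinearMap)
  have hJ : J ≠ ⊤ := fun h => hne (by
    have h1 : (1 : R) ∈ J := by rw [h]; trivial
    simpa [J] using h1)
  obtain ⟨p, hp, hle⟩ := Ideal.exists_le_maximal J hJ
  haveI : p.IsPrime := hp.isPrime
  obtain ⟨ω, c, r, hr, -, hrel, hsq⟩ := exists_omega_at b hQ p
  set w := (2 : R) • ω + c • (1 : CliffordAlgebra Q)
  have hanti : ∀ x, w * ι Q x = -(ι Q x * w) := fun x => by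
    rw [eq_neg_iff_add_eq_zero]
    calc w * ι Q x + ι Q x * w = (2 : R) • (ι Q x * ω + ω * ι Q x + c • ι Q x) := by
          simp only [w, mul_add, add_mul, mul_smul_comm, smul_mul_assoc, one_mul, mul_one]
          module
      _ = 0 := by rw [hrel, smul_zero]
  have hz : ∀ z, w * z = involute z * w := fun z => by
    induction z using CliffordAlgebra.induction with
    | algebraMap t => rw [AlgHom.commutes]; exact (Algebra.commutes t w).symm
    | ι x => rw [hanti, involute_ι, neg_mul]
    | mul a e ha he => rw [← mul_assoc, ha, mul_assoc, he, map_mul, mul_assoc]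
    | add a e ha he => rw [mul_add, ha, he, map_add, add_mul]
  refine hr (hle ?_)
  show r • (involute : CliffordAlgebra Q →ₐ[R] CliffordAlgebra Q).toLinearMap ∈ P.range
  refine ⟨w ⊗ₜ MulOpposite.op w, LinearMap.ext fun z => ?_⟩
  show P (w ⊗ₜ MulOpposite.op w) z = r • involute z
  rw [AlgHom.mulLeftRight_apply, MulOpposite.unop_op, hz, mul_assoc, hsq, ← Algebra.commutes, ← Algebra.smul_def]

include b hQ in
theorem sandwich_bijective_even [Module.Finite R M] :
    Function.Bijective (AlgHom.mulLeftRight R (CliffordAlgebra Q)) :=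
  sandwich_bijective Q b hQ (involute_mem_range b hQ)

end Groth.Agent.CliffSm
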