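import Groth.Agent.CliffSm.DetCases

/-!
# The conjugation representation of the naive Clifford group in odd rank
-/

set_option autoImplicit false
noncomputable section

universe u v

open CliffordAlgebra QuadraticMap
open scoped Pointwise

namespace Groth.Agent.CliffSm

variable {R : Type u} [CommRing R] {M : Type v} [AddCommGroup M] [Module R M] [Module.Free R M]
  {Q : QuadraticForm R M}

theorem exists_conj_equiv (u : (CliffordAlgebra Q)ˣ) (hu : u ∈ QuadGrp.GPin' Q) :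
    ∃ g : M ≃ₗ[R] M, g ∈ QuadGrp.O Q ∧ ∀ x, (u : CliffordAlgebra Q) * ι Q x * ↑u⁻¹ = ι Q (g x) := by
  let inv : CliffordAlgebra Q →ₗ[R] M := ExteriorAlgebra.ιInv ∘ₗ (toExt Q).toLinearMap
  have hinv : ∀ x, inv (ι Q x) = x := fun x => by
    show ExteriorAlgebra.ιInv (toExt Q (ι Q x)) = x
    rw [toExt_ι]; exact ExteriorAlgebra.ι_leftInverse x
  let g := inv ∘ₗ LinearMap.mulRight R (↑u⁻¹ : CliffordAlgebra Q) ∘ₗ
    LinearMap.mulLeft R (u : CliffordAlgebra Q) ∘ₗ ι Q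
  have hg : ∀ x, (u : CliffordAlgebra Q) * ι Q x * ↑u⁻¹ = ι Q (g x) := fun x => by
    obtain ⟨y, hy⟩ := exists_conj_vec u hu x
    have hy' : (u : CliffordAlgebra Q) * ι Q x * ↑u⁻¹ = ι Q y := by
      rw [hy, mul_assoc, Units.mul_inv, mul_one]
    rw [hy', show g x = inv ((u : CliffordAlgebra Q) * ι Q x * ↑u⁻¹) from rfl, hy', hinv]
  have hiso : ∀ x, Q (g x) = Q x := fun x => algebraMap_injective Q <| by
    rw [← ι_sq_scalar, ← hg]
    simp only [mul_assoc, Units.inv_mul_cancel_left]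
    rw [← mul_assoc (ι Q x), ι_sq_scalar, Algebra.commutes, ← mul_assoc, Units.mul_inv, one_mul]
  have hinj : Function.Injective g := fun x y hxy => ι_injective Q <| by
    have h : (u : CliffordAlgebra Q) * ι Q x * ↑u⁻¹ = (u : CliffordAlgebra Q) * ι Q y * ↑u⁻¹ := by
      rw [hg, hg, hxy]
    simpa using h
  have hsurj : Function.Surjective g := fun y => by
    have h := (QuadGrp.mem_GPin' Q u).1 hu
    have hy : ι Q y ∈ ConjAct.toConjAct u • LinearMap.range (ι Q) := by rw [h]; exact ⟨_, rfl⟩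
    obtain ⟨w, ⟨x, rfl⟩, hx⟩ := Submodule.mem_map.1 hy
    exact ⟨x, ι_injective Q ((hg x).symm.trans ((ConjAct.units_smul_def (ConjAct.toConjAct u) _).symm.trans hx))⟩
  exact ⟨LinearEquiv.ofBijective g ⟨hinj, hsurj⟩, hiso, hg⟩

theorem gpin'_conj_SO' [Module.Finite R M] {m : ℕ} (b : Module.Basis (Fin (2 * m + 1)) R M)
    (hb : IsUnit (QuadGrp.halfDisc b (LinearEquiv.refl R R) Q)) (u : (CliffordAlgebra Q)ˣ)
    (hu : u ∈ QuadGrp.GPin' Q) :
    ∃ g ∈ QuadGrp.SO' Q, ∀ v : M, (u : CliffordAlgebra Q) * ι Q v * ↑u⁻¹ = ι Q (g v) := by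
  obtain ⟨g, hg, hgu⟩ := exists_conj_equiv u hu
  refine ⟨g, ⟨hg, ?_⟩, hgu⟩
  let e := b.equivFun
  let Q₁ : QuadraticForm R (Fin (2 * m + 1) → R) := Q.comp (e.symm : _ →ₗ[R] M)
  let I : Q.IsometryEquiv Q₁ := ⟨e, fun x => by simp [Q₁, e]⟩
  let Φ := CliffordAlgebra.equivOfIsometry I
  have hΦι : ∀ x, Φ (ι Q x) = ι Q₁ (e x) := fun x => map_apply_ι _ x
  let u₁ : (CliffordAlgebra Q₁)ˣ := Units.map Φ.toAlgHom.toMonoidHom u
  let g₁ : (Fin (2 * m + 1) → R) →ₗ[R] (Fin (2 * m + 1) → R) := e.toLinearMap ∘ₗ g.toLinearMap ∘ₗ e.symm.toLinearMap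
  have hg₁ : ∀ x, (u₁ : CliffordAlgebra Q₁) * ι Q₁ x * (↑u₁⁻¹ : CliffordAlgebra Q₁) = ι Q₁ (g₁ x) := fun x => by
    show Φ (u : CliffordAlgebra Q) * ι Q₁ x * Φ (↑u⁻¹ : CliffordAlgebra Q) = _
    rw [← e.apply_symm_apply x, ← hΦι, ← map_mul, ← map_mul, hgu, hΦι]
    simp [g₁]
  have hu₁ : u₁ ∈ QuadGrp.GPin' Q₁ := mem_GPin' _ (fun x => ⟨_, hg₁ x⟩) fun x =>
    ⟨e (g.symm (e.symm x)), (hg₁ _).trans (congrArg _ (by simp [g₁]))⟩
  have htab : tableOf (Q := Q₁) (Pi.basisFun R (Fin (2 * m + 1))) = tableOf (Q := Q) b := by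
    funext v
    induction v using Sym2.inductionOn with
    | hf i j =>
      have hs : ∀ k, e.symm (Pi.single k 1) = b k := fun k => by
        rw [LinearEquiv.symm_apply_eq]; funext r; simp [e, Pi.single_apply, Finsupp.single_apply, eq_comm]
      simp only [tableOf, QuadGrp.coeffs_mk, LinearEquiv.refl_apply, Pi.basisFun_apply, Q₁, polar,
        QuadraticMap.comp_apply, LinearEquiv.coe_coe, map_add, hs]
  have hb₁ : IsUnit (QuadGrp.halfDisc (Pi.basisFun R (Fin (2 * m + 1))) (LinearEquiv.refl R R) Q₁) := by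
    show IsUnit (Groth.Agent.QuadCentre.hdA (tableOf (Q := Q₁) (Pi.basisFun R (Fin (2 * m + 1)))))
    rw [htab]; exact hb
  have hdet := gpin'_det_one (Pi.basisFun R (Fin (2 * m + 1))) hb₁ u₁ hu₁ g₁ hg₁
  refine Units.ext ?_
  rw [LinearEquiv.coe_det]
  exact (LinearMap.det_conj (g : M →ₗ[R] M) e).symm.trans hdet

end Groth.Agent.CliffSm
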