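import Groth.Agent.CliffSm.EvenFrame
import Groth.Agent.CliffSm.OddConj
import Groth.Agent.QuadCentre.Refl

/-!
# The orthogonal and Clifford groups of regular forms of even rank
-/

set_option autoImplicit false
noncomputable section

universe u v

open CliffordAlgebra QuadraticMap
open scoped TensorProduct Pointwise

namespace Groth.Agent.CliffSm

variable {R : Type u} [CommRing R] {M : Type v} [AddCommGroup M] [Module R M] {Q : QuadraticForm R M}

/-- The automorphism of an isometry. -/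
def autOf (g : M ≃ₗ[R] M) (hg : g ∈ QuadGrp.O Q) : CliffordAlgebra Q ≃ₐ[R] CliffordAlgebra Q :=
  CliffordAlgebra.equivOfIsometry ⟨g, hg⟩

theorem autOf_ι (g : M ≃ₗ[R] M) (hg : g ∈ QuadGrp.O Q) (x : M) : autOf g hg (ι Q x) = ι Q (g x) :=
  map_apply_ι _ x

theorem autOf_eq_map (g : M ≃ₗ[R] M) (hg : g ∈ QuadGrp.O Q) (z : CliffordAlgebra Q) :
    CliffordAlgebra.map (QuadGrp.isometryOfMem Q g hg) z = autOf g hg z := rfl

/-- Intertwining with vectors extends to the algebra. -/
theorem intertwine_all (g : M ≃ₗ[R] M) (hg : g ∈ QuadGrp.O Q) {U : CliffordAlgebra Q}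
    (hU : ∀ x, ι Q (g x) * U = U * ι Q x) (c : CliffordAlgebra Q) : autOf g hg c * U = U * c := by
  induction c using CliffordAlgebra.induction with
  | algebraMap r => rw [AlgEquiv.commutes]; exact Algebra.commutes r U
  | ι x => rw [autOf_ι]; exact hU x
  | mul a e ha he => rw [map_mul, mul_assoc, he, ← mul_assoc, ha, mul_assoc]
  | add a e ha he => rw [map_add, add_mul, mul_add, ha, he]

theorem intertwine_of_conj (u : (CliffordAlgebra Q)ˣ) (g : M → M)
    (h : ∀ x, (u : CliffordAlgebra Q) * ι Q x * ↑u⁻¹ = ι Q (g x)) (x : M) :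
    ι Q (g x) * u = (u : CliffordAlgebra Q) * ι Q x := by
  rw [← h, mul_assoc, Units.inv_mul, mul_one]

section Regular

variable [Module.Free R M] [Module.Finite R M] {k : ℕ} (b : Module.Basis (Fin (2 * k)) R M)
  (hQ : QuadGrp.IsRegular Q)

include b hQ in
theorem center_scalar_even {z : CliffordAlgebra Q} (hz : ∀ x, x * z = z * x) :
    ∃ r : R, z = algebraMap R (CliffordAlgebra Q) r :=
  center_eq_scalar (sandwich_bijective_even b hQ) (scalarPart Q)
    (by rw [← map_one (algebraMap R (CliffordAlgebra Q)), scalarPart_algebraMap]) hz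

include b hQ in
theorem gpin'_le_LH : QuadGrp.GPin' Q ≤ QuadGrp.LH Q := by
  intro u hu
  have hy := fun i => center_scalar_even b hQ (fun x => Subalgebra.mem_center_iff.1 (inv_part_mem_center u hu i) x)
  obtain ⟨e, he⟩ := hy 0
  have h0 : part Q 0 (u : CliffordAlgebra Q) = e • (u : CliffordAlgebra Q) := by
    rw [Algebra.smul_def, Algebra.commutes, ← he, Units.mul_inv_cancel_left]
  have hee : IsIdempotentElem e := by
    have h1 := congrArg (part Q 0) h0
    rw [part_of_mem Q (part_mem Q 0 _), map_smul, h0, smul_smul] at h1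
    have h2 : (e - e * e) • (1 : CliffordAlgebra Q) = 0 := by
      rw [← Units.inv_mul u, ← mul_smul_comm, sub_smul, ← h1, sub_self, mul_zero]
    rw [← Algebra.algebraMap_eq_smul_one] at h2
    exact (sub_eq_zero.1 (algebraMap_injective Q (h2.trans (map_zero _).symm))).symm
  refine ⟨e, hee, by rw [← h0]; exact part_mem Q 0 _, ?_⟩
  rw [sub_smul, one_smul, ← h0, sub_eq_iff_eq_add'.2 (part_add Q (u : CliffordAlgebra Q)).symm]
  exact part_mem Q 1 _

include b hQ in
/-- Near every prime, an isometry has a homogeneous intertwiner invertible up to a scalar. -/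
theorem exists_intertwiner_at (g : M ≃ₗ[R] M) (hg : g ∈ QuadGrp.O Q) (p : Ideal R) [p.IsPrime] :
    ∃ (i : ZMod 2) (U a a' : CliffordAlgebra Q) (t : R), t ∉ p ∧ U ∈ evenOdd Q i ∧
      (∀ x, ι Q (g x) * U = U * ι Q x) ∧ U * a = algebraMap R _ t ∧ a' * U = algebraMap R _ t := by
  classical
  have hb := sandwich_bijective_even b hQ
  obtain ⟨e, he⟩ := exists_rankOne hb (scalarPart Q)
  set σ := autOf g hg
  let bC := Module.Free.chooseBasis R (CliffordAlgebra Q)
  set P := AlgHom.mulLeftRight R (CliffordAlgebra Q)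
  obtain ⟨x, j, hxj⟩ : ∃ x j, bC.repr (P (twist σ e) x) j ∉ p := by
    by_contra! hall
    have hin : P (twist σ e) ∈ p • (⊤ : Submodule R (Module.End R (CliffordAlgebra Q))) := by
      rw [← (LinearMap.toMatrix bC bC).symm_apply_apply (P (twist σ e)),
        Matrix.matrix_eq_sum_single (LinearMap.toMatrix bC bC (P (twist σ e))), map_sum]
      refine Submodule.sum_mem _ fun i _ => ?_
      rw [map_sum]
      refine Submodule.sum_mem _ fun j _ => ?_
      rw [← mul_one (LinearMap.toMatrix bC bC (P (twist σ e)) i j), ← smul_eq_mul, ← Matrix.smul_single,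
        map_smul]
      refine Submodule.smul_mem_smul ?_ trivial
      rw [LinearMap.toMatrix_apply]
      exact hall _ i
    let Φ := LinearEquiv.ofBijective P.toLinearMap hb
    have h1 := map_mem_smul_top Φ.symm.toLinearMap hin
    rw [LinearEquiv.coe_coe, show Φ.symm (P (twist σ e)) = twist σ e from Φ.symm_apply_apply _] at h1
    have h2 := map_mem_smul_top (twist σ.symm).toLinearMap h1
    have hid : twist σ.symm (twist σ e) = e := by
      have hc : (twist σ.symm).comp (twist σ) = AlgHom.id R _ :=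
        Algebra.TensorProduct.ext (AlgHom.ext fun a => by simp [twist]) (AlgHom.ext fun a => by simp [twist])
      exact congr($hc e)
    rw [AlgHom.toLinearMap_apply, hid] at h2
    have h3 := map_mem_smul_top (scalarPart Q ∘ₗ LinearMap.applyₗ (1 : CliffordAlgebra Q) ∘ₗ P.toLinearMap) h2
    have hs1 : scalarPart Q (1 : CliffordAlgebra Q) = 1 := by
      rw [← map_one (algebraMap R (CliffordAlgebra Q)), scalarPart_algebraMap]
    rw [LinearMap.comp_apply, LinearMap.comp_apply, LinearMap.applyₗ_apply_apply, AlgHom.toLinearMap_apply, he,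
      hs1, one_smul, hs1, smul_eq_mul, Ideal.mul_top] at h3
    exact Ideal.IsPrime.ne_top' ((Ideal.eq_top_iff_one _).2 h3)
  set U₀ := P (twist σ e) x
  have hU₀ : ∀ z, ι Q (g z) * U₀ = U₀ * ι Q z := fun z => by
    rw [← autOf_ι g hg]; exact twist_intertwines hb σ (scalarPart Q) he x (ι Q z)
  obtain ⟨i, hi⟩ : ∃ i : ZMod 2, bC.repr (part Q i U₀) j ∉ p := by
    by_contra! hall
    refine hxj ?_
    rw [← part_add Q U₀, map_add, Finsupp.add_apply]
    exact add_mem (hall 0) (hall 1)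
  have hU : ∀ z, ι Q (g z) * part Q i U₀ = part Q i U₀ * ι Q z := fun z => by
    rw [← (part_ι_mul Q i (g z) U₀).1, ← (part_ι_mul Q i z U₀).2, hU₀]
  obtain ⟨e', he'⟩ := exists_rankOne hb (bC.coord j)
  have hsand : ∀ s, (∃ c, P s (part Q i U₀) = part Q i U₀ * c) ∧ ∃ c, P s (part Q i U₀) = c * part Q i U₀ := by
    intro s
    induction s using TensorProduct.induction_on with
    | zero => exact ⟨⟨0, by simp⟩, ⟨0, by simp⟩⟩
    | tmul a c =>
      have hint := intertwine_all g hg hU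
      constructor
      · refine ⟨σ.symm a * MulOpposite.unop c, ?_⟩
        rw [AlgHom.mulLeftRight_apply, ← mul_assoc, ← hint, AlgEquiv.apply_symm_apply]
      · refine ⟨a * σ (MulOpposite.unop c), ?_⟩
        rw [AlgHom.mulLeftRight_apply, mul_assoc, ← hint, mul_assoc]
    | add y z hy hz =>
      obtain ⟨⟨a, ha⟩, ⟨a', ha'⟩⟩ := hy
      obtain ⟨⟨c, hc⟩, ⟨c', hc'⟩⟩ := hz
      exact ⟨⟨a + c, by rw [map_add, LinearMap.add_apply, ha, hc, mul_add]⟩,
        ⟨a' + c', by rw [map_add, LinearMap.add_apply, ha', hc', add_mul]⟩⟩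
  obtain ⟨⟨a, ha⟩, ⟨a', ha'⟩⟩ := hsand e'
  rw [he'] at ha ha'
  exact ⟨i, part Q i U₀, a, a', bC.repr (part Q i U₀) j, hi, part_mem Q i _, hU,
    by rw [← ha, Algebra.algebraMap_eq_smul_one]; rfl, by rw [← ha', Algebra.algebraMap_eq_smul_one]; rfl⟩

omit [Module.Free R M] [Module.Finite R M] in
theorem comm_of_rel {ω : CliffordAlgebra Q} {c : R} (hrel : ∀ x, ι Q x * ω + ω * ι Q x + c • ι Q x = 0) :
    ∀ z, (z ∈ evenOdd Q 0 → z * ω = ω * z) ∧ (z ∈ evenOdd Q 1 → z * ω + ω * z + c • z = 0) := by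
  have hrel' : ∀ x, ι Q x * ω = -(ω * ι Q x) - c • ι Q x := fun x => by
    rw [eq_sub_iff_add_eq, eq_neg_iff_add_eq_zero, ← hrel x]; abel
  have hpair : ∀ x y, ι Q x * ι Q y * ω = ω * (ι Q x * ι Q y) := fun x y => by
    rw [mul_assoc, hrel', mul_sub, mul_neg, ← mul_assoc, hrel', mul_smul_comm]
    simp only [sub_mul, neg_mul, smul_mul_assoc, mul_assoc]
    module
  intro z
  constructor <;> intro hz
  · induction z, hz using CliffordAlgebra.even_induction with
    | algebraMap r => exact Algebra.commutes r ω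
    | add a e _ _ ha he => rw [add_mul, mul_add, ha, he]
    | ι_mul_ι_mul x y e _ he => rw [mul_assoc, he, ← mul_assoc, hpair, mul_assoc]
  · induction z, hz using CliffordAlgebra.odd_induction with
    | ι x => exact hrel x
    | add a e _ _ ha he =>
      rw [show (a + e) * ω + ω * (a + e) + c • (a + e) = (a * ω + ω * a + c • a) + (e * ω + ω * e + c • e) by
        rw [add_mul, mul_add, smul_add]; abel, ha, he, add_zero]
    | ι_mul_ι_mul x y e _ he =>
      rw [show ι Q x * ι Q y * e * ω + ω * (ι Q x * ι Q y * e) + c • (ι Q x * ι Q y * e) =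
          ι Q x * ι Q y * (e * ω + ω * e + c • e) by
        rw [mul_add, mul_add, mul_smul_comm,
          show ω * (ι Q x * ι Q y * e) = ι Q x * ι Q y * (ω * e) by rw [← mul_assoc ω, ← hpair, mul_assoc],
          mul_assoc (ι Q x * ι Q y) e ω],
        he, mul_zero]

omit [Module.Free R M] [Module.Finite R M] in
theorem mem_center_even {ω : CliffordAlgebra Q} {c : R} (hω : ω ∈ evenOdd Q 0)
    (hrel : ∀ x, ι Q x * ω + ω * ι Q x + c • ι Q x = 0) :
    (⟨ω, hω⟩ : CliffordAlgebra.even Q) ∈ Subalgebra.center R ↥(CliffordAlgebra.even Q) :=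
  Subalgebra.mem_center_iff.2 fun z => Subtype.ext ((comm_of_rel hrel z.1).1 z.2)

omit [Module.Free R M] [Module.Finite R M] in
/-- An even intertwiner fixes the centre of the even part. -/
theorem even_fix (g : M ≃ₗ[R] M) (hg : g ∈ QuadGrp.O Q) {U a : CliffordAlgebra Q} {t : R} (hU : U ∈ evenOdd Q 0)
    (hint : ∀ x, ι Q (g x) * U = U * ι Q x) (hUa : U * a = algebraMap R _ t) (z : CliffordAlgebra.even Q)
    (hz : z ∈ Subalgebra.center R ↥(CliffordAlgebra.even Q)) :
    t • (autOf g hg (z : CliffordAlgebra Q) - z) = 0 := by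
  have hc : U * (z : CliffordAlgebra Q) = z * U :=
    congrArg Subtype.val (Subalgebra.mem_center_iff.1 hz ⟨U, hU⟩)
  have h : (autOf g hg (z : CliffordAlgebra Q) - z) * U = 0 := by
    rw [sub_mul, intertwine_all g hg hint, hc, sub_self]
  rw [Algebra.smul_def, Algebra.commutes, ← hUa, ← mul_assoc, h, zero_mul]

omit [Module.Free R M] [Module.Finite R M] in
/-- An odd intertwiner moves the generator of the centre. -/
theorem odd_move (g : M ≃ₗ[R] M) (hg : g ∈ QuadGrp.O Q) {U a : CliffordAlgebra Q} {t : R} (hU : U ∈ evenOdd Q 1)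
    (hint : ∀ x, ι Q (g x) * U = U * ι Q x) (hUa : U * a = algebraMap R _ t) {ω : CliffordAlgebra Q} {c : R}
    (hrel : ∀ x, ι Q x * ω + ω * ι Q x + c • ι Q x = 0) :
    t • (autOf g hg ω + ω + c • (1 : CliffordAlgebra Q)) = 0 := by
  have h : (autOf g hg ω + ω + c • (1 : CliffordAlgebra Q)) * U = 0 := by
    rw [add_mul, add_mul, smul_mul_assoc, one_mul, intertwine_all g hg hint]
    exact (comm_of_rel hrel U).2 hU
  rw [Algebra.smul_def, Algebra.commutes, ← hUa, ← mul_assoc, h, zero_mul]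

include b hQ in
/-- The two parities exclude each other. -/
theorem parity_exclusive (g : M ≃ₗ[R] M) (hg : g ∈ QuadGrp.O Q) (p : Ideal R) [p.IsPrime] {t t' : R}
    (heven : ∀ z : CliffordAlgebra.even Q, z ∈ Subalgebra.center R ↥(CliffordAlgebra.even Q) →
      t • (autOf g hg (z : CliffordAlgebra Q) - z) = 0)
    {U a : CliffordAlgebra Q} (hU : U ∈ evenOdd Q 1) (hint : ∀ x, ι Q (g x) * U = U * ι Q x)
    (hUa : U * a = algebraMap R _ t') : t * t' ∈ p := by
  obtain ⟨ω, c, r, hr, hω, hrel, hsq⟩ := exists_omega_at b hQ p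
  have h0 := heven ⟨ω, hω⟩ (mem_center_even hω hrel)
  have h1 := odd_move g hg hU hint hUa hrel
  have h2 : (t * t') • ((2 : R) • ω + c • (1 : CliffordAlgebra Q)) = 0 := by
    rw [show (t * t') • ((2 : R) • ω + c • (1 : CliffordAlgebra Q)) =
      t • (t' • (autOf g hg ω + ω + c • (1 : CliffordAlgebra Q))) - t' • (t • (autOf g hg ω - ω)) by module,
      h0, h1, smul_zero, smul_zero, sub_zero]
  have h3 : algebraMap R (CliffordAlgebra Q) (t * t' * r) = 0 := by
    rw [map_mul, ← hsq, ← mul_assoc, ← Algebra.smul_def, h2, zero_mul]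
  have h4 : t * t' * r ∈ p := by
    rw [algebraMap_injective Q (h3.trans (map_zero _).symm)]; exact zero_mem _
  exact (Ideal.IsPrime.mem_or_mem inferInstance h4).resolve_right hr

include b hQ in
theorem exists_lift_local [IsLocalRing R] (g : M ≃ₗ[R] M) (hg : g ∈ QuadGrp.O Q) :
    ∃ (i : ZMod 2) (u : (CliffordAlgebra Q)ˣ), (u : CliffordAlgebra Q) ∈ evenOdd Q i ∧ u ∈ QuadGrp.GPin' Q ∧
      ∀ x, (u : CliffordAlgebra Q) * ι Q x * ↑u⁻¹ = ι Q (g x) := by
  obtain ⟨i, U, a, a', t, ht, hUi, hint, hUa, haU⟩ := exists_intertwiner_at b hQ g hg (IsLocalRing.maximalIdeal R)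
  have htu : IsUnit t := by simpa [IsLocalRing.mem_maximalIdeal] using ht
  obtain ⟨tu, rfl⟩ := htu
  have hUu : IsUnit U := isUnit_iff_exists_and_exists.2
    ⟨⟨(↑tu⁻¹ : R) • a, by rw [mul_smul_comm, hUa, Algebra.smul_def, ← map_mul, Units.inv_mul, map_one]⟩,
      ⟨(↑tu⁻¹ : R) • a', by rw [smul_mul_assoc, haU, Algebra.smul_def, ← map_mul, Units.inv_mul, map_one]⟩⟩
  obtain ⟨u, rfl⟩ := hUu
  have hconj : ∀ x, (u : CliffordAlgebra Q) * ι Q x * ↑u⁻¹ = ι Q (g x) := fun x => by
    rw [← hint, mul_assoc, Units.mul_inv, mul_one]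
  exact ⟨i, u, hUi, mem_GPin' _ (fun x => ⟨_, hconj x⟩)
    (fun x => ⟨g.symm x, by rw [hconj, g.apply_symm_apply]⟩), hconj⟩

include b hQ in
theorem gspin_lift [IsLocalRing R] (g : M ≃ₗ[R] M) (hg : g ∈ QuadGrp.SOeven Q) :
    ∃ u ∈ QuadGrp.GSpin Q, ∀ v : M, (u : CliffordAlgebra Q) * ι Q v * ↑u⁻¹ = ι Q (g v) := by
  obtain ⟨hgO, hD⟩ := hg
  obtain ⟨i, u, hui, hu, hconj⟩ := exists_lift_local b hQ g hgO
  obtain rfl | rfl : i = 0 ∨ i = 1 := (show ∀ j : ZMod 2, j = 0 ∨ j = 1 by decide) i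
  · refine ⟨u, ⟨⟨hu, 1, IsIdempotentElem.one, by rw [one_smul]; exact hui, ?_⟩, hui⟩, hconj⟩
    rw [sub_self, zero_smul]; exact zero_mem _
  · exfalso
    have h := parity_exclusive b hQ g hgO (IsLocalRing.maximalIdeal R) (t := 1)
      (fun z hz => by rw [one_smul, ← autOf_eq_map, hD z hz, sub_self]) hui (intertwine_of_conj u g hconj)
      (a := (↑u⁻¹ : CliffordAlgebra Q)) (t' := 1) (by rw [Units.mul_inv, map_one])
    rw [one_mul] at h
    exact (IsLocalRing.maximalIdeal.isMaximal R).ne_top ((Ideal.eq_top_iff_one _).2 h)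

include b hQ in
theorem soeven_index [IsLocalRing R] (hk : 1 ≤ k) :
    ((QuadGrp.SOeven Q).subgroupOf (QuadGrp.O Q)).index = 2 := by
  set 𝔪 := IsLocalRing.maximalIdeal R
  have hdichot : ∀ (g : M ≃ₗ[R] M) (hg : g ∈ QuadGrp.O Q) (u : (CliffordAlgebra Q)ˣ) (i : ZMod 2),
      (u : CliffordAlgebra Q) ∈ evenOdd Q i → (∀ x, (u : CliffordAlgebra Q) * ι Q x * ↑u⁻¹ = ι Q (g x)) →
        (g ∈ QuadGrp.SOeven Q ↔ i = 0) := by
    intro g hg u i hui hconj
    constructor
    · rintro ⟨_, hD⟩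
      by_contra hi
      have hi1 : i = 1 := (((show ∀ j : ZMod 2, j = 0 ∨ j = 1 by decide) i).resolve_left hi)
      subst hi1
      have h := parity_exclusive b hQ g hg 𝔪 (t := 1)
        (fun z hz => by rw [one_smul, ← autOf_eq_map, hD z hz, sub_self]) hui (intertwine_of_conj u g hconj)
        (a := (↑u⁻¹ : CliffordAlgebra Q)) (t' := 1) (by rw [Units.mul_inv, map_one])
      rw [one_mul] at h
      exact (IsLocalRing.maximalIdeal.isMaximal R).ne_top ((Ideal.eq_top_iff_one _).2 h)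
    · rintro rfl
      refine ⟨hg, fun z hz => sub_eq_zero.1 ?_⟩
      have := even_fix g hg hui (intertwine_of_conj u g hconj) (a := (↑u⁻¹ : CliffordAlgebra Q)) (t := 1)
        (by rw [Units.mul_inv, map_one]) z hz
      rwa [one_smul] at this
  -- a conjugation by a vector
  obtain ⟨us, vs, hgood⟩ := exists_good Q b 𝔪 (nondeg_residue_regular b hQ 𝔪) 1 (by omega)
  have hv : IsUnit (Q (vs 0)) := by simpa [𝔪, IsLocalRing.mem_maximalIdeal] using hgood.2.2 0
  obtain ⟨w, hw⟩ := CliffordAlgebra.isUnit_ι_of_isUnit Q hv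
  have hw' : w ∈ QuadGrp.GPin' Q := by
    obtain ⟨qu, hqu⟩ := hv
    have hinv : (↑w⁻¹ : CliffordAlgebra Q) = (↑qu⁻¹ : R) • ι Q (vs 0) :=
      Units.inv_eq_of_mul_eq_one_right (by
        rw [hw, mul_smul_comm, ι_sq_scalar, ← hqu, Algebra.smul_def, ← map_mul, Units.inv_mul, map_one])
    have hcalc : ∀ x, (w : CliffordAlgebra Q) * ι Q x * ↑w⁻¹ =
        ι Q (((↑qu⁻¹ : R) * polar Q (vs 0) x) • vs 0 - x) := fun x => by
      rw [hinv, hw, mul_smul_comm, ι_mul_ι_comm, sub_mul, mul_assoc, ι_sq_scalar, ← Algebra.smul_def,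
        ← Algebra.commutes, ← Algebra.smul_def, ← hqu, smul_sub, smul_smul, smul_smul, Units.inv_mul, one_smul,
        map_sub, map_smul]
    refine mem_GPin' _ (fun x => ⟨_, hcalc x⟩) fun x => ⟨((↑qu⁻¹ : R) * polar Q (vs 0) x) • vs 0 - x, ?_⟩
    rw [hcalc]
    congr 1
    rw [QuadraticMap.polar_sub_right, QuadraticMap.polar_smul_right, polar_self', ← hqu, smul_eq_mul]
    match_scalars
    · linear_combination (2 * (↑qu⁻¹ : R) * polar Q (vs 0) x) * Units.inv_mul qu
    · ring
  obtain ⟨a, ha, hca⟩ := exists_conj_equiv w hw'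
  rw [Subgroup.index_eq_two_iff]
  refine ⟨⟨a, ha⟩, fun g => ?_⟩
  obtain ⟨i, u, hui, -, hconj⟩ := exists_lift_local b hQ g.1 g.2
  have hua : ((u * w : (CliffordAlgebra Q)ˣ) : CliffordAlgebra Q) ∈ evenOdd Q (i + 1) := by
    rw [Units.val_mul, hw]; exact SetLike.mul_mem_graded hui (ι_mem_evenOdd_one Q _)
  have hconj' : ∀ x, ((u * w : (CliffordAlgebra Q)ˣ) : CliffordAlgebra Q) * ι Q x * ↑(u * w)⁻¹ =
      ι Q ((g.1 * a) x) := fun x => by
    rw [Units.val_mul, mul_inv_rev, Units.val_mul, show (g.1 * a) x = g.1 (a x) from rfl, ← hconj, ← hca]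
    simp only [mul_assoc]
  have h1 := hdichot g.1 g.2 u i hui hconj
  have h2 := hdichot (g.1 * a) (mul_mem g.2 ha) _ (i + 1) hua hconj'
  simp only [Subgroup.mem_subgroupOf, Subgroup.coe_mul, Xor', h1, h2]
  exact (show ∀ j : ZMod 2, Xor (j + 1 = 0) (j = 0) by decide) i

end Regular

end Groth.Agent.CliffSm
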