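import Groth.Agent.CliffSm.EvenEtale
import Groth.Agent.CliffSm.EvenBaseChange
import Groth.Agent.CliffSm.EvenGroup

/-!
# Clifford algebras of hyperbolic forms
-/

set_option autoImplicit false
noncomputable section

universe u v

open CliffordAlgebra TensorProduct

namespace Groth.Agent.CliffSm

variable {A : Type u} [CommRing A] {V : Type v} [AddCommGroup V] [Module A V]

theorem hyp_isCAR {m : ℕ} {Q : QuadraticForm A V} {p q : Fin m → V} (h : IsHypFrame Q p q) :
    IsCAR (fun i => ι Q (p i)) (fun i => ι Q (q i)) :=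
  ⟨fun i => ι_sq_zero Q (h.p0 i), fun i => ι_sq_zero Q (h.q0 i),
    fun i => by show ι Q (p i) * ι Q (q i) + ι Q (q i) * ι Q (p i) = 1; rw [ι_mul_ι_add_swap, h.pq, map_one],
    fun i j hij => ι_swap_orth Q (h.uu i j hij), fun i j hij => ι_swap_orth Q (h.vv i j hij),
    fun i j hij => ι_swap_orth Q (h.uv i j hij)⟩

/-- The Clifford algebra of a hyperbolic form is a matrix algebra. -/
theorem hyp_matrix [Module.Free A V] {m : ℕ} {Q : QuadraticForm A V} {p q : Fin m → V} (h : IsHypFrame Q p q)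
    (hspan : Submodule.span A (Set.range (Sum.elim p q)) = ⊤) :
    Nonempty (CliffordAlgebra Q ≃ₐ[A] Matrix (Fin (2 ^ m)) (Fin (2 ^ m)) A) := by
  obtain ⟨φ, hφ, -⟩ := exists_matrix_hom (A := A) m _ _ (hyp_isCAR h)
  have hι : ∀ x : V, ι Q x ∈ φ.range := fun x => by
    have hx : x ∈ (Subalgebra.toSubmodule φ.range).comap (ι Q) := by
      refine (Submodule.span_le.2 ?_) (hspan ▸ Submodule.mem_top : x ∈ Submodule.span A (Set.range (Sum.elim p q)))
      rintro _ ⟨i | i, rfl⟩
      exacts [(hφ i).1, (hφ i).2]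
    exact hx
  have htop : φ.range = ⊤ := by
    refine eq_top_iff.2 fun x hx => ?_
    clear hx
    induction x using CliffordAlgebra.induction with
    | algebraMap r => exact φ.range.algebraMap_mem r
    | ι x => exact hι x
    | mul a b ha hb => exact mul_mem ha hb
    | add a b ha hb => exact add_mem ha hb
  exact ⟨((AlgEquiv.ofInjective φ (matrixHom_injective φ (algebraMap_injective Q))).trans
    ((Subalgebra.equivOfEq _ _ htop).trans Subalgebra.topEquiv)).symm⟩

section Idem

variable {C : Type*} [Ring C]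

theorem xor_idem {e f : C} (he : e * e = e) (hf : f * f = f) (hc : e * f = f * e) :
    (e + f - (e * f + e * f)) * (e + f - (e * f + e * f)) = e + f - (e * f + e * f) := by
  have hefe : e * f * e = e * f := by rw [mul_assoc, ← hc, ← mul_assoc, he]
  have heff : e * f * f = e * f := by rw [mul_assoc, hf]
  have hfee : f * (e * f) = e * f := by rw [← mul_assoc, ← hc, mul_assoc, hf]
  have heef : e * (e * f) = e * f := by rw [← mul_assoc, he]
  have hgg : e * f * (e * f) = e * f := by rw [← mul_assoc, hefe, heff]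
  simp only [mul_add, add_mul, mul_sub, sub_mul, he, hf, hefe, heff, hfee, heef, hgg, ← hc]
  abel

theorem xor_xor {e f : C} (hf : f * f = f) :
    (e + f - (e * f + e * f)) + f - ((e + f - (e * f + e * f)) * f + (e + f - (e * f + e * f)) * f) = e := by
  simp only [add_mul, sub_mul, mul_assoc, hf]
  abel

theorem xor_rel {x e f : C} (he : x * e + e * x = x) (hf : x * f = f * x) (hc : e * f = f * e) :
    x * (e + f - (e * f + e * f)) + (e + f - (e * f + e * f)) * x = x := by
  have h1 : x * (e * f) + e * f * x = x * f := by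
    rw [← mul_assoc, mul_assoc e f x, ← hf, ← mul_assoc e x f, ← add_mul, he]
  calc x * (e + f - (e * f + e * f)) + (e + f - (e * f + e * f)) * x
      = (x * e + e * x) + ((x * f + f * x) - ((x * (e * f) + e * f * x) + (x * (e * f) + e * f * x))) := by
        simp only [mul_add, add_mul, mul_sub, sub_mul]; abel
    _ = x := by rw [he, h1, ← hf, sub_self, add_zero]

/-- The sum of the number operators modulo two. -/
theorem exists_parity_idem : ∀ (m : ℕ) (a c : Fin m → C), IsCAR a c →
    ∀ (S : Subring C), (∀ i, a i * c i ∈ S) →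
    ∃ ε : C, ε * ε = ε ∧ ε ∈ S ∧ (∀ i, a i * ε + ε * a i = a i ∧ c i * ε + ε * c i = c i) ∧
      ∀ z, (∀ i, z * a i = -(a i * z) ∧ z * c i = -(c i * z)) → z * ε = ε * z := by
  intro m
  induction m with
  | zero => exact fun a c _ S _ => ⟨0, mul_zero _, zero_mem _, fun i => i.elim0, fun z _ => by simp⟩
  | succ m ih =>
    intro a c h S hS
    obtain ⟨f, hff, hfS, hf, hfc⟩ := ih (fun i => a i.succ) (fun i => c i.succ)
      ⟨fun i => h.aa _, fun i => h.cc _, fun i => h.ac _,
        fun i j hij => h.aa' _ _ (by simpa using hij), fun i j hij => h.cc' _ _ (by simpa using hij),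
        fun i j hij => h.ac' _ _ (by simpa using hij)⟩ S fun i => hS _
    set e := a 0 * c 0 with he_def
    have hca : c 0 * a 0 = 1 - a 0 * c 0 := eq_sub_of_add_eq' (h.ac 0)
    have hee : e * e = e := by
      rw [he_def, mul_assoc, ← mul_assoc (c 0), hca, sub_mul, one_mul, mul_sub, ← mul_assoc (a 0) (a 0 * c 0),
        ← mul_assoc (a 0) (a 0), h.aa, zero_mul, zero_mul, sub_zero]
    have hae : a 0 * e + e * a 0 = a 0 := by
      rw [he_def, ← mul_assoc (a 0), h.aa, zero_mul, zero_add, mul_assoc, hca, mul_sub, mul_one,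
        ← mul_assoc (a 0), h.aa, zero_mul, sub_zero]
    have hce : c 0 * e + e * c 0 = c 0 := by
      rw [he_def, mul_assoc (a 0) (c 0), h.cc, mul_zero, add_zero, ← mul_assoc, hca, sub_mul, one_mul,
        mul_assoc (a 0), h.cc, mul_zero, sub_zero]
    have hfa : a 0 * f = f * a 0 := hfc _ fun i =>
      ⟨h.aa' _ _ (Fin.succ_ne_zero i), by rw [h.ac' _ _ (Fin.succ_ne_zero i).symm, neg_neg]⟩
    have hfc0 : c 0 * f = f * c 0 := hfc _ fun i =>
      ⟨h.ac' _ _ (Fin.succ_ne_zero i), h.cc' _ _ (Fin.succ_ne_zero i)⟩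
    have hef : e * f = f * e := by rw [he_def, mul_assoc, hfc0, ← mul_assoc, hfa, mul_assoc]
    have hanti : ∀ z, z * a 0 = -(a 0 * z) → z * c 0 = -(c 0 * z) → z * e = e * z := fun z h1 h2 => by
      rw [he_def, ← mul_assoc, h1, neg_mul, mul_assoc, h2, mul_neg, neg_neg, mul_assoc]
    have hrest : ∀ i : Fin m, a i.succ * (e + f - (e * f + e * f)) + (e + f - (e * f + e * f)) * a i.succ = a i.succ ∧
        c i.succ * (e + f - (e * f + e * f)) + (e + f - (e * f + e * f)) * c i.succ = c i.succ := fun i => by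
      have he1 : a i.succ * e = e * a i.succ := hanti _ (h.aa' _ _ (Fin.succ_ne_zero i).symm)
        (by rw [h.ac' _ _ (Fin.succ_ne_zero i), neg_neg])
      have he2 : c i.succ * e = e * c i.succ := hanti _ (h.ac' _ _ (Fin.succ_ne_zero i).symm)
        (h.cc' _ _ (Fin.succ_ne_zero i).symm)
      rw [show e + f - (e * f + e * f) = f + e - (f * e + f * e) by rw [hef, add_comm e f]]
      exact ⟨xor_rel (hf i).1 he1 hef.symm, xor_rel (hf i).2 he2 hef.symm⟩
    refine ⟨e + f - (e * f + e * f), xor_idem hee hff hef,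
      sub_mem (add_mem (hS 0) hfS) (add_mem (mul_mem (hS 0) hfS) (mul_mem (hS 0) hfS)),
      Fin.cases ⟨xor_rel hae hfa hef, xor_rel hce hfc0 hef⟩ hrest, fun z hz => ?_⟩
    · have h1 := hanti z (hz 0).1 (hz 0).2
      have h2 := hfc z fun i => hz i.succ
      have h3 : z * (e * f) = e * f * z := by rw [← mul_assoc, h1, mul_assoc e z, h2, ← mul_assoc]
      rw [mul_sub, sub_mul, mul_add, mul_add, add_mul, add_mul, h1, h2, h3]

end Idem

/-- The even Clifford algebra of a hyperbolic form is a product of two matrix algebras. -/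
theorem hyp_even [Module.Free A V] {m : ℕ} {Q : QuadraticForm A V} {p q : Fin (m + 1) → V} (h : IsHypFrame Q p q)
    (hspan : Submodule.span A (Set.range (Sum.elim p q)) = ⊤) :
    Nonempty (CliffordAlgebra.even Q ≃ₐ[A]
      (Matrix (Fin (2 ^ m)) (Fin (2 ^ m)) A × Matrix (Fin (2 ^ m)) (Fin (2 ^ m)) A)) := by
  have hcar := hyp_isCAR h
  let e := fun x : V => ι Q x
  set w := p 0 + q 0 with hw
  have hww : e w * e w = 1 := by
    show ι Q w * ι Q w = 1
    rw [ι_sq_scalar, hw, QuadraticMap.map_add (⇑Q), h.p0, h.q0, h.pq, zero_add, zero_add, map_one]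
  have hww' : ∀ t, e w * (e w * t) = t := fun t => by rw [← mul_assoc, hww, one_mul]
  have hpw : ∀ i : Fin m, e (p i.succ) * e w = -(e w * e (p i.succ)) := fun i =>
    ι_swap_orth Q (by simp [hw, QuadraticMap.polar_add_left, h.uu _ _ (Fin.succ_ne_zero i).symm, h.vu _ _ _ (Fin.succ_ne_zero i).symm])
  have hqw : ∀ i : Fin m, e (q i.succ) * e w = -(e w * e (q i.succ)) := fun i =>
    ι_swap_orth Q (by simp [hw, QuadraticMap.polar_add_left, h.uv _ _ (Fin.succ_ne_zero i).symm, h.vv _ _ (Fin.succ_ne_zero i).symm])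
  have hprod : ∀ x y : V, e x * e w = -(e w * e x) → e w * e x * (e w * e y) = -(e x * e y) := fun x y hx => by
    rw [mul_assoc, ← mul_assoc (e x), hx, neg_mul, mul_neg, mul_assoc (e w) (e x) (e y), hww']
  let a : Fin m → CliffordAlgebra Q := fun i => e w * e (p i.succ)
  let c : Fin m → CliffordAlgebra Q := fun i => -(e w * e (q i.succ))
  have hac : ∀ i, a i * c i = e (p i.succ) * e (q i.succ) := fun i => by
    simp only [a, c, mul_neg, hprod _ _ (hpw i), neg_neg]
  have hcar1 : IsCAR a c := by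
    refine ⟨fun i => ?_, fun i => ?_, fun i => ?_, fun i j hij => ?_, fun i j hij => ?_, fun i j hij => ?_⟩
    · simp only [a, hprod _ _ (hpw i), e, hcar.aa, neg_zero]
    · simp only [c, neg_mul_neg, hprod _ _ (hqw i), e, hcar.cc, neg_zero]
    · simp only [a, c, mul_neg, neg_mul, hprod _ _ (hpw i), hprod _ _ (hqw i), neg_neg]
      exact hcar.ac _
    · simp only [a, hprod _ _ (hpw i), hprod _ _ (hpw j)]
      rw [show e (p j.succ) * e (p i.succ) = -(e (p i.succ) * e (p j.succ)) from hcar.aa' _ _ (by simpa using hij)]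
    · simp only [c, neg_mul_neg, hprod _ _ (hqw i), hprod _ _ (hqw j)]
      rw [show e (q j.succ) * e (q i.succ) = -(e (q i.succ) * e (q j.succ)) from hcar.cc' _ _ (by simpa using hij)]
    · simp only [a, c, mul_neg, neg_mul, hprod _ _ (hpw i), hprod _ _ (hqw j), neg_neg]
      rw [show e (q j.succ) * e (p i.succ) = -(e (p i.succ) * e (q j.succ)) from hcar.ac' _ _ (by simpa using hij)]
  let a' : Fin m → CliffordAlgebra.even Q := fun i => ⟨a i, ι_mul_ι_mem_evenOdd_zero Q w (p i.succ)⟩
  let c' : Fin m → CliffordAlgebra.even Q := fun i => ⟨c i, neg_mem (ι_mul_ι_mem_evenOdd_zero Q w (q i.succ))⟩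
  have hcar' : IsCAR a' c' :=
    ⟨fun i => Subtype.ext (hcar1.aa i), fun i => Subtype.ext (hcar1.cc i), fun i => Subtype.ext (hcar1.ac i),
      fun i j hij => Subtype.ext (hcar1.aa' i j hij), fun i j hij => Subtype.ext (hcar1.cc' i j hij),
      fun i j hij => Subtype.ext (hcar1.ac' i j hij)⟩
  obtain ⟨φ₀, hφ₀, -⟩ := exists_matrix_hom (A := A) m a' c' hcar'
  obtain ⟨f, hff, hfmem, hfrel, hfc⟩ := exists_parity_idem m _ _
    (show IsCAR (fun i : Fin m => e (p i.succ)) (fun i => e (q i.succ)) from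
      ⟨fun i => hcar.aa _, fun i => hcar.cc _, fun i => hcar.ac _,
        fun i j hij => hcar.aa' _ _ (by simpa using hij), fun i j hij => hcar.cc' _ _ (by simpa using hij),
        fun i j hij => hcar.ac' _ _ (by simpa using hij)⟩)
    ((φ₀.range.map (CliffordAlgebra.even Q).val).toSubring) fun i => by
      rw [Subalgebra.mem_toSubring, Subalgebra.mem_map, ← hac]
      exact ⟨a' i * c' i, mul_mem (hφ₀ i).1 (hφ₀ i).2, rfl⟩
  have hf0 : e (p 0) * f = f * e (p 0) ∧ e (q 0) * f = f * e (q 0) := ⟨hfc _ fun i =>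
      ⟨hcar.aa' _ _ (Fin.succ_ne_zero i),
        by rw [show e (q i.succ) * e (p 0) = -(e (p 0) * e (q i.succ)) from hcar.ac' _ _ (Fin.succ_ne_zero i).symm, neg_neg]⟩,
    hfc _ fun i => ⟨hcar.ac' _ _ (Fin.succ_ne_zero i), hcar.cc' _ _ (Fin.succ_ne_zero i)⟩⟩
  set g := e (p 0) * e (q 0) with hg
  have hgf : g * f = f * g := by rw [hg, mul_assoc, hf0.2, ← mul_assoc, hf0.1, mul_assoc]
  -- the idempotent of the first plane
  have hgg : g * g = g := by
    have hca : e (q 0) * e (p 0) = 1 - g := eq_sub_of_add_eq' (hcar.ac 0)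
    have haa : e (p 0) * g = 0 := by rw [hg, ← mul_assoc, show e (p 0) * e (p 0) = 0 from hcar.aa 0, zero_mul]
    conv_lhs => rw [hg, mul_assoc, ← mul_assoc (e (q 0)), hca, sub_mul, one_mul, mul_sub, ← mul_assoc (e (p 0)) (e (p 0) * e (q 0))]
    rw [haa, zero_mul, sub_zero]
  have hga : e (p 0) * g + g * e (p 0) = e (p 0) ∧ e (q 0) * g + g * e (q 0) = e (q 0) := by
    have hca : e (q 0) * e (p 0) = 1 - g := eq_sub_of_add_eq' (hcar.ac 0)
    refine ⟨?_, ?_⟩
    · conv_lhs => rw [hg, ← mul_assoc (e (p 0)), show e (p 0) * e (p 0) = 0 from hcar.aa 0, zero_mul, zero_add,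
        mul_assoc, hca, mul_sub, mul_one, hg, ← mul_assoc, show e (p 0) * e (p 0) = 0 from hcar.aa 0, zero_mul, sub_zero]
    · conv_lhs => rw [hg, ← mul_assoc (e (q 0)), hca, sub_mul, one_mul, hg, mul_assoc, show e (q 0) * e (q 0) = 0 from hcar.cc 0,
        mul_zero, sub_zero, add_zero]
  have hεε : (g + f - (g * f + g * f)) * (g + f - (g * f + g * f)) = g + f - (g * f + g * f) := xor_idem hgg hff hgf
  obtain ⟨z, -, hz⟩ := id hfmem
  have hfev : f ∈ CliffordAlgebra.even Q := hz ▸ z.2
  have hgev : g ∈ CliffordAlgebra.even Q := ι_mul_ι_mem_evenOdd_zero Q _ _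
  set ε := g + f - (g * f + g * f) with hε_def
  have hεmem : ε ∈ CliffordAlgebra.even Q :=
    sub_mem (add_mem hgev hfev) (add_mem (mul_mem hgev hfev) (mul_mem hgev hfev))
  have hrel : ∀ x, e x * ε + ε * e x = e x := fun x => by
    have hx : x ∈ LinearMap.ker ((LinearMap.mulRight A ε) ∘ₗ ι Q + (LinearMap.mulLeft A ε) ∘ₗ ι Q - ι Q) := by
      refine (Submodule.span_le.2 ?_) (hspan ▸ Submodule.mem_top : x ∈ Submodule.span A (Set.range (Sum.elim p q)))
      rintro _ ⟨i | i, rfl⟩
      · suffices e (p i) * ε + ε * e (p i) = e (p i) by simpa [sub_eq_zero] using this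
        refine Fin.cases ?_ (fun i => ?_) i
        · exact xor_rel hga.1 hf0.1 hgf
        · rw [show ε = f + g - (f * g + f * g) by rw [hε_def, hgf, add_comm g f]]
          refine xor_rel (hfrel i).1 ?_ hgf.symm
          rw [hg, ← mul_assoc, show e (p i.succ) * e (p 0) = -(e (p 0) * e (p i.succ)) from hcar.aa' _ _ (Fin.succ_ne_zero i).symm,
            neg_mul, mul_assoc, mul_assoc (e (p 0)) (e (q 0)) (e (p i.succ)), show e (q 0) * e (p i.succ) = -(e (p i.succ) * e (q 0)) from hcar.ac' _ _ (Fin.succ_ne_zero i),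
            mul_neg]
      · suffices e (q i) * ε + ε * e (q i) = e (q i) by simpa [sub_eq_zero] using this
        refine Fin.cases ?_ (fun i => ?_) i
        · exact xor_rel hga.2 hf0.2 hgf
        · rw [show ε = f + g - (f * g + f * g) by rw [hε_def, hgf, add_comm g f]]
          refine xor_rel (hfrel i).2 ?_ hgf.symm
          rw [hg, ← mul_assoc, show e (q i.succ) * e (p 0) = -(e (p 0) * e (q i.succ)) from hcar.ac' _ _ (Fin.succ_ne_zero i).symm,
            neg_mul, mul_assoc, show e (q i.succ) * e (q 0) = -(e (q 0) * e (q i.succ)) from hcar.cc' _ _ (Fin.succ_ne_zero i).symm,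
            mul_neg, neg_neg, ← mul_assoc]
    simpa [sub_eq_zero, e] using hx
  have hεC : ∀ z, z ∈ CliffordAlgebra.even Q → z * ε = ε * z := fun z hz =>
    (comm_of_rel (c := (-1 : A)) (fun x => by rw [show ι Q x * ε + ε * ι Q x = ι Q x from hrel x]; simp) z).1 hz
  let ε' : CliffordAlgebra.even Q := ⟨ε, hεmem⟩
  have hε' : ε' * ε' = ε' := Subtype.ext hεε
  have hcomm : ∀ z : CliffordAlgebra.even Q, z * ε' = ε' * z := fun z => Subtype.ext (hεC z z.2)
  have hcomm' : ∀ z : CliffordAlgebra.even Q, z * (1 - ε') = (1 - ε') * z := fun z => by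
    rw [mul_sub, sub_mul, hcomm, mul_one, one_mul]
  have hε1 : ε' * (1 - ε') = 0 := by rw [mul_sub, mul_one, hε', sub_self]
  have hε2 : (1 - ε') * ε' = 0 := by rw [sub_mul, one_mul, hε', sub_self]
  have hε3 : (1 - ε') * (1 - ε') = 1 - ε' := by rw [mul_sub, mul_one, hε2, sub_zero]
  let M2 := Matrix (Fin (2 ^ m)) (Fin (2 ^ m)) A
  let L : M2 × M2 →ₗ[A] CliffordAlgebra.even Q :=
    (LinearMap.mulRight A ε') ∘ₗ φ₀.toLinearMap ∘ₗ LinearMap.fst A M2 M2 +
      (LinearMap.mulRight A (1 - ε')) ∘ₗ φ₀.toLinearMap ∘ₗ LinearMap.snd A M2 M2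
  have hL : ∀ X : M2 × M2, L X = φ₀ X.1 * ε' + φ₀ X.2 * (1 - ε') := fun X => rfl
  let Φ : M2 × M2 →ₐ[A] CliffordAlgebra.even Q := AlgHom.ofLinearMap L
    (by rw [hL, Prod.fst_one, Prod.snd_one, map_one, one_mul, one_mul, add_sub_cancel])
    fun X Y => by
      simp only [hL, Prod.fst_mul, Prod.snd_mul, map_mul]
      simp only [mul_add, add_mul, mul_assoc]
      rw [← mul_assoc ε' (φ₀ Y.1), ← hcomm, mul_assoc, hε', ← mul_assoc ε' (φ₀ Y.2), ← hcomm, mul_assoc, hε1,
        ← mul_assoc (1 - ε') (φ₀ Y.1), ← hcomm', mul_assoc, hε2, ← mul_assoc (1 - ε') (φ₀ Y.2), ← hcomm',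
        mul_assoc, hε3]
      simp
  let φ := (CliffordAlgebra.even Q).val.comp Φ
  have hrange : ∀ M, (φ₀ M : CliffordAlgebra Q) ∈ φ.range := fun M => ⟨(M, M), by
    show ((L (M, M)) : CliffordAlgebra Q) = _
    rw [hL, ← mul_add, add_sub_cancel, mul_one]⟩
  have hεr : ε ∈ φ.range := ⟨(1, 0), by
    show ((L (1, 0)) : CliffordAlgebra Q) = _
    rw [hL]; simp [ε']⟩
  have hfr : f ∈ φ.range := by
    obtain ⟨z, ⟨M, rfl⟩, rfl⟩ := hfmem
    exact hrange M
  have hgr : g ∈ φ.range := by
    have h1 := xor_xor (e := g) hff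
    rw [← hε_def] at h1
    rw [← h1]
    exact sub_mem (add_mem hεr hfr) (add_mem (mul_mem hεr hfr) (mul_mem hεr hfr))
  have hφa : ∀ i, a i ∈ φ.range ∧ c i ∈ φ.range := fun i => by
    obtain ⟨⟨M, hM⟩, ⟨N, hN⟩⟩ := hφ₀ i
    exact ⟨by rw [show a i = (φ₀ M : CliffordAlgebra Q) from (congrArg Subtype.val hM).symm]; exact hrange M,
      by rw [show c i = (φ₀ N : CliffordAlgebra Q) from (congrArg Subtype.val hN).symm]; exact hrange N⟩
  have hwl : ∀ x : V, e w * e x ∈ φ.range := fun x => by
    have hx : x ∈ (Subalgebra.toSubmodule φ.range).comap ((LinearMap.mulLeft A (e w)) ∘ₗ ι Q) := by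
      refine (Submodule.span_le.2 ?_) (hspan ▸ Submodule.mem_top : x ∈ Submodule.span A (Set.range (Sum.elim p q)))
      rintro _ ⟨i | i, rfl⟩
      · show e w * e (p i) ∈ φ.range
        refine Fin.cases ?_ (fun i => (hφa i).1) i
        show ι Q w * ι Q (p 0) ∈ φ.range
        rw [hw, map_add, add_mul, show ι Q (p 0) * ι Q (p 0) = 0 from hcar.aa 0, zero_add,
          show ι Q (q 0) * ι Q (p 0) = 1 - g from eq_sub_of_add_eq' (hcar.ac 0)]
        exact sub_mem (one_mem _) hgr
      · show e w * e (q i) ∈ φ.range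
        refine Fin.cases ?_ (fun i => by simpa [c] using neg_mem (hφa i).2) i
        show ι Q w * ι Q (q 0) ∈ φ.range
        rw [hw, map_add, add_mul, show ι Q (q 0) * ι Q (q 0) = 0 from hcar.cc 0, add_zero]
        exact hgr
    exact hx
  have hwr : ∀ x : V, e x * e w ∈ φ.range := fun x => by
    rw [show e x * e w = algebraMap A _ (QuadraticMap.polar Q x w) - e w * e x from
      eq_sub_of_add_eq (ι_mul_ι_add_swap x w)]
    exact sub_mem (φ.range.algebraMap_mem _) (hwl x)
  have hall : ∀ x y : V, ι Q x * ι Q y ∈ φ.range := fun x y => by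
    have : e x * e w * (e w * e y) = e x * e y := by rw [mul_assoc, hww']
    rw [← show e x * e y = ι Q x * ι Q y from rfl, ← this]
    exact mul_mem (hwr x) (hwl y)
  have heq : φ.range = CliffordAlgebra.even Q := by
    refine le_antisymm ?_ fun x hx => ?_
    · rintro _ ⟨M, rfl⟩
      exact (Φ M).2
    · induction x, hx using CliffordAlgebra.even_induction with
      | algebraMap r => exact φ.range.algebraMap_mem r
      | add x y _ _ hx hy => exact add_mem hx hy
      | ι_mul_ι_mul x y z _ hz => exact mul_mem (hall x y) hz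
  have htors : ∀ r : A, (r • (ε' : CliffordAlgebra.even Q) = 0 ∨ r • (1 - ε') = 0) → r = 0 := fun r hr => by
    have hx : r • e w = 0 := by
      rcases hr with hr | hr
      · have hr' : r • ε = 0 := congrArg Subtype.val hr
        rw [← hrel w, smul_add, ← mul_smul_comm, ← smul_mul_assoc, hr', mul_zero, zero_mul, add_zero]
      · have hr' : r • (1 - ε) = 0 := congrArg Subtype.val hr
        have : e w = e w * (1 - ε) + (1 - ε) * e w := by
          conv_lhs => rw [← add_sub_cancel_right (e w) (e w)]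
          rw [mul_sub, sub_mul, mul_one, one_mul]
          conv_lhs => arg 2; rw [← hrel w]
          abel
        rw [this, smul_add, ← mul_smul_comm, ← smul_mul_assoc, hr', mul_zero, zero_mul, add_zero]
    apply algebraMap_injective Q
    rw [map_zero, Algebra.algebraMap_eq_smul_one, ← hww, ← smul_mul_assoc, hx, zero_mul]
  have hkill : ∀ (η : CliffordAlgebra.even Q), (∀ z, z * η = η * z) → (∀ r : A, r • η = 0 → r = 0) →
      ∀ N : M2, φ₀ N * η = 0 → N = 0 := by
    intro η hc hη N hN
    ext i j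
    refine hη _ ?_
    rw [← one_mul η, ← map_one φ₀, ← Matrix.sum_single_one (α := A) (m := Fin (2 ^ m)), map_sum, Finset.sum_mul,
      Finset.smul_sum]
    refine Finset.sum_eq_zero fun k _ => ?_
    have hk : Matrix.single k i (1 : A) * N * Matrix.single j k 1 = N i j • Matrix.single k k 1 := by
      rw [Matrix.smul_single, Matrix.single_mul_mul_single]; simp
    rw [← smul_mul_assoc, ← map_smul, ← hk, map_mul, map_mul, mul_assoc (φ₀ (Matrix.single k i (1 : A))) (φ₀ N)]
    rw [mul_assoc, mul_assoc, hc, ← mul_assoc (φ₀ N), hN, zero_mul, mul_zero]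
  have hinj : Function.Injective Φ := (injective_iff_map_eq_zero Φ).2 fun X hX => by
    change L X = 0 at hX
    rw [hL] at hX
    have h1 : φ₀ X.1 * ε' = 0 := by
      have := congrArg (· * ε') hX
      simpa only [add_mul, mul_assoc, hε', hε2, mul_zero, add_zero, zero_mul] using this
    have h2 : φ₀ X.2 * (1 - ε') = 0 := by rwa [h1, zero_add] at hX
    exact Prod.ext (hkill ε' hcomm (fun r hr => htors r (.inl hr)) _ h1) (hkill (1 - ε') hcomm' (fun r hr => htors r (.inr hr)) _ h2)
  exact ⟨((AlgEquiv.ofInjective φ (Subtype.val_injective.comp hinj)).trans (Subalgebra.equivOfEq _ _ heq)).symm⟩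

end Groth.Agent.CliffSm
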