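import Groth.Agent.CliffSm.Field
import Groth.Agent.CliffSm.BaseChange
import Mathlib.LinearAlgebra.Matrix.ToLinearEquiv
import Mathlib.LinearAlgebra.FiniteDimensional.Lemmas

/-!
# Orthogonal frames of semiregular forms
-/

set_option autoImplicit false
noncomputable section

universe u v

open QuadraticMap TensorProduct

namespace Groth.Agent.CliffSm

variable {R : Type u} [CommRing R] {M : Type v} [AddCommGroup M] [Module R M] (Q : QuadraticForm R M)

/-- The discriminant of the plane through `x` and `y`. -/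
def plDisc (x y : M) : R := polar Q x y * polar Q x y - 4 * (Q x * Q y)

theorem polar_self' (x : M) : polar Q x x = 2 * Q x := by
  rw [QuadraticMap.polar_self, nsmul_eq_mul, Nat.cast_ofNat]

/-- Mutually orthogonal planes. -/
structure IsPlanes {m : ℕ} (u v : Fin m → M) : Prop where
  uu : ∀ i j, i ≠ j → polar Q (u i) (u j) = 0
  vv : ∀ i j, i ≠ j → polar Q (v i) (v j) = 0
  uv : ∀ i j, i ≠ j → polar Q (u i) (v j) = 0

/-- Mutually orthogonal planes and a line. -/
structure IsFrame {m : ℕ} (u v : Fin m → M) (w : M) : Prop extends IsPlanes Q u v where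
  uw : ∀ i, polar Q (u i) w = 0
  vw : ∀ i, polar Q (v i) w = 0

theorem IsPlanes.vu {m : ℕ} {u v : Fin m → M} (h : IsPlanes Q u v) (i j : Fin m) (hij : i ≠ j) :
    polar Q (v i) (u j) = 0 := by rw [QuadraticMap.polar_comm]; exact h.uv j i (Ne.symm hij)

theorem IsPlanes.cons {m : ℕ} {u v : Fin m → M} (h : IsPlanes Q u v) {x y : M}
    (hxu : ∀ i, polar Q x (u i) = 0) (hxv : ∀ i, polar Q x (v i) = 0)
    (hyu : ∀ i, polar Q y (u i) = 0) (hyv : ∀ i, polar Q y (v i) = 0) :
    IsPlanes Q (Fin.cons x u : Fin (m + 1) → M) (Fin.cons y v : Fin (m + 1) → M) := by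
  refine ⟨fun i j hij => ?_, fun i j hij => ?_, fun i j hij => ?_⟩ <;>
    induction i using Fin.cases <;> induction j using Fin.cases <;>
    simp only [Fin.cons_zero, Fin.cons_succ]
  · exact absurd rfl hij
  · exact hxu _
  · rw [QuadraticMap.polar_comm]; exact hxu _
  · exact h.uu _ _ fun e => hij (by rw [e])
  · exact absurd rfl hij
  · exact hyv _
  · rw [QuadraticMap.polar_comm]; exact hyv _
  · exact h.vv _ _ fun e => hij (by rw [e])
  · exact absurd rfl hij
  · exact hxv _
  · rw [QuadraticMap.polar_comm]; exact hyu _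
  · exact h.uv _ _ fun e => hij (by rw [e])

section Proj

variable {m : ℕ} (u v : Fin m → M)

/-- The scaled orthogonal projection away from the planes. -/
def orthProj : M →ₗ[R] M :=
  (∏ i, plDisc Q (u i) (v i)) • LinearMap.id -
    ∑ i, (∏ k ∈ Finset.univ.erase i, plDisc Q (u k) (v k)) •
      (((polar Q (u i) (v i)) • (polarBilin Q (v i)) - (2 * Q (v i)) • (polarBilin Q (u i))).smulRight (u i) +
       ((polar Q (u i) (v i)) • (polarBilin Q (u i)) - (2 * Q (u i)) • (polarBilin Q (v i))).smulRight (v i))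

theorem orthProj_apply (x : M) : orthProj Q u v x = (∏ i, plDisc Q (u i) (v i)) • x -
    ∑ i, (∏ k ∈ Finset.univ.erase i, plDisc Q (u k) (v k)) •
      ((polar Q (u i) (v i) * polar Q (v i) x - 2 * Q (v i) * polar Q (u i) x) • u i +
       (polar Q (u i) (v i) * polar Q (u i) x - 2 * Q (u i) * polar Q (v i) x) • v i) := by
  simp [orthProj, LinearMap.smulRight_apply]

theorem orth_u (h : IsPlanes Q u v) (x : M) (k : Fin m) : polar Q (orthProj Q u v x) (u k) = 0 := by
  rw [orthProj_apply, ← polarBilin_apply_apply, map_sub, map_sum, LinearMap.sub_apply, LinearMap.sum_apply,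
    Finset.sum_eq_single k]
  · simp only [map_smul, map_add, LinearMap.smul_apply, LinearMap.add_apply, polarBilin_apply_apply,
      smul_eq_mul]
    rw [← Finset.prod_erase_mul Finset.univ _ (Finset.mem_univ k), polar_self',
      QuadraticMap.polar_comm Q (v k) (u k), QuadraticMap.polar_comm Q x (u k), plDisc]
    ring
  · intro i _ hi
    simp [h.uu i k hi, h.vu _ i k hi]
  · exact fun hk => absurd (Finset.mem_univ k) hk

theorem orth_v (h : IsPlanes Q u v) (x : M) (k : Fin m) : polar Q (orthProj Q u v x) (v k) = 0 := by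
  rw [orthProj_apply, ← polarBilin_apply_apply, map_sub, map_sum, LinearMap.sub_apply, LinearMap.sum_apply,
    Finset.sum_eq_single k]
  · simp only [map_smul, map_add, LinearMap.smul_apply, LinearMap.add_apply, polarBilin_apply_apply,
      smul_eq_mul]
    rw [← Finset.prod_erase_mul Finset.univ _ (Finset.mem_univ k), polar_self',
      QuadraticMap.polar_comm Q x (v k), plDisc]
    ring
  · intro i _ hi
    simp [h.uv i k hi, h.vv i k hi]
  · exact fun hk => absurd (Finset.mem_univ k) hk

theorem orthProj_sub_mem (x : M) : (∏ i, plDisc Q (u i) (v i)) • x - orthProj Q u v x ∈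
    Submodule.span R (Set.range u ∪ Set.range v) := by
  rw [orthProj_apply, sub_sub_cancel]
  refine Submodule.sum_mem _ fun i _ => Submodule.smul_mem _ _ (add_mem ?_ ?_)
  · exact Submodule.smul_mem _ _ (Submodule.subset_span (Or.inl ⟨i, rfl⟩))
  · exact Submodule.smul_mem _ _ (Submodule.subset_span (Or.inr ⟨i, rfl⟩))

theorem polar_orth_orth (h : IsPlanes Q u v) (x y : M) :
    polar Q (orthProj Q u v x) (orthProj Q u v y) =
      (∏ i, plDisc Q (u i) (v i)) * polar Q (orthProj Q u v x) y := by
  have hker : Submodule.span R (Set.range u ∪ Set.range v) ≤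
      LinearMap.ker (polarBilin Q (orthProj Q u v x)) := by
    rw [Submodule.span_le]
    rintro _ (⟨i, rfl⟩ | ⟨i, rfl⟩)
    · exact orth_u Q u v h x i
    · exact orth_v Q u v h x i
  have h0 := hker (orthProj_sub_mem Q u v y)
  rw [LinearMap.mem_ker, map_sub, map_smul, polarBilin_apply_apply, polarBilin_apply_apply,
    smul_eq_mul, sub_eq_zero] at h0
  exact h0.symm

end Proj

section Det

variable {m : ℕ} {u v : Fin m → M} {w : M}

/-- The family of the frame vectors. -/
abbrev fam (u v : Fin m → M) (w : M) : (Fin m ⊕ Fin m) ⊕ Unit → M :=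
  Sum.elim (Sum.elim u v) fun _ => w

variable (c : Module.Basis ((Fin m ⊕ Fin m) ⊕ Unit) R M)

theorem mem_of_smul_sum_mem (h : IsFrame Q u v w) (p : Ideal R) [p.IsPrime]
    (hd : ∀ i, plDisc Q (u i) (v i) ∉ p) (hw : Q w ∉ p) {a : (Fin m ⊕ Fin m) ⊕ Unit → R}
    (ha : ∑ k, a k • fam u v w k ∈ p • (⊤ : Submodule R M)) : ∀ k, a k ∈ p := by
  have hp : ∀ x ∈ p • (⊤ : Submodule R M), (∀ y, polar Q x y ∈ p) ∧ Q x ∈ p := by
    intro x hx
    refine Submodule.smul_induction_on hx (fun r hr y _ => ⟨fun z => ?_, ?_⟩) (fun x y hx hy => ⟨fun z => ?_, ?_⟩)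
    · rw [QuadraticMap.polar_smul_left, smul_eq_mul]; exact p.mul_mem_right _ hr
    · rw [QuadraticMap.map_smul, smul_eq_mul]; exact p.mul_mem_right _ (p.mul_mem_right _ hr)
    · rw [QuadraticMap.polar_add_left]; exact add_mem (hx.1 z) (hy.1 z)
    · rw [QuadraticMap.map_add (⇑Q)]; exact add_mem (add_mem hx.2 hy.2) (hx.1 y)
  have hB : ∀ y, polar Q (∑ k, a k • fam u v w k) y = ∑ k, a k * polar Q (fam u v w k) y := fun y => by
    rw [← polarBilin_apply_apply, map_sum, LinearMap.sum_apply]
    simp
  have huv : ∀ i, a (.inl (.inl i)) ∈ p ∧ a (.inl (.inr i)) ∈ p := by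
    intro i
    have h1 := (hp _ ha).1 (u i)
    have h2 := (hp _ ha).1 (v i)
    rw [hB, Fintype.sum_sum_type, Fintype.sum_sum_type,
      Finset.sum_eq_single (s := (Finset.univ : Finset (Fin m))) i
        (fun j _ hj => by simp [h.uu j i hj]) (fun hk => absurd (Finset.mem_univ i) hk),
      Finset.sum_eq_single (s := (Finset.univ : Finset (Fin m))) i
        (fun j _ hj => by simp [h.vu _ j i hj]) (fun hk => absurd (Finset.mem_univ i) hk)] at h1
    rw [hB, Fintype.sum_sum_type, Fintype.sum_sum_type,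
      Finset.sum_eq_single (s := (Finset.univ : Finset (Fin m))) i
        (fun j _ hj => by simp [h.uv j i hj]) (fun hk => absurd (Finset.mem_univ i) hk),
      Finset.sum_eq_single (s := (Finset.univ : Finset (Fin m))) i
        (fun j _ hj => by simp [h.vv j i hj]) (fun hk => absurd (Finset.mem_univ i) hk)] at h2
    simp only [Fintype.sum_unique, Sum.elim_inl, Sum.elim_inr, polar_self', QuadraticMap.polar_comm Q w, h.uw i, h.vw i,
      QuadraticMap.polar_comm Q (v i) (u i), mul_zero, add_zero] at h1 h2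
    constructor
    · refine (Ideal.IsPrime.mem_or_mem inferInstance
        (show plDisc Q (u i) (v i) * a (.inl (.inl i)) ∈ p from ?_)).resolve_left (hd i)
      convert sub_mem (p.mul_mem_left (polar Q (u i) (v i)) h2) (p.mul_mem_left (2 * Q (v i)) h1) using 1
      rw [plDisc]; ring
    · refine (Ideal.IsPrime.mem_or_mem inferInstance
        (show plDisc Q (u i) (v i) * a (.inl (.inr i)) ∈ p from ?_)).resolve_left (hd i)
      convert sub_mem (p.mul_mem_left (polar Q (u i) (v i)) h1) (p.mul_mem_left (2 * Q (u i)) h2) using 1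
      rw [plDisc]; ring
  have hw' : a (.inr ()) ∈ p := by
    have hrest : ∑ k : Fin m ⊕ Fin m, a (.inl k) • fam u v w (.inl k) ∈ p • (⊤ : Submodule R M) :=
      Submodule.sum_mem _ fun k _ => Submodule.smul_mem_smul
        (by rcases k with i | i; exacts [(huv i).1, (huv i).2]) trivial
    rw [Fintype.sum_sum_type] at ha
    simp only [Fintype.sum_unique (ι := Unit)] at ha
    have h3 := (hp _ ((Submodule.add_mem_iff_right _ hrest).1 ha)).2
    rw [QuadraticMap.map_smul, smul_eq_mul] at h3
    have h4 := (Ideal.IsPrime.mem_or_mem inferInstance h3).resolve_right hw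
    exact (Ideal.IsPrime.mem_or_mem inferInstance h4).elim id id
  rintro ((i | i) | ⟨⟩)
  exacts [(huv i).1, (huv i).2, hw']

theorem det_fam_notMem (h : IsFrame Q u v w) (p : Ideal R) [p.IsPrime]
    (hd : ∀ i, plDisc Q (u i) (v i) ∉ p) (hw : Q w ∉ p) : (c.toMatrix (fam u v w)).det ∉ p := by
  intro hdet
  have h0 : ((c.toMatrix (fam u v w)).map (Ideal.Quotient.mk p)).det = 0 := by
    rw [← RingHom.mapMatrix_apply, ← RingHom.map_det, Ideal.Quotient.eq_zero_iff_mem]; exact hdet
  obtain ⟨a, ha0, ha⟩ := Matrix.exists_mulVec_eq_zero_iff.2 h0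
  choose a' ha' using fun k => Ideal.Quotient.mk_surjective (a k)
  refine ha0 (funext fun k => ?_)
  rw [← ha', Pi.zero_apply, Ideal.Quotient.eq_zero_iff_mem]
  refine mem_of_smul_sum_mem Q h p hd hw ?_ k
  rw [← c.sum_repr (∑ k, a' k • fam u v w k)]
  refine Submodule.sum_mem _ fun i _ => Submodule.smul_mem_smul ?_ trivial
  rw [← Ideal.Quotient.eq_zero_iff_mem]
  have := congrFun ha i
  simp only [Matrix.mulVec, dotProduct, Matrix.map_apply, Pi.zero_apply, ← ha', ← map_mul, ← map_sum,
    Module.Basis.toMatrix_apply] at this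
  rw [← this, map_sum, Finsupp.finsetSum_apply]
  congr 1
  exact Finset.sum_congr rfl fun k _ => by simp [mul_comm]

theorem det_smul_mem (x : M) : (c.toMatrix (fam u v w)).det • x ∈
    Submodule.span R (Set.range (fam u v w)) := by
  set G := c.toMatrix (fam u v w)
  have key : ∀ r, G.det • c r = ∑ k, G.adjugate k r • fam u v w k := fun r => by
    refine c.ext_elem fun s => ?_
    have := congrFun (congrFun (Matrix.mul_adjugate G) s) r
    rw [Matrix.mul_apply, Matrix.smul_apply, Matrix.one_apply, smul_eq_mul] at this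
    rw [map_smul, map_sum, Finsupp.smul_apply, Finsupp.finsetSum_apply, c.repr_self,
      Finsupp.single_apply, smul_eq_mul]
    simp only [map_smul, Finsupp.smul_apply, smul_eq_mul]
    rw [Finset.sum_congr rfl fun k _ => mul_comm (G.adjugate k r) _]
    simp only [G, Module.Basis.toMatrix_apply] at this ⊢
    rw [this]
    simp [eq_comm]
  rw [← c.sum_repr x, Finset.smul_sum]
  refine Submodule.sum_mem _ fun r _ => ?_
  rw [smul_comm, key]
  exact Submodule.smul_mem _ _ (Submodule.sum_mem _ fun k _ =>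
    Submodule.smul_mem _ _ (Submodule.subset_span ⟨k, rfl⟩))

theorem isUnit_det_fam (h : IsFrame Q u v w) (hd : ∀ i, IsUnit (plDisc Q (u i) (v i))) (hw : IsUnit (Q w)) :
    IsUnit (c.toMatrix (fam u v w)).det := by
  by_contra hu
  obtain ⟨p, hp, hmem⟩ := exists_max_ideal_of_mem_nonunits hu
  have : p.IsPrime := hp.isPrime
  exact det_fam_notMem Q c h p (fun i hi => hp.ne_top (p.eq_top_of_isUnit_mem hi (hd i)))
    (fun hi => hp.ne_top (p.eq_top_of_isUnit_mem hi hw)) hmem

end Det

section Exists

theorem exists_line {L : Type*} [Field L] {V : Type*} [AddCommGroup V] [Module L V] (W : Submodule L V)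
    (h : Module.rank L W ≤ 1) : ∃ k₀ : V, W ≤ L ∙ k₀ :=
  (rank_submodule_le_one_iff' _).1 h

variable [Module.Free R M] {n : ℕ} (b : Module.Basis (Fin n) R M) (p : Ideal R) [p.IsPrime]

local notation "K" => p.ResidueField

theorem nondeg_residue (hn : Odd n) (hu : IsUnit (QuadGrp.halfDisc b (LinearEquiv.refl R R) Q)) :
    Nondegenerate (Q := QuadGrp.baseChangeForm p.ResidueField Q) :=
  (isUnit_halfDisc_iff b Q hn).1 hu p

theorem polar_one_tmul (x y : M) :
    polar (QuadGrp.baseChangeForm K Q) ((1 : K) ⊗ₜ[R] x) ((1 : K) ⊗ₜ[R] y) =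
      algebraMap R K (polar Q x y) := by
  have h : ∀ z, QuadGrp.baseChangeForm K Q ((1 : K) ⊗ₜ[R] z) = algebraMap R K (Q z) := fun z => by
    simp [QuadGrp.baseChangeForm, QuadGrp.baseChange_tmul, Algebra.algebraMap_eq_smul_one]
  simp only [polar, ← tmul_add, h, map_sub]

variable (hN : Nondegenerate (Q := QuadGrp.baseChangeForm p.ResidueField Q))

include b in
theorem polarBilin_one_tmul_eq_zero {x : M} (h : ∀ y, polar Q x y ∈ p) :
    polarBilin (QuadGrp.baseChangeForm K Q) ((1 : K) ⊗ₜ[R] x) = 0 := by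
  refine (b.baseChange K).ext fun i => ?_
  rw [polarBilin_apply_apply, Module.Basis.baseChange_apply, polar_one_tmul,
    Ideal.algebraMap_residueField_eq_zero.2 (h _), LinearMap.zero_apply]

include hN b in
theorem one_tmul_eq_zero_of {x : M} (h : ∀ y, polar Q x y ∈ p) (hx : Q x ∈ p) : (1 : K) ⊗ₜ[R] x = 0 := by
  refine (Submodule.mem_bot K).1 (hN.radical_eq_bot ▸ ⟨?_, polarBilin_one_tmul_eq_zero Q b p h⟩)
  simp [QuadGrp.baseChangeForm, QuadGrp.baseChange_tmul, ← Algebra.algebraMap_eq_smul_one,
    Ideal.algebraMap_residueField_eq_zero.2 hx]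

omit [Module.Free R M] in
include b in
/-- Vectors that span after inverting a scalar span the fibre. -/
theorem le_card_of_span (S : Finset (K ⊗[R] M)) {d : R} (hd : d ∉ p)
    (h : ∀ x : M, (1 : K) ⊗ₜ[R] (d • x) ∈ Submodule.span K (S : Set (K ⊗[R] M))) : n ≤ S.card := by
  have htop : Submodule.span K (S : Set (K ⊗[R] M)) = ⊤ := by
    rw [eq_top_iff, ← (b.baseChange K).span_eq, Submodule.span_le]
    rintro _ ⟨i, rfl⟩
    have := h (b i)
    rw [tmul_smul, ← algebraMap_smul K d] at this
    rw [SetLike.mem_coe, Module.Basis.baseChange_apply]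
    exact (Submodule.smul_mem_iff _ (fun h0 => hd (Ideal.algebraMap_residueField_eq_zero.1 h0))).1 this
  have h1 := finrank_span_finset_le_card (R := K) S
  rw [Set.finrank, htop, finrank_top, Module.finrank_eq_card_basis (b.baseChange K), Fintype.card_fin] at h1
  exact h1

/-- The good planes. -/
def IsGood {m : ℕ} (u v : Fin m → M) : Prop :=
  IsPlanes Q u v ∧ (∀ i, plDisc Q (u i) (v i) ∉ p) ∧ ∀ i, Q (v i) ∉ p

omit [Module.Free R M] in
theorem IsGood.prod_notMem {m : ℕ} {u v : Fin m → M} (h : IsGood Q p u v) :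
    (∏ i, plDisc Q (u i) (v i)) ∉ p := fun hmem =>
  let ⟨i, _, hi⟩ := (Ideal.IsPrime.prod_mem_iff (p := p)).1 hmem
  h.2.1 i hi

omit [Module.Free R M] in
theorem one_tmul_planes {m : ℕ} {u v : Fin m → M} (x : M) :
    (1 : K) ⊗ₜ[R] ((∏ i, plDisc Q (u i) (v i)) • x - orthProj Q u v x) ∈ Submodule.span K
      (Set.range (fun i => (1 : K) ⊗ₜ[R] u i) ∪ Set.range (fun i => (1 : K) ⊗ₜ[R] v i)) := by
  have h := Submodule.mem_map_of_mem (f := TensorProduct.mk R K M 1) (orthProj_sub_mem Q u v x)
  rw [Submodule.map_span, Set.image_union, ← Set.range_comp, ← Set.range_comp] at h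
  exact Submodule.span_le_restrictScalars R K _ h

include b in
theorem two_mul_add_card {m : ℕ} {u v : Fin m → M} (S : Finset (K ⊗[R] M)) {d : R} (hd : d ∉ p)
    (h : ∀ x, d • (1 : K) ⊗ₜ[R] orthProj Q u v x ∈ Submodule.span K (S : Set (K ⊗[R] M)))
    (hg : IsGood Q p u v) : n ≤ 2 * m + S.card := by
  classical
  let T := Finset.univ.image (fun i => (1 : K) ⊗ₜ[R] u i) ∪ Finset.univ.image (fun i => (1 : K) ⊗ₜ[R] v i)
  have hT : T.card ≤ 2 * m := by
    refine (Finset.card_union_le _ _).trans ?_
    have h1 : ∀ f : Fin m → K ⊗[R] M, (Finset.univ.image f).card ≤ m := fun f => by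
      simpa using Finset.card_image_le (s := Finset.univ) (f := f)
    have := h1 (fun i => (1 : K) ⊗ₜ[R] u i)
    have := h1 (fun i => (1 : K) ⊗ₜ[R] v i)
    omega
  refine (le_card_of_span b p (T ∪ S) (d := d * ∏ i, plDisc Q (u i) (v i)) ?_ fun x => ?_).trans
    ((Finset.card_union_le _ _).trans (by omega))
  · exact fun hm => (Ideal.IsPrime.mem_or_mem inferInstance hm).elim hd hg.prod_notMem
  · rw [mul_smul, tmul_smul,
      show (∏ i, plDisc Q (u i) (v i)) • x =
        ((∏ i, plDisc Q (u i) (v i)) • x - orthProj Q u v x) + orthProj Q u v x by rw [sub_add_cancel],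
      tmul_add, smul_add, Finset.coe_union, Submodule.span_union]
    refine Submodule.add_mem_sup ?_ (h x)
    have h1 := one_tmul_planes Q p (u := u) (v := v) x
    rw [← algebraMap_smul K d]
    refine Submodule.smul_mem _ _ ?_
    simpa [T, Finset.coe_union, Finset.coe_image] using h1

include hN b in
theorem exists_notMem_orth {m : ℕ} {u v : Fin m → M} (hg : IsGood Q p u v) (hlt : 2 * m < n) :
    ∃ x, Q (orthProj Q u v x) ∉ p := by
  by_contra! hall
  have hz : ∀ x, (1 : K) ⊗ₜ[R] orthProj Q u v x = 0 := fun x => by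
    refine one_tmul_eq_zero_of Q b p hN (fun y => ?_) (hall x)
    have h2 : polar Q (orthProj Q u v x) (orthProj Q u v y) ∈ p := by
      have := hall (x + y)
      rw [map_add, QuadraticMap.map_add (⇑Q)] at this
      exact (Submodule.add_mem_iff_right _ (add_mem (hall x) (hall y))).1 this
    rw [polar_orth_orth Q u v hg.1] at h2
    exact (Ideal.IsPrime.mem_or_mem inferInstance h2).resolve_left hg.prod_notMem
  have h1 : n ≤ 2 * m + (∅ : Finset (K ⊗[R] M)).card :=
    two_mul_add_card Q b p ∅ (d := 1) (fun h => Ideal.IsPrime.ne_top' ((Ideal.eq_top_iff_one p).2 h))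
      (fun x => by rw [hz, smul_zero]; exact zero_mem _) hg
  simp at h1
  omega

include hN b in
theorem exists_good : ∀ m : ℕ, 2 * m ≤ n → ∃ u v : Fin m → M, IsGood Q p u v := by
  intro m
  induction m with
  | zero => exact fun _ => ⟨0, 0, ⟨fun i => i.elim0, fun i => i.elim0, fun i => i.elim0⟩,
      fun i => i.elim0, fun i => i.elim0⟩
  | succ m ih =>
    intro hlt
    obtain ⟨u, v, hg⟩ := ih (by omega)
    set π := orthProj Q u v
    suffices ∃ x y, polar Q (π x) (π y) * polar Q (π x) (π y) - 4 * (Q (π x) * Q (π y)) ∉ p ∧ Q (π y) ∉ p by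
      obtain ⟨x, y, hxy, hy⟩ := this
      refine ⟨Fin.cons (π x) u, Fin.cons (π y) v, hg.1.cons _ (orth_u Q u v hg.1 x) (orth_v Q u v hg.1 x)
        (orth_u Q u v hg.1 y) (orth_v Q u v hg.1 y), fun i => ?_, fun i => ?_⟩
      · induction i using Fin.cases with
        | zero => simpa only [Fin.cons_zero, plDisc] using hxy
        | succ i => simpa only [Fin.cons_succ] using hg.2.1 i
      · induction i using Fin.cases with
        | zero => simpa only [Fin.cons_zero] using hy
        | succ i => simpa only [Fin.cons_succ] using hg.2.2 i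
    by_cases h2 : (2 : R) ∈ p
    · obtain ⟨x, y, hxy⟩ : ∃ x y, polar Q (π x) (π y) ∉ p := by
        by_contra! hall
        have hk : ∀ x, (1 : K) ⊗ₜ[R] π x ∈ LinearMap.ker (polarBilin (QuadGrp.baseChangeForm K Q)) := by
          intro x
          refine polarBilin_one_tmul_eq_zero Q b p fun y => ?_
          have := hall x y
          rw [polar_orth_orth Q u v hg.1] at this
          exact (Ideal.IsPrime.mem_or_mem inferInstance this).resolve_left hg.prod_notMem
        obtain ⟨k₀, hk₀⟩ := exists_line _ hN.rank_rad_polar_le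
        have := two_mul_add_card Q b p {k₀} (d := 1)
          (fun h => Ideal.IsPrime.ne_top' ((Ideal.eq_top_iff_one p).2 h))
          (fun x => by rw [one_smul, Finset.coe_singleton]; exact hk₀ (hk x)) hg
        simp at this
        omega
      have hd : ∀ a c : M, polar Q a c ∉ p → polar Q a c * polar Q a c - 4 * (Q a * Q c) ∉ p := by
        intro a c hac hmem
        have h4 : 4 * (Q a * Q c) ∈ p := by
          rw [show (4 : R) = 2 * 2 by norm_num, mul_assoc]; exact p.mul_mem_right _ h2
        have := add_mem hmem h4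
        rw [sub_add_cancel] at this
        exact hac ((Ideal.IsPrime.mem_or_mem inferInstance this).elim id id)
      by_cases hy : Q (π y) ∈ p
      · by_cases hx : Q (π x) ∈ p
        · refine ⟨x, x + y, hd _ _ ?_, ?_⟩
          · rw [map_add, QuadraticMap.polar_add_right, polar_self']
            exact fun hm => hxy ((Submodule.add_mem_iff_right _ (p.mul_mem_right _ h2)).1 hm)
          · rw [map_add, QuadraticMap.map_add (⇑Q)]
            exact fun hm => hxy ((Submodule.add_mem_iff_right _ (add_mem hx hy)).1 hm)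
        · exact ⟨y, x, hd _ _ (by rwa [QuadraticMap.polar_comm]), hx⟩
      · exact ⟨x, y, hd _ _ hxy, hy⟩
    · obtain ⟨y, hy⟩ := exists_notMem_orth Q b p hN hg (by omega)
      have h2y : 2 * Q (π y) ∉ p := fun hm => (Ideal.IsPrime.mem_or_mem inferInstance hm).elim h2 hy
      suffices ∃ x, polar Q (π x) (π y) = 0 ∧ Q (π x) ∉ p by
        obtain ⟨x, hx0, hx⟩ := this
        refine ⟨x, y, ?_, hy⟩
        rw [hx0, mul_zero, zero_sub, neg_mem_iff, show (4 : R) = 2 * 2 by norm_num, mul_assoc]
        exact fun hm => (Ideal.IsPrime.mem_or_mem inferInstance hm).elim h2 fun hm =>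
          (Ideal.IsPrime.mem_or_mem inferInstance hm).elim h2 fun hm =>
            (Ideal.IsPrime.mem_or_mem inferInstance hm).elim hx hy
      let σ : M → M := fun z => (2 * Q (π y)) • z - polar Q (π z) (π y) • y
      have hπσ : ∀ z, π (σ z) = (2 * Q (π y)) • π z - polar Q (π z) (π y) • π y := fun z => by
        rw [map_sub, map_smul, map_smul]
      have horth : ∀ z, polar Q (π (σ z)) (π y) = 0 := fun z => by
        rw [hπσ, QuadraticMap.polar_sub_left, QuadraticMap.polar_smul_left, QuadraticMap.polar_smul_left,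
          polar_self', smul_eq_mul, smul_eq_mul]
        ring
      suffices ∃ z, Q (π (σ z)) ∉ p from let ⟨z, hz⟩ := this; ⟨σ z, horth z, hz⟩
      by_contra! hall
      have hσadd : ∀ z z', σ (z + z') = σ z + σ z' := fun z z' => by
        simp only [σ, map_add, QuadraticMap.polar_add_left, smul_add, add_smul]
        abel
      have hz : ∀ z, (1 : K) ⊗ₜ[R] π (σ z) = 0 := fun z => by
        refine one_tmul_eq_zero_of Q b p hN (fun t => ?_) (hall z)
        have h3 : polar Q (π (σ z)) (π (σ t)) ∈ p := by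
          have := hall (z + t)
          rw [hσadd, map_add, QuadraticMap.map_add (⇑Q)] at this
          exact (Submodule.add_mem_iff_right _ (add_mem (hall z) (hall t))).1 this
        rw [hπσ t, QuadraticMap.polar_sub_right, QuadraticMap.polar_smul_right,
          QuadraticMap.polar_smul_right, horth, smul_zero, sub_zero, smul_eq_mul,
          polar_orth_orth Q u v hg.1] at h3
        exact ((Ideal.IsPrime.mem_or_mem inferInstance
          ((Ideal.IsPrime.mem_or_mem inferInstance h3).resolve_left h2y))).resolve_left hg.prod_notMem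
      have := two_mul_add_card Q b p {(1 : K) ⊗ₜ[R] π y} h2y
        (fun z => by
          have := hz z
          rw [hπσ, tmul_sub, tmul_smul, tmul_smul, sub_eq_zero] at this
          rw [this, Finset.coe_singleton, ← algebraMap_smul K]
          exact Submodule.smul_mem _ _ (Submodule.mem_span_singleton_self _)) hg
      simp at this
      omega

end Exists

/-- Near every prime, a semiregular form has an orthogonal frame. -/
theorem exists_frame_at [Module.Free R M] (m : ℕ) (b : Module.Basis (Fin (2 * m + 1)) R M)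
    (hu : IsUnit (QuadGrp.halfDisc b (LinearEquiv.refl R R) Q)) (p : Ideal R) [p.IsPrime] :
    ∃ (u v : Fin m → M) (w : M), IsFrame Q u v w ∧ (∀ i, plDisc Q (u i) (v i) ∉ p) ∧
      (∀ i, Q (v i) ∉ p) ∧ Q w ∉ p := by
  have hN := nondeg_residue Q b p ⟨m, rfl⟩ hu
  obtain ⟨u, v, hg⟩ := exists_good Q b p hN m (by omega)
  obtain ⟨x, hx⟩ := exists_notMem_orth Q b p hN hg (by omega)
  refine ⟨u, v, orthProj Q u v x, ⟨hg.1, fun i => ?_, fun i => ?_⟩, hg.2.1, hg.2.2, hx⟩
  · rw [QuadraticMap.polar_comm]; exact orth_u Q u v hg.1 x i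
  · rw [QuadraticMap.polar_comm]; exact orth_v Q u v hg.1 x i

end Groth.Agent.CliffSm
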