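import Groth.Agent.CliffSm.Basic

/-!
# Common kernel of contractions against an almost dual system
-/

set_option autoImplicit false
noncomputable section

universe u v

open CliffordAlgebra

namespace Groth.Agent.CliffSm

variable {S : Type u} [CommRing S] {M : Type v} [AddCommGroup M] [Module S M] {n : ℕ}
  (b : Module.Basis (Fin n) S M) (k : Fin n) (g : S) (d : Fin n → Module.Dual S M)
  (hd : ∀ a r, a ≠ k → r ≠ k → d a (b r) = if r = a then g else 0)

/-- The vector killed by all functionals. -/
def eVec : M := g • b k - ∑ a ∈ Finset.univ.erase k, d a (b k) • b a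

include hd in
theorem d_eVec (a : Fin n) (ha : a ≠ k) : d a (eVec b k g d) = 0 := by
  rw [eVec, map_sub, map_smul, map_sum, Finset.sum_eq_single a]
  · rw [map_smul, hd a a ha ha, if_pos rfl, smul_eq_mul, smul_eq_mul, mul_comm, sub_self]
  · intro r hr hra
    rw [map_smul, hd a r ha (Finset.ne_of_mem_erase hr), if_neg hra, smul_zero]
  · exact fun h => absurd (Finset.mem_erase.2 ⟨ha, Finset.mem_univ a⟩) h

/-- One projector. -/
def proj1 (a : Fin n) : ExteriorAlgebra S M →ₗ[S] ExteriorAlgebra S M :=
  g • LinearMap.id - LinearMap.mulLeft S (ExteriorAlgebra.ι S (b a)) ∘ₗ contractLeft (d a)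

theorem proj1_apply (a : Fin n) (z : ExteriorAlgebra S M) :
    proj1 b g d a z = g • z - ExteriorAlgebra.ι S (b a) * contractLeft (d a) z := rfl

/-- The product of projectors. -/
def projList : List (Fin n) → (ExteriorAlgebra S M →ₗ[S] ExteriorAlgebra S M)
  | [] => LinearMap.id
  | a :: l => proj1 b g d a ∘ₗ projList l

theorem ext_ι_anticomm (x y : M) (z : ExteriorAlgebra S M) :
    ExteriorAlgebra.ι S x * (ExteriorAlgebra.ι S y * z) =
      -(ExteriorAlgebra.ι S y * (ExteriorAlgebra.ι S x * z)) := by
  rw [← mul_assoc, ← mul_assoc, ← neg_mul, eq_neg_of_add_eq_zero_left (ExteriorAlgebra.ι_add_mul_swap x y)]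

theorem contractLeft_ext_ι_mul (d : Module.Dual S M) (y : M) (z : ExteriorAlgebra S M) :
    contractLeft d (ExteriorAlgebra.ι S y * z) = d y • z - ExteriorAlgebra.ι S y * contractLeft d z :=
  contractLeft_ι_mul _ _ _

theorem proj1_ι_mul (a : Fin n) (y : M) (hy : d a y = 0) (z : ExteriorAlgebra S M) :
    proj1 b g d a (ExteriorAlgebra.ι S y * z) = ExteriorAlgebra.ι S y * proj1 b g d a z := by
  rw [proj1_apply, proj1_apply, contractLeft_ext_ι_mul, hy, zero_smul, zero_sub, mul_neg,
    ext_ι_anticomm, neg_neg, mul_sub, mul_smul_comm]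

theorem projList_ι_mul : ∀ (l : List (Fin n)) (y : M), (∀ a ∈ l, d a y = 0) →
    ∀ z, projList b g d l (ExteriorAlgebra.ι S y * z) = ExteriorAlgebra.ι S y * projList b g d l z := by
  intro l
  induction l with
  | nil => intro y _ z; rfl
  | cons a l ih =>
    intro y hy z
    show proj1 b g d a (projList b g d l (_ * z)) = _ * proj1 b g d a (projList b g d l z)
    rw [ih y (fun x hx => hy x (List.mem_cons_of_mem a hx)),
      proj1_ι_mul b g d a y (hy a List.mem_cons_self)]

include hd in
theorem projList_basis_mul : ∀ (l : List (Fin n)), (∀ a ∈ l, a ≠ k) → ∀ c ∈ l,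
    ∀ z, projList b g d l (ExteriorAlgebra.ι S (b c) * z) = 0 := by
  intro l
  induction l with
  | nil => intro _ c hc; exact absurd hc List.not_mem_nil
  | cons a l ih =>
    intro hl c hc z
    show proj1 b g d a (projList b g d l (_ * z)) = 0
    have hl' : ∀ x ∈ l, x ≠ k := fun x hx => hl x (List.mem_cons_of_mem a hx)
    by_cases hcl : c ∈ l
    · rw [ih hl' c hcl z, map_zero]
    · obtain rfl : c = a := (List.mem_cons.1 hc).resolve_right hcl
      rw [projList_ι_mul b g d l (b c) (fun x hx => by
        rw [hd x c (hl' x hx) (hl c List.mem_cons_self), if_neg]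
        rintro rfl
        exact hcl hx) z]
      generalize projList b g d l z = t
      rw [proj1_apply, contractLeft_ext_ι_mul, hd c c (hl c List.mem_cons_self) (hl c List.mem_cons_self),
        if_pos rfl, mul_sub, mul_smul_comm, ← mul_assoc, ExteriorAlgebra.ι_sq_zero, zero_mul, sub_zero,
        sub_self]

include hd in
theorem projList_mem (l : List (Fin n)) (hl : ∀ a, a ∈ l ↔ a ≠ k) (z : ExteriorAlgebra S M) :
    g • projList b g d l z ∈ Submodule.span S {1, ExteriorAlgebra.ι S (eVec b k g d)} ∧
      ExteriorAlgebra.ι S (eVec b k g d) * projList b g d l z ∈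
        Submodule.span S {1, ExteriorAlgebra.ι S (eVec b k g d)} := by
  have he : ∀ a ∈ l, d a (eVec b k g d) = 0 := fun a ha => d_eVec b k g d hd a ((hl a).1 ha)
  have hl1 : ∀ a ∈ l, a ≠ k := fun a ha => (hl a).1 ha
  induction z using CliffordAlgebra.left_induction with
  | algebraMap r =>
    have hone : ∀ l' : List (Fin n), projList b g d l' (algebraMap S _ r) =
        algebraMap S (ExteriorAlgebra S M) (g ^ l'.length * r) := by
      intro l'
      induction l' with
      | nil => simp [projList]
      | cons a l' ih =>
        show proj1 b g d a (projList b g d l' _) = _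
        rw [ih, proj1_apply, contractLeft_algebraMap, mul_zero, sub_zero, List.length_cons, pow_succ',
          mul_assoc, map_mul (algebraMap S _) g, Algebra.smul_def]
    rw [hone]
    constructor
    · rw [Algebra.algebraMap_eq_smul_one, smul_smul]
      exact Submodule.smul_mem _ _ (Submodule.subset_span (Set.mem_insert _ _))
    · rw [← Algebra.commutes, ← Algebra.smul_def]
      exact Submodule.smul_mem _ _ (Submodule.subset_span (Set.mem_insert_of_mem _ rfl))
  | add x y hx hy =>
    exact ⟨by rw [map_add, smul_add]; exact add_mem hx.1 hy.1,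
      by rw [map_add, mul_add]; exact add_mem hx.2 hy.2⟩
  | ι_mul z m hz =>
    show g • projList b g d l (ExteriorAlgebra.ι S m * z) ∈ _ ∧
      _ * projList b g d l (ExteriorAlgebra.ι S m * z) ∈ _
    rw [← b.sum_repr m, map_sum]
    simp only [map_smul, Finset.sum_mul, smul_mul_assoc, map_sum, Finset.smul_sum, Finset.mul_sum,
      mul_smul_comm, smul_comm g]
    constructor <;> refine Submodule.sum_mem _ fun r _ => Submodule.smul_mem _ _ ?_
    · by_cases hr : r = k
      · subst hr
        have h1 : g • projList b g d l (ExteriorAlgebra.ι S (b r) * z) =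
            ExteriorAlgebra.ι S (eVec b r g d) * projList b g d l z := by
          rw [← projList_ι_mul b g d l _ he, eVec, map_sub, map_smul, sub_mul, smul_mul_assoc,
            map_sub, map_smul, map_sum, Finset.sum_mul, map_sum, Finset.sum_eq_zero, sub_zero]
          intro a ha
          rw [map_smul, smul_mul_assoc, map_smul, projList_basis_mul b r g d hd l hl1 a
            ((hl a).2 (Finset.ne_of_mem_erase ha)), smul_zero]
        rw [h1]
        exact hz.2
      · rw [projList_basis_mul b k g d hd l hl1 r ((hl r).2 hr), smul_zero]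
        exact zero_mem _
    · by_cases hr : r = k
      · subst hr
        have h0 : ExteriorAlgebra.ι S (eVec b r g d) * projList b g d l (ExteriorAlgebra.ι S (b r) * z) = 0 := by
          rw [← projList_ι_mul b g d l _ he]
          have hexp : ExteriorAlgebra.ι S (eVec b r g d) * (ExteriorAlgebra.ι S (b r) * z) =
              -∑ a ∈ Finset.univ.erase r, d a (b r) •
                (ExteriorAlgebra.ι S (b a) * (ExteriorAlgebra.ι S (b r) * z)) := by
            rw [eVec, map_sub, map_smul, sub_mul, smul_mul_assoc, ← mul_assoc,
              ExteriorAlgebra.ι_sq_zero, zero_mul, smul_zero, zero_sub, map_sum, Finset.sum_mul]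
            simp only [map_smul, smul_mul_assoc]
          rw [hexp, map_neg, map_sum, Finset.sum_eq_zero, neg_zero]
          intro a ha
          rw [map_smul, projList_basis_mul b r g d hd l hl1 a ((hl a).2 (Finset.ne_of_mem_erase ha)),
            smul_zero]
        rw [h0]
        exact zero_mem _
      · rw [projList_basis_mul b k g d hd l hl1 r ((hl r).2 hr), mul_zero]
        exact zero_mem _

theorem projList_of_killed : ∀ (l : List (Fin n)) (z : ExteriorAlgebra S M),
    (∀ a ∈ l, contractLeft (d a) z = 0) → projList b g d l z = g ^ l.length • z := by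
  intro l
  induction l with
  | nil => intro z _; simp [projList]
  | cons a l ih =>
    intro z hz
    show proj1 b g d a (projList b g d l z) = _
    rw [ih z fun x hx => hz x (List.mem_cons_of_mem a hx), map_smul, proj1_apply,
      hz a List.mem_cons_self, mul_zero, sub_zero, smul_smul, List.length_cons, pow_succ]

variable [Module.Free S M] (Q : QuadraticForm S M)

include hd in
/-- An element killed by the contractions is, up to a power of `g`, a scalar plus a vector. -/
theorem pow_smul_mem_of_killed : ∃ N : ℕ, ∀ z : CliffordAlgebra Q,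
    (∀ a, a ≠ k → contractLeft (d a) z = 0) →
      g ^ N • z ∈ Submodule.span S {1, ι Q (eVec b k g d)} := by
  classical
  let l := (Finset.univ.erase k).toList
  have hl : ∀ a, a ∈ l ↔ a ≠ k := fun a => by simp [l]
  refine ⟨1 + l.length, fun z hz => ?_⟩
  have hz' : ∀ a ∈ l, contractLeft (d a) (toExt Q z) = 0 := fun a ha => by
    have := congrArg (toExt Q) (hz a ((hl a).1 ha))
    rw [map_zero] at this
    exact (changeForm_contractLeft (negLift_spec Q) (d a) z).symm.trans this
  have h := (projList_mem b k g d hd l hl (toExt Q z)).1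
  rw [projList_of_killed b g d l _ hz', smul_smul, ← pow_succ', ← map_smul, add_comm] at h
  rw [Submodule.mem_span_pair] at h ⊢
  obtain ⟨r, s, hrs⟩ := h
  refine ⟨r, s, (toExt Q).injective ?_⟩
  rw [← hrs, map_add, map_smul, map_smul, toExt_ι,
    ← map_one (algebraMap S (CliffordAlgebra Q)), toExt_algebraMap, map_one]

end Groth.Agent.CliffSm
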