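import Mathlib.RingTheory.MatrixAlgebra
import Mathlib.LinearAlgebra.Matrix.Reindex
import Mathlib.Algebra.Algebra.Subalgebra.Basic

/-!
# Matrix algebras from anticommutation relations
-/

set_option autoImplicit false
noncomputable section

universe u v

open Matrix TensorProduct

namespace Groth.Agent.CliffSm

variable {A : Type u} [CommRing A] {C : Type v} [Ring C] [Algebra A C]

/-- Fermionic relations. -/
structure IsCAR {m : ℕ} (a c : Fin m → C) : Prop where
  aa : ∀ i, a i * a i = 0
  cc : ∀ i, c i * c i = 0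
  ac : ∀ i, a i * c i + c i * a i = 1
  aa' : ∀ i j, i ≠ j → a j * a i = -(a i * a j)
  cc' : ∀ i j, i ≠ j → c j * c i = -(c i * c j)
  ac' : ∀ i j, i ≠ j → c j * a i = -(a i * c j)

section One

variable (x y : C)

/-- The linear map sending the matrix units to those of one pair. -/
def pairLin : Matrix (Fin 2) (Fin 2) A →ₗ[A] C :=
  (Matrix.entryLinearMap A A 0 0).smulRight (x * y) + (Matrix.entryLinearMap A A 0 1).smulRight x +
    (Matrix.entryLinearMap A A 1 0).smulRight y + (Matrix.entryLinearMap A A 1 1).smulRight (y * x)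

theorem pairLin_apply (M : Matrix (Fin 2) (Fin 2) A) :
    pairLin x y M = M 0 0 • (x * y) + M 0 1 • x + M 1 0 • y + M 1 1 • (y * x) := rfl

variable {x y} (hx : x * x = 0) (hy : y * y = 0) (hxy : x * y + y * x = 1)

/-- The matrices of size two of one pair. -/
def pairHom : Matrix (Fin 2) (Fin 2) A →ₐ[A] C :=
  AlgHom.ofLinearMap (pairLin x y)
    (by rw [pairLin_apply]; simp [hxy])
    (by
      have h1 : x * (y * x) = x := by
        have := congrArg (x * ·) hxy
        simp only [mul_add, ← mul_assoc, hx, zero_mul, mul_one, zero_add] at this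
        rw [← mul_assoc]; exact this
      have h2 : y * (x * y) = y := by
        have := congrArg (y * ·) hxy
        simp only [mul_add, ← mul_assoc, hy, zero_mul, mul_one, add_zero] at this
        rw [← mul_assoc]; exact this
      intro M N
      simp only [pairLin_apply, Matrix.mul_apply, Fin.sum_univ_two, mul_add, add_mul, smul_mul_assoc,
        mul_smul_comm, mul_assoc, h1, h2, hx, hy, mul_zero, smul_zero, add_zero, zero_add,
        show x * (x * y) = 0 by rw [← mul_assoc, hx, zero_mul],
        show y * (y * x) = 0 by rw [← mul_assoc, hy, zero_mul]]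
      module)

theorem pairHom_apply (M : Matrix (Fin 2) (Fin 2) A) :
    pairHom hx hy hxy M = M 0 0 • (x * y) + M 0 1 • x + M 1 0 • y + M 1 1 • (y * x) := rfl

theorem left_mem_pairHom : x ∈ (pairHom (A := A) hx hy hxy).range :=
  ⟨Matrix.single 0 1 1, by show pairHom hx hy hxy _ = x; simp [pairHom_apply]⟩

theorem right_mem_pairHom : y ∈ (pairHom (A := A) hx hy hxy).range :=
  ⟨Matrix.single 1 0 1, by show pairHom hx hy hxy _ = y; simp [pairHom_apply]⟩

theorem commute_pairHom {z : C} (h1 : Commute z x) (h2 : Commute z y) (M : Matrix (Fin 2) (Fin 2) A) :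
    Commute z (pairHom hx hy hxy M) := by
  rw [pairHom_apply]
  exact (((h1.mul_right h2).smul_right _).add_right (h1.smul_right _) |>.add_right (h2.smul_right _)).add_right
    ((h2.mul_right h1).smul_right _)

theorem pair_comm_of_anti {z : C} (h1 : x * z = -(z * x)) (h2 : y * z = -(z * y)) :
    Commute (x * y - y * x) z := by
  have e : ∀ p q : C, p * z = -(z * p) → q * z = -(z * q) → p * q * z = z * (p * q) := fun p q hp hq => by
    rw [mul_assoc, hq, mul_neg, ← mul_assoc, hp, neg_mul, neg_neg, mul_assoc]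
  show (x * y - y * x) * z = z * (x * y - y * x)
  rw [sub_mul, mul_sub, e x y h1 h2, e y x h2 h1]

include hx hxy in
theorem parity_left : x * (x * y - y * x) = -((x * y - y * x) * x) := by
  simp only [mul_sub, sub_mul, mul_assoc, hx, mul_zero, ← mul_assoc x x y, zero_mul]
  abel

include hx hy hxy in
theorem parity_sq : (x * y - y * x) * (x * y - y * x) = 1 := by
  have hh : x * y - y * x = pairHom (A := ℤ) hx hy hxy !![1, 0; 0, -1] := by
    rw [pairHom_apply]; simp [sub_eq_add_neg]
  rw [hh, ← map_mul, show (!![1, 0; 0, -1] : Matrix (Fin 2) (Fin 2) ℤ) * !![1, 0; 0, -1] = 1 by decide, map_one]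

end One

/-- The matrix algebra generated by fermionic pairs. -/
theorem exists_matrix_hom : ∀ (m : ℕ) (a c : Fin m → C), IsCAR a c →
    ∃ φ : Matrix (Fin (2 ^ m)) (Fin (2 ^ m)) A →ₐ[A] C, (∀ i, a i ∈ φ.range ∧ c i ∈ φ.range) ∧
      ∀ z : C, (∀ i, Commute z (a i) ∧ Commute z (c i)) → ∀ M, Commute z (φ M) := by
  intro m
  induction m with
  | zero =>
    intro a c _
    haveI : Subsingleton (Fin (2 ^ 0)) := inferInstanceAs (Subsingleton (Fin 1))
    let r : Fin (2 ^ 0) := ⟨0, by norm_num⟩
    let ev : Matrix (Fin (2 ^ 0)) (Fin (2 ^ 0)) A →ₐ[A] A :=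
      AlgHom.ofLinearMap (Matrix.entryLinearMap A A r r) (by simp) fun M N => by
        simp only [Matrix.entryLinearMap_apply, Matrix.mul_apply]
        exact Fintype.sum_subsingleton _ r
    refine ⟨(Algebra.ofId A C).comp ev, fun i => i.elim0, fun z _ M => ?_⟩
    exact (Algebra.commutes _ z).symm
  | succ m ih =>
    intro a c h
    have hx := h.aa 0
    have hy := h.cc 0
    have hxy := h.ac 0
    set f := a 0 * c 0 - c 0 * a 0 with hf
    have hne : ∀ i : Fin m, (0 : Fin (m + 1)) ≠ i.succ := fun i => (Fin.succ_ne_zero i).symm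
    have hca : ∀ i : Fin m, c 0 * a i.succ = -(a i.succ * c 0) := fun i => h.ac' _ _ (Fin.succ_ne_zero i)
    have hac : ∀ i : Fin m, a 0 * c i.succ = -(c i.succ * a 0) := fun i => by
      rw [h.ac' 0 i.succ (hne i), neg_neg]
    have haa : ∀ i : Fin m, a 0 * a i.succ = -(a i.succ * a 0) := fun i => h.aa' _ _ (Fin.succ_ne_zero i)
    have hcc : ∀ i : Fin m, c 0 * c i.succ = -(c i.succ * c 0) := fun i => h.cc' _ _ (Fin.succ_ne_zero i)
    have hfa : ∀ i : Fin m, Commute f (a i.succ) := fun i => pair_comm_of_anti (haa i) (hca i)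
    have hfc : ∀ i : Fin m, Commute f (c i.succ) := fun i => pair_comm_of_anti (hac i) (hcc i)
    have hff : f * f = 1 := parity_sq hx hy hxy
    have hcross : ∀ p q : C, Commute f p → Commute f q → f * p * (f * q) = p * q := fun p q hp hq => by
      rw [hp.symm.mul_mul_mul_comm, hff, one_mul]
    have h' : IsCAR (fun i => f * a i.succ) (fun i => f * c i.succ) := by
      refine ⟨fun i => ?_, fun i => ?_, fun i => ?_, fun i j hij => ?_, fun i j hij => ?_, fun i j hij => ?_⟩
      · rw [hcross _ _ (hfa i) (hfa i), h.aa]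
      · rw [hcross _ _ (hfc i) (hfc i), h.cc]
      · rw [hcross _ _ (hfa i) (hfc i), hcross _ _ (hfc i) (hfa i), h.ac]
      · rw [hcross _ _ (hfa j) (hfa i), hcross _ _ (hfa i) (hfa j), h.aa' _ _ (by simpa using hij)]
      · rw [hcross _ _ (hfc j) (hfc i), hcross _ _ (hfc i) (hfc j), h.cc' _ _ (by simpa using hij)]
      · rw [hcross _ _ (hfc j) (hfa i), hcross _ _ (hfa i) (hfc j), h.ac' _ _ (by simpa using hij)]
    obtain ⟨φ', hφ', hcomm'⟩ := ih _ _ h'
    have hc0 : ∀ p : C, p * f = -(f * p) → ∀ q : C, p * q = -(q * p) → Commute p (f * q) := fun p hp q hq => by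
      show p * (f * q) = f * q * p
      rw [← mul_assoc, hp, neg_mul, mul_assoc, hq, mul_neg, neg_neg, mul_assoc]
    have hf0a : a 0 * f = -(f * a 0) := parity_left hx hxy
    have hf0c : c 0 * f = -(f * c 0) := by
      rw [hf, ← neg_sub (c 0 * a 0), mul_neg, neg_mul, parity_left hy (by rw [add_comm]; exact hxy)]
    have hpair : ∀ N M, Commute (pairHom (A := A) hx hy hxy N) (φ' M) := fun N M =>
      (commute_pairHom hx hy hxy
        ((hcomm' (a 0) (fun i => ⟨hc0 _ hf0a _ (haa i), hc0 _ hf0a _ (hac i)⟩) M).symm)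
        ((hcomm' (c 0) (fun i => ⟨hc0 _ hf0c _ (hca i), hc0 _ hf0c _ (hcc i)⟩) M).symm) N).symm
    let ψ := Algebra.TensorProduct.lift (pairHom (A := A) hx hy hxy) φ' hpair
    let e : Fin 2 × Fin (2 ^ m) ≃ Fin (2 ^ (m + 1)) := finProdFinEquiv.trans (finCongr (pow_succ' 2 m).symm)
    let g := (Matrix.reindexAlgEquiv A A e.symm).trans (Matrix.kroneckerAlgEquiv (Fin 2) (Fin (2 ^ m)) A).symm
    have hl : ∀ N, pairHom hx hy hxy N ∈ (ψ.comp g.toAlgHom).range := fun N =>
      ⟨g.symm (N ⊗ₜ 1), by
        show ψ (g (g.symm (N ⊗ₜ 1))) = _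
        rw [AlgEquiv.apply_symm_apply]; simp [ψ]⟩
    have hr : ∀ N, φ' N ∈ (ψ.comp g.toAlgHom).range := fun N =>
      ⟨g.symm (1 ⊗ₜ N), by
        show ψ (g (g.symm (1 ⊗ₜ N))) = _
        rw [AlgEquiv.apply_symm_apply]; simp [ψ]⟩
    have hmemf : f ∈ (ψ.comp g.toAlgHom).range := by
      obtain ⟨N, hN⟩ := left_mem_pairHom (A := A) hx hy hxy
      obtain ⟨N', hN'⟩ := right_mem_pairHom (A := A) hx hy hxy
      have ha : a 0 ∈ (ψ.comp g.toAlgHom).range := by rw [← hN]; exact hl N
      have hc : c 0 ∈ (ψ.comp g.toAlgHom).range := by rw [← hN']; exact hl N'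
      exact sub_mem (mul_mem ha hc) (mul_mem hc ha)
    refine ⟨ψ.comp g.toAlgHom, fun i => ?_, fun z hz M => ?_⟩
    · induction i using Fin.cases with
      | zero =>
        obtain ⟨N, hN⟩ := left_mem_pairHom (A := A) hx hy hxy
        obtain ⟨N', hN'⟩ := right_mem_pairHom (A := A) hx hy hxy
        exact ⟨by rw [← hN]; exact hl N, by rw [← hN']; exact hl N'⟩
      | succ i =>
        obtain ⟨⟨N, hN⟩, ⟨N', hN'⟩⟩ := hφ' i
        constructor
        · have : a i.succ = f * φ' N := by
            rw [show φ' N = f * a i.succ from hN, ← mul_assoc, hff, one_mul]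
          rw [this]; exact mul_mem hmemf (hr N)
        · have : c i.succ = f * φ' N' := by
            rw [show φ' N' = f * c i.succ from hN', ← mul_assoc, hff, one_mul]
          rw [this]; exact mul_mem hmemf (hr N')
    · have hzf : Commute z f := Commute.sub_right ((hz 0).1.mul_right (hz 0).2) ((hz 0).2.mul_right (hz 0).1)
      show Commute z (ψ (g M))
      induction g M using TensorProduct.induction_on with
      | zero => rw [map_zero]; exact Commute.zero_right z
      | tmul N N' =>
        simp only [ψ, Algebra.TensorProduct.lift_tmul]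
        exact (commute_pairHom hx hy hxy (hz 0).1 (hz 0).2 N).mul_right
          (hcomm' z (fun i => ⟨hzf.mul_right (hz i.succ).1, hzf.mul_right (hz i.succ).2⟩) N')
      | add p q hp hq => rw [map_add]; exact hp.add_right hq

theorem matrixHom_injective {ι : Type*} [Fintype ι] [DecidableEq ι] (φ : Matrix ι ι A →ₐ[A] C)
    (h : Function.Injective (algebraMap A C)) : Function.Injective φ := by
  rw [injective_iff_map_eq_zero]
  intro M hM
  ext i j
  refine h ?_
  rw [Matrix.zero_apply, map_zero, Algebra.algebraMap_eq_smul_one, ← map_one φ,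
    ← Matrix.sum_single_one (α := A) (m := ι), map_sum, Finset.smul_sum]
  refine Finset.sum_eq_zero fun k _ => ?_
  have hk : Matrix.single k i (1 : A) * M * Matrix.single j k 1 = M i j • Matrix.single k k 1 := by
    simp [Matrix.single_mul_mul_single]
  rw [← map_smul, ← hk, map_mul, map_mul, hM, mul_zero, zero_mul]

end Groth.Agent.CliffSm
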