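import Groth.Agent.CliffSm.OddCentre
import Groth.Agent.CliffSm.SplitFrame
import Groth.Agent.CliffSm.MatrixCAR
import Mathlib.LinearAlgebra.CliffordAlgebra.Even

/-!
# The even Clifford algebra of a split form of odd rank is a matrix algebra
-/

set_option autoImplicit false
noncomputable section

universe u v

open CliffordAlgebra QuadraticMap TensorProduct

namespace Groth.Agent.CliffSm

theorem bilin_mem_of_span {A : Type*} [CommRing A] {V : Type*} [AddCommGroup V] [Module A V] {P : Type*}
    [AddCommGroup P] [Module A P] (β : V →ₗ[A] V →ₗ[A] P) (S : Submodule A P) {ι : Type*} (f : ι → V)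
    (hf : Submodule.span A (Set.range f) = ⊤) (h : ∀ k l, β (f k) (f l) ∈ S) (x y : V) : β x y ∈ S := by
  have hx : x ∈ Submodule.span A (Set.range f) := by rw [hf]; trivial
  have hy : y ∈ Submodule.span A (Set.range f) := by rw [hf]; trivial
  induction hx, hy using Submodule.span_induction₂ with
  | mem_mem a b ha hb => obtain ⟨k, rfl⟩ := ha; obtain ⟨l, rfl⟩ := hb; exact h k l
  | zero_left y _ => rw [map_zero, LinearMap.zero_apply]; exact zero_mem _
  | zero_right x _ => rw [map_zero]; exact zero_mem _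
  | add_left a b c _ _ _ ha hb => rw [map_add, LinearMap.add_apply]; exact add_mem ha hb
  | add_right a b c _ _ _ ha hb => rw [map_add]; exact add_mem ha hb
  | smul_left r a b _ _ ha => rw [map_smul, LinearMap.smul_apply]; exact S.smul_mem r ha
  | smul_right r a b _ _ ha => rw [map_smul]; exact S.smul_mem r ha

section Frame

variable {A : Type u} [CommRing A] {V : Type v} [AddCommGroup V] [Module A V] [Module.Free A V]
  {Q : QuadraticForm A V} {m : ℕ} {p q : Fin m → V} {w : V}

theorem even_eq_matrix (h : IsSplitFrame Q p q w) (hspan : Submodule.span A (Set.range (fam p q w)) = ⊤) :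
    Nonempty (CliffordAlgebra.even Q ≃ₐ[A] Matrix (Fin (2 ^ m)) (Fin (2 ^ m)) A) := by
  let e := fun x : V => ι Q x
  have hww : e w * e w = 1 := by simp [e, ι_sq_scalar, h.w1]
  have hww' : ∀ t, e w * (e w * t) = t := fun t => by rw [← mul_assoc, hww, one_mul]
  have hp : ∀ i, e (p i) * e (p i) = 0 := fun i => ι_sq_zero Q (h.p0 i)
  have hq : ∀ i, e (q i) * e (q i) = 0 := fun i => ι_sq_zero Q (h.q0 i)
  have hpw : ∀ i, e (p i) * e w = -(e w * e (p i)) := fun i =>
    ι_swap_orth Q (by rw [QuadraticMap.polar_comm]; exact h.uw i)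
  have hqw : ∀ i, e (q i) * e w = -(e w * e (q i)) := fun i =>
    ι_swap_orth Q (by rw [QuadraticMap.polar_comm]; exact h.vw i)
  have hprod : ∀ x y : V, e x * e w = -(e w * e x) → e w * e x * (e w * e y) = -(e x * e y) := fun x y hx => by
    rw [mul_assoc, ← mul_assoc (e x), hx, neg_mul, mul_neg, mul_assoc (e w) (e x) (e y), hww']
  let a : Fin m → CliffordAlgebra Q := fun i => e w * e (p i)
  let c : Fin m → CliffordAlgebra Q := fun i => -(e w * e (q i))
  have hcar : IsCAR a c := by
    refine ⟨fun i => ?_, fun i => ?_, fun i => ?_, fun i j hij => ?_, fun i j hij => ?_, fun i j hij => ?_⟩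
    · simp only [a, hprod _ _ (hpw i), hp, neg_zero]
    · simp only [c, neg_mul_neg, hprod _ _ (hqw i), hq, neg_zero]
    · simp only [a, c, mul_neg, neg_mul, hprod _ _ (hpw i), hprod _ _ (hqw i), neg_neg]
      rw [ι_mul_ι_add_swap, h.pq, map_one]
    · simp only [a, hprod _ _ (hpw i), hprod _ _ (hpw j)]
      rw [show e (p j) * e (p i) = -(e (p i) * e (p j)) from ι_swap_orth Q (h.uu i j hij)]
    · simp only [c, neg_mul_neg, hprod _ _ (hqw i), hprod _ _ (hqw j)]
      rw [show e (q j) * e (q i) = -(e (q i) * e (q j)) from ι_swap_orth Q (h.vv i j hij)]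
    · simp only [a, c, mul_neg, neg_mul, hprod _ _ (hpw i), hprod _ _ (hqw j), neg_neg]
      rw [show e (q j) * e (p i) = -(e (p i) * e (q j)) from ι_swap_orth Q (h.uv i j hij)]
  let a' : Fin m → CliffordAlgebra.even Q := fun i => ⟨a i, ι_mul_ι_mem_evenOdd_zero Q w (p i)⟩
  let c' : Fin m → CliffordAlgebra.even Q := fun i => ⟨c i, neg_mem (ι_mul_ι_mem_evenOdd_zero Q w (q i))⟩
  have hcar' : IsCAR a' c' :=
    ⟨fun i => Subtype.ext (hcar.aa i), fun i => Subtype.ext (hcar.cc i), fun i => Subtype.ext (hcar.ac i),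
      fun i j hij => Subtype.ext (hcar.aa' i j hij), fun i j hij => Subtype.ext (hcar.cc' i j hij),
      fun i j hij => Subtype.ext (hcar.ac' i j hij)⟩
  obtain ⟨φ₀, hφ₀, -⟩ := exists_matrix_hom (A := A) m a' c' hcar'
  let φ := (CliffordAlgebra.even Q).val.comp φ₀
  have hφ : ∀ i, a i ∈ φ.range ∧ c i ∈ φ.range := fun i => by
    obtain ⟨⟨M, hM⟩, ⟨N, hN⟩⟩ := hφ₀ i
    exact ⟨⟨M, congrArg Subtype.val hM⟩, ⟨N, congrArg Subtype.val hN⟩⟩
  have hlin : ∀ i, e w * e (p i) ∈ φ.range ∧ e w * e (q i) ∈ φ.range := fun i =>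
    ⟨(hφ i).1, by simpa [c] using neg_mem (hφ i).2⟩
  have hfam : ∀ k l, e (fam p q w k) * e (fam p q w l) ∈ φ.range := by
    have hsingle : ∀ k, e w * e (fam p q w k) ∈ φ.range := by
      rintro ((i | i) | ⟨⟩)
      · exact (hlin i).1
      · exact (hlin i).2
      · simp only [Sum.elim_inr, hww]; exact one_mem _
    rintro ((i | i) | ⟨⟩) l
    · rcases l with l | ⟨⟩
      · have : e (p i) * e (fam p q w (.inl l)) = -(e w * e (p i) * (e w * e (fam p q w (.inl l)))) := by
          rw [hprod _ _ (hpw i), neg_neg]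
        rw [show fam p q w (.inl (.inl i)) = p i from rfl, this]
        exact neg_mem (mul_mem (hsingle (.inl (.inl i))) (hsingle (.inl l)))
      · show e (p i) * e w ∈ φ.range
        rw [hpw]; exact neg_mem (hsingle (.inl (.inl i)))
    · rcases l with l | ⟨⟩
      · have : e (q i) * e (fam p q w (.inl l)) = -(e w * e (q i) * (e w * e (fam p q w (.inl l)))) := by
          rw [hprod _ _ (hqw i), neg_neg]
        rw [show fam p q w (.inl (.inr i)) = q i from rfl, this]
        exact neg_mem (mul_mem (hsingle (.inl (.inr i))) (hsingle (.inl l)))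
      · show e (q i) * e w ∈ φ.range
        rw [hqw]; exact neg_mem (hsingle (.inl (.inr i)))
    · exact hsingle l
  have hall : ∀ x y : V, ι Q x * ι Q y ∈ φ.range := fun x y =>
    bilin_mem_of_span ((LinearMap.mul A (CliffordAlgebra Q)).compl₁₂ (ι Q) (ι Q))
      (Subalgebra.toSubmodule φ.range) (fam p q w) hspan hfam x y
  have heq : φ.range = CliffordAlgebra.even Q := by
    refine le_antisymm ?_ fun x hx => ?_
    · rintro _ ⟨M, rfl⟩
      exact (φ₀ M).2
    · induction x, hx using CliffordAlgebra.even_induction with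
      | algebraMap r => exact φ.range.algebraMap_mem r
      | add x y _ _ hx hy => exact add_mem hx hy
      | ι_mul_ι_mul x y z _ hz => exact mul_mem (hall x y) hz
  exact ⟨((AlgEquiv.ofInjective φ (matrixHom_injective φ (algebraMap_injective Q))).trans
    (Subalgebra.equivOfEq _ _ heq)).symm⟩

end Frame

end Groth.Agent.CliffSm
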