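import Groth.Agent.CliffSm.EvenGroup
import Groth.Agent.CliffSm.SplitEven

/-!
# Lifting special isometries in odd rank over a local ring
-/

set_option autoImplicit false
noncomputable section

universe u v

open CliffordAlgebra QuadraticMap
open Groth.Agent.QuadCentre (polA)
open scoped TensorProduct Pointwise

namespace Groth.Agent.CliffSm

variable {R : Type u} [CommRing R] {M : Type v} [AddCommGroup M] [Module R M] [Module.Free R M]
  [Module.Finite R M] {Q : QuadraticForm R M} {m : ℕ} (b : Module.Basis (Fin (2 * m + 1)) R M)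
  (hb : IsUnit (QuadGrp.halfDisc b (LinearEquiv.refl R R) Q))

/-- The automorphism of the even part. -/
def autEven (g : M ≃ₗ[R] M) (hg : g ∈ QuadGrp.O Q) : CliffordAlgebra.even Q ≃ₐ[R] CliffordAlgebra.even Q :=
  AlgEquiv.ofAlgHom
    (((autOf g hg).toAlgHom.comp (CliffordAlgebra.even Q).val).codRestrict _
      fun z => map_mem_evenOdd _ z.2)
    (((autOf g hg).symm.toAlgHom.comp (CliffordAlgebra.even Q).val).codRestrict _
      fun z => map_mem_evenOdd _ z.2)
    (AlgHom.ext fun z => Subtype.ext ((autOf g hg).apply_symm_apply _))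
    (AlgHom.ext fun z => Subtype.ext ((autOf g hg).symm_apply_apply _))

theorem autEven_coe (g : M ≃ₗ[R] M) (hg : g ∈ QuadGrp.O Q) (z : CliffordAlgebra.even Q) :
    (autEven g hg z : CliffordAlgebra Q) = autOf g hg (z : CliffordAlgebra Q) := rfl

include b hb in
/-- Over a local ring the even part is an Azumaya Clifford algebra. -/
theorem exists_even_model [IsLocalRing R] : ∃ (QN : QuadraticForm R (Fin (2 * m) → R)),
    QuadGrp.IsRegular QN ∧ Nonempty (CliffordAlgebra QN ≃ₐ[R] CliffordAlgebra.even Q) := by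
  classical
  set 𝔪 := IsLocalRing.maximalIdeal R
  obtain ⟨u, v, w, h, hd, -, hw⟩ := exists_frame_at Q m b hb 𝔪
  have hQw : IsUnit (Q w) := by simpa [𝔪, IsLocalRing.mem_maximalIdeal] using hw
  obtain ⟨q, hq⟩ := hQw
  let e : Fin (2 * m) ≃ Fin m ⊕ Fin m := (finCongr (two_mul m)).trans finSumFinEquiv.symm
  let f : Fin (2 * m) → M := Sum.elim u v ∘ e
  let L := Fintype.linearCombination R f
  let QN : QuadraticForm R (Fin (2 * m) → R) := (-Q w) • Q.comp L
  have hL : ∀ i, L (Pi.single i 1) = f i := fun i => by simp [L, Fintype.linearCombination_apply, Pi.single_apply]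
  have hreg : QuadGrp.IsRegular QN := by
    refine isRegular_of_isUnit_det QN ?_
    by_contra hu
    have hmem : (polA (tableOf (Q := QN) (Pi.basisFun R (Fin (2 * m))))).det ∈ 𝔪 :=
      (IsLocalRing.mem_maximalIdeal _).2 hu
    have h0 : ((polA (tableOf (Q := QN) (Pi.basisFun R (Fin (2 * m))))).map (Ideal.Quotient.mk 𝔪)).det = 0 := by
      rw [← RingHom.mapMatrix_apply, ← RingHom.map_det, Ideal.Quotient.eq_zero_iff_mem]; exact hmem
    haveI : 𝔪.IsPrime := Ideal.IsMaximal.isPrime inferInstance
    obtain ⟨a, ha0, ha⟩ := Matrix.exists_mulVec_eq_zero_iff.2 h0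
    choose a' ha' using fun j => Ideal.Quotient.mk_surjective (a j)
    have hwN : ∀ i, -Q w * polar Q (∑ j, a' j • f j) (f i) ∈ 𝔪 := by
      intro i
      rw [← Ideal.Quotient.eq_zero_iff_mem]
      have hi := congrFun ha i
      simp only [Matrix.mulVec, dotProduct, Matrix.map_apply, Pi.zero_apply, ← ha', ← map_mul, ← map_sum,
        polA_tableOf, Pi.basisFun_apply] at hi
      rw [← hi]
      congr 1
      rw [← polarBilin_apply_apply, map_sum, LinearMap.sum_apply, Finset.mul_sum]
      refine Finset.sum_congr rfl fun j _ => ?_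
      rw [map_smul, LinearMap.smul_apply, polarBilin_apply_apply, smul_eq_mul]
      simp only [QN, polar, _root_.QuadraticMap.smul_apply, QuadraticMap.comp_apply, map_add, hL, smul_eq_mul]
      rw [add_comm (f j) (f i)]
      ring
    have hpol : ∀ i, polar Q (∑ j, a' j • f j) (f i) ∈ 𝔪 := fun i =>
      (Ideal.IsPrime.mem_or_mem inferInstance (hwN i)).resolve_left (fun hm => hw (neg_mem_iff.1 hm))
    have hsum : ∑ j, a' j • f j = ∑ r, a' (e.symm r) • Sum.elim u v r :=
      Fintype.sum_equiv e _ _ fun j => by simp [f]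
    have hall : ∀ r, a' (e.symm r) ∈ 𝔪 := by
      have hB : ∀ y, polar Q (∑ j, a' j • f j) y = ∑ r, a' (e.symm r) * polar Q (Sum.elim u v r) y := fun y => by
        rw [hsum, ← polarBilin_apply_apply, map_sum, LinearMap.sum_apply]
        simp
      have key : ∀ i, a' (e.symm (.inl i)) ∈ 𝔪 ∧ a' (e.symm (.inr i)) ∈ 𝔪 := by
        intro i
        have h1 := hpol (e.symm (.inl i))
        have h2 := hpol (e.symm (.inr i))
        rw [show f (e.symm (.inl i)) = u i by simp [f]] at h1
        rw [show f (e.symm (.inr i)) = v i by simp [f]] at h2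
        rw [hB, Fintype.sum_sum_type,
          Finset.sum_eq_single (s := (Finset.univ : Finset (Fin m))) i
            (fun j _ hj => by simp [h.uu j i hj]) (fun hk => absurd (Finset.mem_univ i) hk),
          Finset.sum_eq_single (s := (Finset.univ : Finset (Fin m))) i
            (fun j _ hj => by simp [h.vu _ j i hj]) (fun hk => absurd (Finset.mem_univ i) hk)] at h1
        rw [hB, Fintype.sum_sum_type,
          Finset.sum_eq_single (s := (Finset.univ : Finset (Fin m))) i
            (fun j _ hj => by simp [h.uv j i hj]) (fun hk => absurd (Finset.mem_univ i) hk),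
          Finset.sum_eq_single (s := (Finset.univ : Finset (Fin m))) i
            (fun j _ hj => by simp [h.vv j i hj]) (fun hk => absurd (Finset.mem_univ i) hk)] at h2
        simp only [Sum.elim_inl, Sum.elim_inr, polar_self', QuadraticMap.polar_comm Q (v i) (u i)] at h1 h2
        constructor
        · refine (Ideal.IsPrime.mem_or_mem inferInstance
            (show plDisc Q (u i) (v i) * a' (e.symm (.inl i)) ∈ 𝔪 from ?_)).resolve_left (hd i)
          convert sub_mem (𝔪.mul_mem_left (polar Q (u i) (v i)) h2) (𝔪.mul_mem_left (2 * Q (v i)) h1) using 1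
          rw [plDisc]; ring
        · refine (Ideal.IsPrime.mem_or_mem inferInstance
            (show plDisc Q (u i) (v i) * a' (e.symm (.inr i)) ∈ 𝔪 from ?_)).resolve_left (hd i)
          convert sub_mem (𝔪.mul_mem_left (polar Q (u i) (v i)) h1) (𝔪.mul_mem_left (2 * Q (u i)) h2) using 1
          rw [plDisc]; ring
      rintro (i | i)
      exacts [(key i).1, (key i).2]
    refine ha0 (funext fun j => ?_)
    rw [← ha', Pi.zero_apply, Ideal.Quotient.eq_zero_iff_mem]
    simpa using hall (e j)
  refine ⟨QN, hreg, ?_⟩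
  have horth : ∀ x, polar Q w (L x) = 0 := fun x => by
    have : L x = ∑ j, x j • f j := Fintype.linearCombination_apply R f x
    rw [this, ← polarBilin_apply_apply, map_sum]
    refine Finset.sum_eq_zero fun j _ => ?_
    rw [map_smul, polarBilin_apply_apply, QuadraticMap.polar_comm]
    rcases he : e j with i | i <;> simp [f, he, h.uw, h.vw]
  let τ : CliffordAlgebra QN →ₐ[R] CliffordAlgebra Q := CliffordAlgebra.lift QN
    ⟨LinearMap.mulLeft R (ι Q w) ∘ₗ ι Q ∘ₗ L, fun x => by
      simp only [LinearMap.comp_apply, LinearMap.mulLeft_apply]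
      rw [mul_assoc, ← mul_assoc (ι Q (L x)), ι_swap_orth Q (horth x), neg_mul, mul_neg, mul_assoc, ι_sq_scalar,
        ← Algebra.commutes, ← mul_assoc, ← Algebra.commutes, mul_assoc, ι_sq_scalar, ← map_mul, ← map_neg]
      congr 1
      simp only [QN, _root_.QuadraticMap.smul_apply, QuadraticMap.comp_apply, smul_eq_mul]
      ring⟩
  have hτι : ∀ x, τ (ι QN x) = ι Q w * ι Q (L x) := fun x => CliffordAlgebra.lift_ι_apply _ _ x
  have hinj : Function.Injective τ := by
    rw [injective_iff_map_eq_zero]
    intro x hx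
    let bN := Pi.basisFun R (Fin (2 * m))
    have hbij := sandwich_bijective_even bN hreg
    let bC := Module.Free.chooseBasis R (CliffordAlgebra QN)
    refine bC.ext_elem fun j => ?_
    obtain ⟨t, ht⟩ := exists_rankOne hbij (bC.coord j)
    have hker : ∀ s, τ (AlgHom.mulLeftRight R (CliffordAlgebra QN) s x) = 0 := fun s => by
      induction s using TensorProduct.induction_on with
      | zero => simp
      | tmul a c => rw [AlgHom.mulLeftRight_apply, map_mul, map_mul, hx, mul_zero, zero_mul]
      | add p p' hp hp' => rw [map_add, LinearMap.add_apply, map_add, hp, hp', add_zero]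
    have := hker t
    rw [ht, map_smul, map_one, ← Algebra.algebraMap_eq_smul_one] at this
    rw [map_zero, Finsupp.zero_apply]
    exact algebraMap_injective Q (this.trans (map_zero _).symm)
  have hrange : τ.range = CliffordAlgebra.even Q := by
    refine le_antisymm ?_ fun z hz => ?_
    · rintro _ ⟨y, rfl⟩
      show τ y ∈ CliffordAlgebra.even Q
      induction y using CliffordAlgebra.induction with
      | algebraMap r => rw [AlgHom.commutes]; exact (CliffordAlgebra.even Q).algebraMap_mem r
      | ι x => rw [hτι]; exact ι_mul_ι_mem_evenOdd_zero Q _ _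
      | mul a c ha hc => rw [map_mul]; exact mul_mem ha hc
      | add a c ha hc => rw [map_add]; exact add_mem ha hc
    · have hwy : ∀ r : Fin m ⊕ Fin m, ι Q w * ι Q (Sum.elim u v r) ∈ τ.range := fun r =>
        ⟨ι QN (Pi.single (e.symm r) 1), by
          show τ (ι QN _) = _
          rw [hτι, hL]; simp [f]⟩
      have horth' : ∀ r : Fin m ⊕ Fin m, ι Q (Sum.elim u v r) * ι Q w = -(ι Q w * ι Q (Sum.elim u v r)) := by
        rintro (i | i)
        · exact ι_swap_orth Q (by rw [QuadraticMap.polar_comm]; exact h.uw i)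
        · exact ι_swap_orth Q (by rw [QuadraticMap.polar_comm]; exact h.vw i)
      have hfam : ∀ r s, ι Q (fam u v w r) * ι Q (fam u v w s) ∈ τ.range := by
        rintro (r | ⟨⟩) (s | ⟨⟩)
        · have : ι Q (Sum.elim u v r) * ι Q (Sum.elim u v s) =
              -((↑q⁻¹ : R) • (ι Q w * ι Q (Sum.elim u v r) * (ι Q w * ι Q (Sum.elim u v s)))) := by
            rw [mul_assoc, ← mul_assoc (ι Q (Sum.elim u v r)), horth', neg_mul, mul_neg, mul_assoc, ← mul_assoc,
              ι_sq_scalar, ← Algebra.smul_def, smul_neg, neg_neg, smul_smul, ← hq, Units.inv_mul, one_smul]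
          show ι Q (Sum.elim u v r) * ι Q (Sum.elim u v s) ∈ τ.range
          rw [this]
          exact neg_mem (Subalgebra.smul_mem _ (mul_mem (hwy r) (hwy s)) _)
        · show ι Q (Sum.elim u v r) * ι Q w ∈ τ.range
          rw [horth']; exact neg_mem (hwy r)
        · exact hwy s
        · show ι Q w * ι Q w ∈ τ.range
          rw [ι_sq_scalar]; exact τ.range.algebraMap_mem _
      let c := famBasis b
      have hdet := det_fam_notMem Q c h 𝔪 hd hw
      have hspan : Submodule.span R (Set.range (fam u v w)) = ⊤ := by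
        refine eq_top_iff.2 fun x _ => ?_
        exact (Submodule.smul_mem_iff_of_isUnit _ (by simpa [𝔪, IsLocalRing.mem_maximalIdeal] using hdet)).1
          (det_smul_mem c x)
      have hall : ∀ x y : M, ι Q x * ι Q y ∈ τ.range := fun x y =>
        bilin_mem_of_span ((LinearMap.mul R (CliffordAlgebra Q)).compl₁₂ (ι Q) (ι Q))
          (Subalgebra.toSubmodule τ.range) (fam u v w) hspan hfam x y
      induction z, hz using CliffordAlgebra.even_induction with
      | algebraMap r => exact τ.range.algebraMap_mem r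
      | add x y _ _ hx hy => exact add_mem hx hy
      | ι_mul_ι_mul x y z _ hz => exact mul_mem (hall x y) hz
  exact ⟨(AlgEquiv.ofInjective τ hinj).trans (Subalgebra.equivOfEq _ _ hrange)⟩

include b hb in
theorem so'_lift [IsLocalRing R] (g : M ≃ₗ[R] M) (hg : g ∈ QuadGrp.SO' Q) :
    ∃ u ∈ QuadGrp.GSpin Q, ∀ x : M, (u : CliffordAlgebra Q) * ι Q x * ↑u⁻¹ = ι Q (g x) := by
  obtain ⟨QN, hreg, ⟨E⟩⟩ := exists_even_model b hb
  obtain ⟨hgO, hgdet⟩ := hg
  let σN := E.trans ((autEven g hgO).trans E.symm)
  obtain ⟨uN, huN⟩ := exists_skolemNoether (sandwich_bijective_even (Pi.basisFun R (Fin (2 * m))) hreg)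
    (scalarPart QN) (by rw [← map_one (algebraMap R (CliffordAlgebra QN)), scalarPart_algebraMap]) σN
  let u : (CliffordAlgebra Q)ˣ :=
    Units.map ((CliffordAlgebra.even Q).val.comp E.toAlgHom).toMonoidHom uN
  have hu0 : (u : CliffordAlgebra Q) ∈ evenOdd Q 0 := (E (uN : CliffordAlgebra QN)).2
  have hint : ∀ y : CliffordAlgebra.even Q, autOf g hgO (y : CliffordAlgebra Q) * u = u * y := fun y => by
    have h1 : autEven g hgO y * E (uN : CliffordAlgebra QN) = E (uN : CliffordAlgebra QN) * y := by
      have h := congrArg E (huN (E.symm y))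
      rw [map_mul, map_mul] at h
      simp only [σN, AlgEquiv.trans_apply, AlgEquiv.apply_symm_apply] at h
      exact h
    exact congrArg Subtype.val h1
  obtain ⟨z, hz, hz1, hzu, ⟨r, hr⟩, -, -⟩ := centre_local Q b hb
  obtain ⟨zu, rfl⟩ := hzu
  set σ := autOf g hgO
  have hσz : σ (zu : CliffordAlgebra Q) ∈ Subalgebra.center R (CliffordAlgebra Q) := by
    rw [Subalgebra.mem_center_iff]
    intro y
    rw [← σ.apply_symm_apply y, ← map_mul, ← map_mul, Subalgebra.mem_center_iff.1 hz]
  obtain ⟨s, hs⟩ := mul_center_scalar Q b hb hσz (map_mem_evenOdd _ hz1) hz hz1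
  have hr' : IsUnit r := IsUnit.of_mul_eq_one
    (scalarPart Q ((↑zu⁻¹ : CliffordAlgebra Q) * ↑zu⁻¹)) (by
      rw [← smul_eq_mul, ← map_smul, Algebra.smul_def, hr, mul_assoc, Units.mul_inv_cancel_left, Units.mul_inv,
        ← map_one (algebraMap R (CliffordAlgebra Q)), scalarPart_algebraMap])
  obtain ⟨r', rfl⟩ := hr'
  set z : CliffordAlgebra Q := (zu : CliffordAlgebra Q) with hzdef
  set ε : R := ↑r'⁻¹ * s with hε
  have hσε : σ z = ε • z := by
    have h1 : (r' : R) • σ z = s • z := by
      rw [Algebra.smul_def, Algebra.smul_def, Algebra.commutes, hr, ← mul_assoc, hs]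
    rw [hε, mul_smul, ← h1, smul_smul, Units.inv_mul, one_smul]
  have hε2 : ε * ε = 1 := by
    have h1 : σ (z * z) = z * z := by rw [← hr, AlgEquiv.commutes]
    rw [map_mul, hσε, smul_mul_smul_comm, ← hr, Algebra.smul_def, ← map_mul] at h1
    have h2 := algebraMap_injective Q h1
    exact r'.isUnit.mul_right_cancel (by rw [h2, one_mul])
  have hconj : ∀ x, (u : CliffordAlgebra Q) * ι Q x * ↑u⁻¹ = ι Q (ε • g x) := by
    intro x
    have hw : ι Q x * z ∈ evenOdd Q 0 := by
      simpa [show (1 : ZMod 2) + 1 = 0 by rfl] using SetLike.mul_mem_graded (ι_mem_evenOdd_one Q x) hz1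
    have h1 := hint ⟨_, hw⟩
    simp only [map_mul, σ, autOf_ι] at h1
    rw [hσε, mul_smul_comm, smul_mul_assoc, mul_assoc, ← Subalgebra.mem_center_iff.1 hz, ← mul_assoc,
      ← mul_assoc, ← smul_mul_assoc] at h1
    have h2 := zu.isUnit.mul_right_cancel h1
    rw [← h2, map_smul, ← smul_mul_assoc, mul_assoc, Units.mul_inv, mul_one]
  have hG : u ∈ QuadGrp.GPin' Q := mem_GPin' u (fun x => ⟨_, hconj x⟩) fun x =>
    ⟨g.symm (ε • x), by rw [hconj, LinearEquiv.apply_symm_apply, smul_smul, hε2, one_smul]⟩
  refine ⟨u, ⟨⟨hG, ⟨1, IsIdempotentElem.one, by rw [one_smul]; exact hu0,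
    by rw [sub_self, zero_smul]; exact zero_mem _⟩⟩, hu0⟩, fun x => ?_⟩
  obtain ⟨g', ⟨-, hdet'⟩, hg'⟩ := gpin'_conj_SO' b hb u hG
  have hgg : (g' : M →ₗ[R] M) = ε • (g : M →ₗ[R] M) :=
    LinearMap.ext fun y => ι_injective Q ((hg' y).symm.trans (hconj y))
  have hd := congrArg LinearMap.det hgg
  have e1 : LinearMap.det (g' : M →ₗ[R] M) = 1 := by
    rw [← LinearEquiv.coe_det, MonoidHom.mem_ker.1 hdet', Units.val_one]
  have e2 : LinearMap.det (g : M →ₗ[R] M) = 1 := by
    rw [← LinearEquiv.coe_det, MonoidHom.mem_ker.1 hgdet, Units.val_one]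
  rw [LinearMap.det_smul, e1, e2, mul_one] at hd
  rcases subsingleton_or_nontrivial R with hs | hnt
  · exact absurd (Subsingleton.elim (0 : R) 1) zero_ne_one
  rw [Module.finrank_eq_card_basis b, Fintype.card_fin, pow_succ, pow_mul, pow_two, hε2, one_pow, one_mul] at hd
  rw [hconj, ← hd, one_smul]

end Groth.Agent.CliffSm
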