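import Groth.Agent.CliffSm.OddSolve
import Groth.Agent.CliffSm.Coord
import Groth.Agent.QuadSm.Rep

/-!
# The Clifford group of a semiregular form is smooth
-/

set_option autoImplicit false
noncomputable section

universe u v

open CliffordAlgebra TensorProduct CategoryTheory AlgebraicGeometry
open QuadGrp (baseChangeForm)
open Groth.Agent.QuadCentre (hdA)

namespace Groth.Agent.CliffSm

section General

variable {S : Type u} [CommRing S] {M : Type v} [AddCommGroup M] [Module S M] [Module.Free S M]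
  [Module.Finite S M] {Q : QuadraticForm S M} {n : ℕ} (b : Module.Basis (Fin n) S M)

omit [Module.Free S M] [Module.Finite S M] in
theorem surjective_of_semiregular (hn : Odd n) (h : IsUnit (hdA (tableOf (Q := Q) b)))
    (w : M →ₗ[S] M) (hw : ∀ x, Q (w x) = Q x) : Function.Surjective w := by
  have hc : Q.comp w = Q := QuadraticMap.ext hw
  have h1 := Groth.Agent.QuadCentre.halfDisc_comp b Q hn w
  rw [hc] at h1
  have h1' : LinearMap.det w ^ 2 * hdA (tableOf (Q := Q) b) = hdA (tableOf (Q := Q) b) := h1.symm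
  have hd : IsUnit (LinearMap.det w) := by
    refine IsUnit.of_mul_eq_one (LinearMap.det w) ?_
    refine h.mul_right_cancel ?_
    rw [one_mul, ← pow_two, h1']
  rw [← LinearMap.det_toMatrix b] at hd
  intro y
  let e := Matrix.toLinearEquiv b (LinearMap.toMatrix b b w) hd
  refine ⟨e.symm y, ?_⟩
  conv_rhs => rw [← e.apply_symm_apply y]
  show w (e.symm y) = Matrix.toLin b b (LinearMap.toMatrix b b w) (e.symm y)
  rw [Matrix.toLin_toMatrix]

/-- Correction for semiregular forms. -/
theorem exists_gpin_correction_semiregular (hn : Odd n) (hu : IsUnit (hdA (tableOf (Q := Q) b)))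
    {I : Ideal S} (hI : I ^ 2 = ⊥) (u0 : (CliffordAlgebra Q)ˣ) {e : S} (he : IsIdempotentElem e)
    (h0 : e • (u0 : CliffordAlgebra Q) ∈ evenOdd Q 0)
    (h1 : (1 - e) • (u0 : CliffordAlgebra Q) ∈ evenOdd Q 1)
    (h : ∀ x, ∃ y, (u0 : CliffordAlgebra Q) * ι Q y * ↑u0⁻¹ - ι Q x ∈
      I • (⊤ : Submodule S (CliffordAlgebra Q))) :
    ∃ u ∈ QuadGrp.GPin Q, (u : CliffordAlgebra Q) - (u0 : CliffordAlgebra Q) ∈
      I • (⊤ : Submodule S (CliffordAlgebra Q)) :=
  exists_gpin_correction_of (fun w hw => surjective_of_semiregular b hn hu w hw)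
    (fun D q hDJ hDodd hqI hq =>
      exists_inner_semiregular b (adjIdeal_eq_top b hn hu) D hDJ hDodd q hqI hq) hI u0 he h0 h1 h

end General

variable {R : Type u} [CommRing R] {n : ℕ} (Q : QuadraticForm R (Fin n → R))

theorem isUnit_hdA_baseChange
    (hQ : QuadGrp.IsSemiregular (Pi.basisFun R (Fin n)) (LinearEquiv.refl R R) Q)
    (A : Type u) [CommRing A] [Algebra R A] :
    IsUnit (hdA (tableOf (Q := baseChangeForm A Q) (Groth.Agent.QuadCentre.bA R n A))) := by
  show IsUnit (hdA (QuadGrp.coeffs (Groth.Agent.QuadCentre.bA R n A) (LinearEquiv.refl A A)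
    (baseChangeForm A Q)))
  rw [QuadSm.coeffs_baseChange, ← Groth.Agent.QuadCentre.hdA_map]
  exact hQ.map _

theorem formallySmooth_semiregular (hn : Odd n)
    (hQ : QuadGrp.IsSemiregular (Pi.basisFun R (Fin n)) (LinearEquiv.refl R R) Q) :
    Algebra.FormallySmooth R (Coord Q) :=
  formallySmooth_of Q fun B _ _ _ hI u0 _ he h0 h1 h =>
    exists_gpin_correction_semiregular (Groth.Agent.QuadCentre.bA R n B) hn
      (isUnit_hdA_baseChange Q hQ B) hI u0 he h0 h1 h

theorem smooth_semiregular (hn : Odd n)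
    (hQ : QuadGrp.IsSemiregular (Pi.basisFun R (Fin n)) (LinearEquiv.refl R R) Q)
    (G : Over (Spec (CommRingCat.of R))) [GrpObj G] (D : QuadGrp.GPinRep Q G) : Smooth G.hom := by
  obtain ⟨u, hu⟩ := exists_iso Q G D
  exact (QuadSm.smooth_iff_of_isIso u).2 (formallySmooth_semiregular Q hn hQ)

end Groth.Agent.CliffSm
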