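import Groth.Agent.CliffSm.Basic
import Groth.Agent.CliffSm.SplitRel
import Groth.Agent.CliffSm.Lift
import Mathlib.Algebra.Algebra.Basic
import Mathlib.LinearAlgebra.CliffordAlgebra.Star
import Mathlib.LinearAlgebra.CliffordAlgebra.Even

/-!
# The even units of the split ternary form normalise the vectors
-/

set_option autoImplicit false
noncomputable section

universe u

open CliffordAlgebra

namespace Groth.Agent.CliffSm.Three

variable (k : Type u) [Field k]

local notation "Q3" => QuadGrp.splitForm k 3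

abbrev E (i : Fin 3) : CliffordAlgebra (QuadGrp.splitForm k 3) :=
  ι (QuadGrp.splitForm k 3) (Pi.single i 1)

theorem apply (x : Fin 3 → k) : Q3 x = x 1 * x 2 + x 0 * x 0 := by
  simp [QuadGrp.splitForm, QuadraticMap.linMulLin_apply]

theorem sq0 : E k 0 * E k 0 = 1 := by
  rw [ι_sq_scalar, apply]; simp
theorem sq1 : E k 1 * E k 1 = 0 := ι_sq_zero _ (by rw [apply]; simp)
theorem sq2 : E k 2 * E k 2 = 0 := ι_sq_zero _ (by rw [apply]; simp)
theorem r10 : E k 1 * E k 0 = -(E k 0 * E k 1) :=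
  ι_swap_orth _ (by simp [QuadraticMap.polar, apply])
theorem r20 : E k 2 * E k 0 = -(E k 0 * E k 2) :=
  ι_swap_orth _ (by simp [QuadraticMap.polar, apply])
theorem r21 : E k 2 * E k 1 = 1 - E k 1 * E k 2 :=
  ι_swap_one _ (by simp [QuadraticMap.polar, apply])
theorem sq0' (x : CliffordAlgebra Q3) : E k 0 * (E k 0 * x) = x := by rw [← mul_assoc, sq0, one_mul]
theorem sq1' (x : CliffordAlgebra Q3) : E k 1 * (E k 1 * x) = 0 := by rw [← mul_assoc, sq1, zero_mul]
theorem sq2' (x : CliffordAlgebra Q3) : E k 2 * (E k 2 * x) = 0 := by rw [← mul_assoc, sq2, zero_mul]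
theorem r10' (x : CliffordAlgebra Q3) : E k 1 * (E k 0 * x) = -(E k 0 * (E k 1 * x)) := by
  rw [← mul_assoc, r10, neg_mul, mul_assoc]
theorem r20' (x : CliffordAlgebra Q3) : E k 2 * (E k 0 * x) = -(E k 0 * (E k 2 * x)) := by
  rw [← mul_assoc, r20, neg_mul, mul_assoc]
theorem r21' (x : CliffordAlgebra Q3) : E k 2 * (E k 1 * x) = x - E k 1 * (E k 2 * x) := by
  rw [← mul_assoc, r21, sub_mul, one_mul, mul_assoc]

/-- The even element with the given coordinates. -/
def ev (a b c d : k) : CliffordAlgebra Q3 :=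
  a • 1 + b • (E k 0 * E k 1) + c • (E k 0 * E k 2) + d • (E k 1 * E k 2)

/-- The odd element with the given coordinates. -/
def od (a b c d : k) : CliffordAlgebra Q3 :=
  a • E k 0 + b • E k 1 + c • E k 2 + d • (E k 0 * (E k 1 * E k 2))

theorem ι_eq (v : Fin 3 → k) : ι Q3 v = v 0 • E k 0 + v 1 • E k 1 + v 2 • E k 2 := by
  rw [← map_smul, ← map_smul, ← map_smul, ← map_add, ← map_add]
  congr 1
  ext i
  fin_cases i <;> simp

theorem ι_mul_ev (v : Fin 3 → k) (a b c d : k) : ∃ a' b' c' d', ι Q3 v * ev k a b c d = od k a' b' c' d' := by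
  refine ⟨v 0 * a - v 2 * b, v 0 * b + v 1 * a, v 0 * c + v 2 * a + v 2 * d,
    v 0 * d - v 1 * c + v 2 * b, ?_⟩
  rw [ι_eq k v]
  simp only [ev, od, add_mul, mul_add, smul_mul_assoc, mul_smul_comm, mul_one, mul_assoc, sq0, sq1, sq2,
    r10, r20, r21, sq0', sq1', sq2', r10', r20', r21', mul_neg, neg_mul, mul_zero, mul_sub, sub_mul, neg_zero]
  module

theorem ι_mul_od (v : Fin 3 → k) (a b c d : k) : ∃ a' b' c' d', ι Q3 v * od k a b c d = ev k a' b' c' d' := by
  refine ⟨v 0 * a + v 2 * b, v 0 * b - v 1 * a, v 0 * c - v 2 * a - v 2 * d,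
    v 0 * d + v 1 * c - v 2 * b, ?_⟩
  rw [ι_eq k v]
  simp only [ev, od, add_mul, mul_add, smul_mul_assoc, mul_smul_comm, mul_one, mul_assoc, sq0, sq1, sq2,
    r10, r20, r21, sq0', sq1', sq2', r10', r20', r21', mul_neg, neg_mul, mul_zero, mul_sub, sub_mul, neg_zero]
  module

theorem exists_ev {x : CliffordAlgebra Q3} (hx : x ∈ evenOdd Q3 0) :
    ∃ a b c d, x = ev k a b c d := by
  induction x, hx using CliffordAlgebra.even_induction with
  | algebraMap r => exact ⟨r, 0, 0, 0, by simp [ev, Algebra.algebraMap_eq_smul_one]⟩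
  | add x y _ _ hx hy =>
    obtain ⟨a, b, c, d, rfl⟩ := hx
    obtain ⟨a', b', c', d', rfl⟩ := hy
    exact ⟨a + a', b + b', c + c', d + d', by simp only [ev, add_smul]; abel⟩
  | ι_mul_ι_mul v w x _ hx =>
    obtain ⟨a, b, c, d, rfl⟩ := hx
    obtain ⟨a', b', c', d', h⟩ := ι_mul_ev k w a b c d
    obtain ⟨a'', b'', c'', d'', h'⟩ := ι_mul_od k v a' b' c' d'
    exact ⟨a'', b'', c'', d'', by rw [mul_assoc, h, h']⟩

theorem star_ev (a b c d : k) : star (ev k a b c d) = (2 * a + d) • 1 - ev k a b c d := by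
  simp only [ev, star_add, CliffordAlgebra.star_smul, star_one, star_mul, CliffordAlgebra.star_ι, r10, r20,
    r21, neg_mul, mul_neg, neg_neg]
  module

theorem ev_mul_star (a b c d : k) :
    ev k a b c d * star (ev k a b c d) = algebraMap k _ (a * a + a * d + b * c) := by
  rw [star_ev, Algebra.algebraMap_eq_smul_one]
  simp only [ev, mul_sub, sub_mul, add_mul, mul_add, smul_mul_assoc, mul_smul_comm, one_mul, mul_one,
    mul_assoc, sq0, sq1, sq2, r10, r20, r21, sq0', sq1', sq2', r10', r20', r21', mul_neg, neg_mul,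
    mul_zero, neg_zero, smul_zero, smul_neg, smul_sub, smul_add]
  module

theorem exists_od {u : CliffordAlgebra Q3} (hu : u ∈ evenOdd Q3 0) (v : Fin 3 → k) :
    ∃ a b c d, u * ι Q3 v * star u = od k a b c d := by
  obtain ⟨a, b, c, d, rfl⟩ := exists_ev k hu
  obtain ⟨a₁, b₁, c₁, d₁, h⟩ := ι_mul_ev k v ((2 * a + d) - a) (-b) (-c) (-d)
  have hstar : star (ev k a b c d) = ev k ((2 * a + d) - a) (-b) (-c) (-d) := by
    rw [star_ev]; simp only [ev]; module
  rw [mul_assoc, hstar, h]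
  simp only [ev, add_mul, smul_mul_assoc, one_mul, mul_assoc]
  obtain ⟨p, q, r, s, h1⟩ := ι_mul_od k (Pi.single 1 1) a₁ b₁ c₁ d₁
  obtain ⟨p', q', r', s', h2⟩ := ι_mul_od k (Pi.single 2 1) a₁ b₁ c₁ d₁
  obtain ⟨a₂, b₂, c₂, d₂, h01⟩ := ι_mul_ev k (Pi.single 0 1) p q r s
  obtain ⟨a₃, b₃, c₃, d₃, h02⟩ := ι_mul_ev k (Pi.single 0 1) p' q' r' s'
  obtain ⟨a₄, b₄, c₄, d₄, h12⟩ := ι_mul_ev k (Pi.single 1 1) p' q' r' s'
  refine ⟨a * a₁ + b * a₂ + c * a₃ + d * a₄, a * b₁ + b * b₂ + c * b₃ + d * b₄,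
    a * c₁ + b * c₂ + c * c₃ + d * c₄, a * d₁ + b * d₂ + c * d₃ + d * d₄, ?_⟩
  rw [show E k 1 = ι Q3 (Pi.single 1 1) from rfl, show E k 2 = ι Q3 (Pi.single 2 1) from rfl,
    show E k 0 = ι Q3 (Pi.single 0 1) from rfl, h1, h2, h01, h02, h12]
  simp only [od]
  module

theorem mem_range_of_star {a b c d : k} (h : star (od k a b c d) = -od k a b c d) :
    od k a b c d ∈ LinearMap.range (ι Q3) := by
  suffices hd : d = 0 by
    refine ⟨![a, b, c], ?_⟩
    rw [ι_eq, od, hd, zero_smul, add_zero]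
    rfl
  by_contra hd
  have h0 : d • E k 0 = d • ((2 : k) • (E k 0 * (E k 1 * E k 2))) := by
    have h' := eq_neg_iff_add_eq_zero.1 h
    rw [← sub_eq_zero] at ⊢
    rw [← neg_eq_zero, ← h']
    simp only [od, star_add, CliffordAlgebra.star_smul, star_mul, CliffordAlgebra.star_ι, mul_assoc, r10, r20,
      r21, r10', r20', r21', neg_mul, mul_neg, neg_neg, sub_mul, mul_sub, one_mul, mul_one]
    module
  have h1 : E k 0 = (2 : k) • (E k 0 * (E k 1 * E k 2)) := smul_right_injective _ hd h0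
  have h2 := congrArg (fun z => E k 0 * (z * E k 1)) h1
  simp only [smul_mul_assoc, mul_smul_comm, mul_assoc, sq0', r21, sq1', mul_sub, mul_one, sub_zero, sq1] at h2
  have h3 : E k 1 = 0 := by
    have : ((2 : k) - 1) • E k 1 = 0 := by rw [sub_smul, one_smul, ← h2, sub_self]
    rwa [show (2 : k) - 1 = 1 by ring, one_smul] at this
  have := ι_injective Q3 (h3.trans (map_zero (ι Q3)).symm)
  simpa using congrFun this 1

theorem main : QuadGrp.evenUnits Q3 ≤ QuadGrp.GPin' Q3 := by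
  intro u hu
  have key : ∀ w : (CliffordAlgebra Q3)ˣ, (w : CliffordAlgebra Q3) ∈ evenOdd Q3 0 → ∀ v : Fin 3 → k,
      (w : CliffordAlgebra Q3) * ι Q3 v * ↑w⁻¹ ∈ LinearMap.range (ι Q3) := by
    intro w hw v
    obtain ⟨a, b, c, d, habcd⟩ := exists_ev k hw
    set N := a * a + a * d + b * c
    have hN : (w : CliffordAlgebra Q3) * star (w : CliffordAlgebra Q3) = algebraMap k _ N := by
      rw [habcd]; exact ev_mul_star k a b c d
    have hN0 : N ≠ 0 := fun h => by
      rw [h, map_zero, Units.mul_right_eq_zero, star_eq_zero] at hN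
      have h1 := w.mul_inv
      rw [hN, zero_mul] at h1
      have := congrArg (fun z => z * E k 1) h1
      simp only [zero_mul, one_mul] at this
      have := ι_injective Q3 (this.symm.trans (map_zero (ι Q3)).symm)
      simpa using congrFun this 1
    have hinv : (↑w⁻¹ : CliffordAlgebra Q3) = N⁻¹ • star (w : CliffordAlgebra Q3) := by
      refine Units.inv_eq_of_mul_eq_one_right ?_
      rw [mul_smul_comm, hN, Algebra.algebraMap_eq_smul_one, smul_smul, inv_mul_cancel₀ hN0, one_smul]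
    obtain ⟨a', b', c', d', h⟩ := exists_od k hw v
    rw [hinv, mul_smul_comm, h]
    refine Submodule.smul_mem _ _ (mem_range_of_star k ?_)
    rw [← h, star_mul, star_mul, star_star, CliffordAlgebra.star_ι, neg_mul, mul_neg, mul_assoc]
  rw [QuadGrp.mem_GPin']
  refine le_antisymm ?_ ?_
  · rintro _ ⟨_, ⟨v, rfl⟩, rfl⟩
    exact key u hu v
  · intro y hy
    obtain ⟨v, rfl⟩ := hy
    obtain ⟨v', hv'⟩ := key u⁻¹ (inv_mem hu) v
    refine ⟨ι Q3 v', ⟨v', rfl⟩, ?_⟩
    show (u : CliffordAlgebra Q3) * ι Q3 v' * ↑u⁻¹ = ι Q3 v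
    rw [hv', inv_inv, ← mul_assoc, ← mul_assoc, Units.mul_inv, one_mul, mul_assoc, Units.mul_inv, mul_one]

end Groth.Agent.CliffSm.Three
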