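import Groth.Agent.CliffSm.EvenEtale

/-!
# Quadratic forms given by tables
-/

set_option autoImplicit false
noncomputable section

universe u

open QuadraticMap TensorProduct

namespace Groth.Agent.CliffSm

variable {R : Type u} [CommRing R] {ι : Type} [Fintype ι] [DecidableEq ι]

/-- The form `∑ a i j x i x j`. -/
def tableForm (a : ι → ι → R) : QuadraticForm R (ι → R) :=
  ∑ i, ∑ j, a i j • QuadraticMap.linMulLin (LinearMap.proj i : (ι → R) →ₗ[R] R) (LinearMap.proj j)

theorem tableForm_apply (a : ι → ι → R) (x : ι → R) : tableForm a x = ∑ i, ∑ j, a i j * (x i * x j) := by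
  simp [tableForm]

theorem tableForm_single (a : ι → ι → R) (k : ι) : tableForm a (Pi.single k 1) = a k k := by
  rw [tableForm_apply, Finset.sum_eq_single k (fun i _ hi => by simp [Pi.single_eq_of_ne hi])
    (fun h => absurd (Finset.mem_univ k) h), Finset.sum_eq_single k (fun i _ hi => by simp [Pi.single_eq_of_ne hi])
    (fun h => absurd (Finset.mem_univ k) h)]
  simp

theorem tableForm_polar (a : ι → ι → R) (k l : ι) :
    polar (tableForm a) (Pi.single k 1) (Pi.single l 1) = a k l + a l k := by
  simp only [polar, tableForm_apply]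
  have h : ∀ i j, a i j * ((Pi.single k 1 + Pi.single l 1 : ι → R) i * (Pi.single k 1 + Pi.single l 1 : ι → R) j) -
      a i j * ((Pi.single k (1 : R) : ι → R) i * (Pi.single k 1 : ι → R) j) - a i j * ((Pi.single l (1 : R) : ι → R) i * (Pi.single l 1 : ι → R) j) =
      a i j * ((Pi.single k (1 : R) : ι → R) i * (Pi.single l 1 : ι → R) j) + a i j * ((Pi.single l (1 : R) : ι → R) i * (Pi.single k 1 : ι → R) j) := by
    intro i j
    simp only [Pi.add_apply]
    ring
  rw [← Finset.sum_sub_distrib, ← Finset.sum_sub_distrib]
  simp only [← Finset.sum_sub_distrib, h, Finset.sum_add_distrib]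
  simp [Pi.single_apply]

theorem tableForm_polarBilin (a : ι → ι → R) (x y : ι → R) :
    polarBilin (tableForm a) x y = ∑ i, ∑ j, x i * (a i j + a j i) * y j := by
  have : polarBilin (tableForm a) = Matrix.toLinearMap₂' R (Matrix.of fun i j => a i j + a j i) := by
    refine (Pi.basisFun R ι).ext fun i => (Pi.basisFun R ι).ext fun j => ?_
    rw [Pi.basisFun_apply, Pi.basisFun_apply, polarBilin_apply_apply, tableForm_polar]
    simp [Matrix.toLinearMap₂'_apply, Pi.single_apply]
  rw [this, Matrix.toLinearMap₂'_apply]
  refine Finset.sum_congr rfl fun i _ => Finset.sum_congr rfl fun j _ => ?_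
  simp only [smul_eq_mul, Matrix.of_apply]
  ring

theorem isRegular_tableForm (a : ι → ι → R) (h : IsUnit (Matrix.of fun i j => a i j + a j i).det) :
    QuadGrp.IsRegular (tableForm a) := by
  set G := Matrix.of fun i j => a i j + a j i with hG
  have key : ∀ x j, polarBilin (tableForm a) x (Pi.single j 1) = Matrix.vecMul x G j := fun x j => by
    rw [tableForm_polarBilin, Matrix.vecMul, dotProduct]
    simp [hG, Pi.single_apply]
  have hGu : IsUnit G := (Matrix.isUnit_iff_isUnit_det G).2 h
  refine ⟨fun x y hxy => Matrix.vecMul_injective_of_isUnit hGu (funext fun j => ?_), fun φ => ?_⟩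
  · show Matrix.vecMul x G j = Matrix.vecMul y G j
    rw [← key, ← key, hxy]
  · obtain ⟨x, hx⟩ := Matrix.vecMul_surjective_iff_isUnit.2 hGu fun j => φ (Pi.single j 1)
    refine ⟨x, (Pi.basisFun R ι).ext fun j => ?_⟩
    rw [Pi.basisFun_apply, key]
    exact congrFun hx j

theorem baseChange_tableForm (a : ι → ι → R) (B : Type u) [CommRing B] [Algebra R B] (z : B ⊗[R] (ι → R)) :
    QuadGrp.baseChangeForm B (tableForm a) z =
      tableForm (fun i j => algebraMap R B (a i j)) (((Pi.basisFun R ι).baseChange B).equivFun z) := by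
  set β := (Pi.basisFun R ι).baseChange B
  have h : ∀ k, β.equivFun (β k) = Pi.single k 1 := fun k => by
    funext j; simp [Pi.single_apply, eq_comm, Finsupp.single_apply]
  have : QuadGrp.baseChangeForm B (tableForm a) =
      (tableForm fun i j => algebraMap R B (a i j)).comp (β.equivFun : B ⊗[R] (ι → R) →ₗ[B] ι → B) := by
    refine form_ext β (fun i => ?_) fun i j => ?_
    · rw [QuadraticMap.comp_apply, LinearEquiv.coe_coe, h,
        tableForm_single, Module.Basis.baseChange_apply, bc_tmul, Pi.basisFun_apply, tableForm_single, one_mul,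
        one_mul]
    · rw [Module.Basis.baseChange_apply, Module.Basis.baseChange_apply, bc_polar, Pi.basisFun_apply, Pi.basisFun_apply,
        tableForm_polar, map_add, one_mul, one_mul]
      have h1 : ∀ k, β.equivFun ((1 : B) ⊗ₜ[R] (Pi.single k 1 : ι → R)) = Pi.single k 1 := fun k => by
        rw [← h k, Module.Basis.baseChange_apply, Pi.basisFun_apply]
      simp only [polar, QuadraticMap.comp_apply, LinearEquiv.coe_coe, map_add, h1]
      rw [← polar, tableForm_polar]
  exact congr($this z)

end Groth.Agent.CliffSm
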